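import Cfsg.Agent.H738.E83.Cube_mg
import Cfsg.Agent.H65.E8L.Chk_m3
import Cfsg.Agent.Lib.ListFast
import Cfsg.Agent.H791.E8L.Rel2_m3
import Cfsg.Agent.Prune
set_option linter.all false

section
prune_inst 0x7f00000000000000000000000000000000000000000000000000000000000000000000000000000000000000000000000000000000000000000000000000000000000000000000000000000000000000003fffffffffffffffffffffffffffbeffbdffffffff

-- part: H74/E83/LinDat_mg
section
set_option linter.all false
open scoped Cfsg.Agent.FastGrp

-- part: H74/E83/Ker
section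
/-!
# Kernels of systems of linear equations over `F₃` on the Lie algebra of `E₈(3)` (helper74, S5925, box K)

* `Rep V M` : `V` is a valid code of the matrix `M`; `Rep.one`, `Rep.word`, `Rep.add`, `Rep.sub`;
* `gj rs cs` : Gauss–Jordan elimination; `ker_sound` : every `v` killed by the rows is `∑ c_k • (column k of W)`.
-/

set_option autoImplicit false
set_option maxRecDepth 100000
set_option exponentiation.threshold 600

namespace Cfsg.Agent.H74.E83.Ker

open Matrix Cfsg.Lie Cfsg.Agent.ChevalleyStructure.Elts
open Cfsg.Agent.H992.E8X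
open Cfsg.Agent.H238.E8
open Cfsg.Agent.H788.E83 (SL5 it Lt ev wx wy wt wfa wfb ws As Ax Ay At Afa Afb)
open Cfsg.Agent.H64.E83 (mx L3 er vec Ph)
open Cfsg.Agent.H74.E83 Cfsg.Agent.H74.E83.Trit Cfsg.Agent.H74.E83.Code Cfsg.Agent.H74.E83.Elim Cfsg.Agent.H74.E83.Trip
open Cfsg.Agent.H751.Two.Word (sz pos posOK)

theorem ph_eq : ph = Ph := rfl

/-! ### sums of codes -/

/-- rowwise operation -/
def opM (f : ℕ → ℕ → ℕ) (n U V : ℕ) : ℕ :=
  match U with
  | 0 => (List.range n).foldr (fun i acc => put acc i (f (_root_.Cfsg.Agent.H74.E83.Code.row acc i) 0)) V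
  | U => (List.range n).foldr (fun i acc => put acc i (f (_root_.Cfsg.Agent.H74.E83.Code.row acc i) (_root_.Cfsg.Agent.H74.E83.Code.row U i))) V

theorem opM_eq (f : ℕ → ℕ → ℕ) (n U V : ℕ) :
    opM f n U V = (List.range n).foldr (fun i acc => put acc i (f (_root_.Cfsg.Agent.H74.E83.Code.row acc i) (_root_.Cfsg.Agent.H74.E83.Code.row U i))) V := by
  unfold opM
  cases U with
  | zero => simp only [row_zero]
  | succ U => rfl

/-- the sum `V + U` -/
def addM (U V : ℕ) : ℕ := opM tadd 248 U V

theorem op_aux {f : ℕ → ℕ → ℕ} (hf : ∀ a b, Vld a → Vld b → Vld (f a b)) {U V : ℕ} (hU : VldM U) (hV : VldM V) (l : List ℕ)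
    (hnd : l.Nodup) : VldM (l.foldr (fun i acc => put acc i (f (_root_.Cfsg.Agent.H74.E83.Code.row acc i) (_root_.Cfsg.Agent.H74.E83.Code.row U i))) V) ∧
      ∀ i, _root_.Cfsg.Agent.H74.E83.Code.row (l.foldr (fun i acc => put acc i (f (_root_.Cfsg.Agent.H74.E83.Code.row acc i) (_root_.Cfsg.Agent.H74.E83.Code.row U i))) V) i =
        if i ∈ l then f (_root_.Cfsg.Agent.H74.E83.Code.row V i) (_root_.Cfsg.Agent.H74.E83.Code.row U i) else _root_.Cfsg.Agent.H74.E83.Code.row V i := by
  induction l with
  | nil => exact ⟨hV, fun i => by simp⟩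
  | cons a l ih =>
    obtain ⟨h1, h2⟩ := ih (List.nodup_cons.1 hnd).2
    have ha := (List.nodup_cons.1 hnd).1
    rw [List.foldr_cons]
    have hv : Vld (f (_root_.Cfsg.Agent.H74.E83.Code.row (l.foldr (fun i acc => put acc i (f (_root_.Cfsg.Agent.H74.E83.Code.row acc i) (_root_.Cfsg.Agent.H74.E83.Code.row U i))) V) a) (_root_.Cfsg.Agent.H74.E83.Code.row U a)) :=
      hf _ _ (h1 a) (hU a)
    refine ⟨vldM_put h1 hv, fun i => ?_⟩
    rw [row_put hv.lt, h2 i]
    by_cases h : i = a
    · subst h
      rw [if_pos rfl, h2 i, if_neg ha, if_pos List.mem_cons_self]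
    · rw [if_neg h]
      by_cases h' : i ∈ l
      · rw [if_pos h', if_pos (List.mem_cons_of_mem _ h')]
      · rw [if_neg h', if_neg (fun h3 => (List.mem_cons.1 h3).elim h h')]

/-- a valid code of `M` -/
structure Rep (V : ℕ) (M : Matrix chevE8.Idx chevE8.Idx (ZMod 3)) : Prop where
  vld : VldM V
  sem : semM chevE8 V = M

theorem pos_lt' (j : chevE8.Idx) : pos chevE8 j < 248 := by
  have := (posOK chevE8).lt j
  rwa [sz_eq] at this

theorem Rep.one : Rep (idM 248) 1 := by
  refine ⟨vldM_id (by norm_num), ?_⟩
  have h := sem_id (D := chevE8) sz_le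
  rwa [sz_eq] at h

theorem Rep.word {V : ℕ} {M : Matrix chevE8.Idx chevE8.Idx (ZMod 3)} (h : Rep V M) {w : List Lt} (hw : ∀ l ∈ w, gd l)
    (hk : okW TX (phw w) = true) : Rep (wc TX (phw w) V) (mx (Ph (ev w)) * M) := by
  obtain ⟨h1, h2⟩ := sem_wc hE8 sz_le TX_ok hk h.vld
  refine ⟨h1, ?_⟩
  rw [h2, h.sem, ← ph_eq]
  show _ = ((ph (ev w) : GL chevE8.Idx (ZMod 3)) : Matrix chevE8.Idx chevE8.Idx (ZMod 3)) * M
  rw [coe_ph_wG hw]

theorem Rep.add {U V : ℕ} {A B : Matrix chevE8.Idx chevE8.Idx (ZMod 3)} (hA : Rep U A) (hB : Rep V B) :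
    Rep (addM U V) (B + A) := by
  obtain ⟨h1, h2⟩ := op_aux (f := tadd) (fun a b ha hb => vld_add ha hb) hA.vld hB.vld (List.range 248) List.nodup_range
  rw [addM, opM_eq]
  refine ⟨h1, ?_⟩
  ext i j
  have hi := pos_lt' i
  have hj : pos chevE8 j < 256 := (pos_lt' j).trans (by norm_num)
  rw [semM_apply, h2, if_pos (List.mem_range.2 hi), val_add (hB.vld _) (hA.vld _) hj, Matrix.add_apply, ← hA.sem, ← hB.sem,
    semM_apply, semM_apply]

/-- a row of the code of a matrix which kills `v` -/
theorem Rep.ann {V : ℕ} {M : Matrix chevE8.Idx chevE8.Idx (ZMod 3)} (h : Rep V M) {v : L3} (hv : M *ᵥ v = 0) {i : ℕ}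
    (hi : i < 248) : Ann v (_root_.Cfsg.Agent.H74.E83.Code.row V i) := by
  obtain ⟨k, rfl⟩ := (posOK chevE8).surj i (by rw [sz_eq]; exact hi)
  refine ⟨h.vld _, ?_⟩
  have h1 := congrFun hv k
  rw [← h.sem] at h1
  exact h1

/-! ### Gauss–Jordan elimination -/

/-- elimination, `done` : the finished rows -/
def gj : List ℕ → List ℕ → List ℕ → List ℕ
  | done, r :: rs, c :: cs => gj (nrm r c :: done.map (red (nrm r c) c)) (rs.map (red (nrm r c) c)) cs
  | done, _, _ => done

theorem gj_ann {v : L3} : ∀ (done rs cs : List ℕ), (∀ w ∈ done, Ann v w) → (∀ w ∈ rs, Ann v w) →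
    ∀ w ∈ gj done rs cs, Ann v w
  | done, [], cs, h1, _ => by unfold gj; exact h1
  | done, r :: rs, [], h1, _ => by unfold gj; exact h1
  | done, r :: rs, c :: cs, h1, h2 => by
    unfold gj
    have hr : Ann v (nrm r c) := nrm_ann sz_le (h2 r List.mem_cons_self)
    apply gj_ann
    · intro w hw
      rcases List.mem_cons.1 hw with rfl | hw
      · exact hr
      · obtain ⟨s, hs, rfl⟩ := List.mem_map.1 hw
        exact red_ann sz_le hr (h1 s hs)
    · intro w hw
      obtain ⟨s, hs, rfl⟩ := List.mem_map.1 hw
      exact red_ann sz_le hr (h2 s (List.mem_cons_of_mem _ hs))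

/-- the functional `v_c - ∑ W(c, k) v_{f_k}` -/
def xr (R c : ℕ) : ℕ → List ℕ → ℕ
  | _, [] => tun c
  | k, f :: fs => bif Nat.beq (bt R k) 1 then tsub (xr R c (k + 1) fs) (tun f) else
      bif Nat.beq (bt R (256 + k)) 1 then tadd (xr R c (k + 1) fs) (tun f) else xr R c (k + 1) fs

theorem dotp_tun (v : L3) (j : chevE8.Idx) : dotp (tun (pos chevE8 j)) v = v j := by
  unfold dotp
  have hk : pos chevE8 j < 256 := (pos_lt' j).trans (by norm_num)
  rw [Finset.sum_eq_single j]
  · rw [val_un hk, if_pos rfl, one_mul]
  · intro i _ hi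
    rw [val_un hk, if_neg (fun h => hi ((posOK chevE8).inj h)), zero_mul]
  · intro h5
    exact absurd (Finset.mem_univ _) h5

theorem dotp_add {a b : ℕ} (ha : Vld a) (hb : Vld b) (v : L3) : dotp (tadd a b) v = dotp a v + dotp b v := by
  unfold dotp
  rw [← Finset.sum_add_distrib]
  exact Finset.sum_congr rfl fun j _ => by rw [val_add ha hb (pos_lt sz_le j), add_mul]

theorem dotp_sub {a b : ℕ} (ha : Vld a) (hb : Vld b) (v : L3) : dotp (tsub a b) v = dotp a v - dotp b v := by
  unfold dotp
  rw [← Finset.sum_sub_distrib]
  exact Finset.sum_congr rfl fun j _ => by rw [val_sub ha hb (pos_lt sz_le j), sub_mul]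

/-- the linear combination of the free coordinates -/
def lc (R : ℕ) (v : L3) : ℕ → List ℕ → ZMod 3
  | _, [] => 0
  | k, f :: fs => val R k * dotp (tun f) v + lc R v (k + 1) fs

theorem tz_neg {w c : ℕ} (h1 : w.testBit c = false) (h2 : w.testBit (256 + c) = true) : val w c = -1 := by
  unfold val
  rw [h1, h2]; decide

theorem tz_zero {w c : ℕ} (h1 : w.testBit c = false) (h2 : w.testBit (256 + c) = false) : val w c = 0 := by
  unfold val
  rw [h1, h2]; decide

theorem dotp_xr {R c : ℕ} (hR : Vld R) (hc : c < 256) (v : L3) : ∀ (k : ℕ) (fs : List ℕ), k + fs.length ≤ 256 →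
    (∀ f ∈ fs, f < 256) → Vld (xr R c k fs) ∧ dotp (xr R c k fs) v = dotp (tun c) v - lc R v k fs
  | k, [], _, _ => ⟨vld_un hc, by unfold lc; rw [sub_zero]; rfl⟩
  | k, f :: fs, hk, hf => by
    have hk' : k + 1 + fs.length ≤ 256 := by rw [List.length_cons] at hk; omega
    obtain ⟨h1, h2⟩ := dotp_xr hR hc v (k + 1) fs hk' fun g hg => hf g (List.mem_cons_of_mem _ hg)
    have hf' := vld_un (hf f List.mem_cons_self)
    have hk2 : k < 256 := by rw [List.length_cons] at hk; omega
    unfold xr lc
    rw [bt_eq, bt_eq]
    rcases e1 : R.testBit k with _ | _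
    · rw [cond_false]
      rcases e2 : R.testBit (256 + k) with _ | _
      · rw [cond_false]
        refine ⟨h1, ?_⟩
        rw [h2, tz_zero e1 e2]; ring
      · rw [cond_true]
        refine ⟨vld_add h1 hf', ?_⟩
        rw [dotp_add h1 hf', h2, tz_neg e1 e2]; ring
    · rw [cond_true]
      refine ⟨vld_sub h1 hf', ?_⟩
      rw [dotp_sub h1 hf', h2, tz_one hR hk2 e1]; ring

/-- comparison with the expected rows -/
def cmp (W : ℕ) (fs : List ℕ) : List ℕ → List ℕ → Bool
  | [], [] => true
  | r :: rs, c :: cs => Nat.beq r (xr (_root_.Cfsg.Agent.H74.E83.Code.row W c) c 0 fs) && cmp W fs rs cs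
  | _, _ => false

theorem cmp_sound {W : ℕ} (hW : VldM W) {fs : List ℕ} (hl : fs.length ≤ 256) (hf : ∀ f ∈ fs, f < 256) {v : L3} :
    ∀ rs cs : List ℕ, cmp W fs rs cs = true → (∀ w ∈ rs, Ann v w) → (∀ c ∈ cs, c < 256) →
      ∀ c ∈ cs, dotp (tun c) v = lc (_root_.Cfsg.Agent.H74.E83.Code.row W c) v 0 fs
  | [], [], _, _, _ => fun c hc => absurd hc List.not_mem_nil
  | r :: rs, c :: cs, h, hA, hc => by
    unfold cmp at h
    rw [Bool.and_eq_true] at h
    obtain ⟨h1, h2⟩ := h
    have h3 := Nat.eq_of_beq_eq_true h1
    intro c' hc'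
    rcases List.mem_cons.1 hc' with rfl | hc'
    · have h4 := (hA r List.mem_cons_self).2
      rw [h3, (dotp_xr (hW c') (hc c' List.mem_cons_self) v 0 fs (by omega) hf).2] at h4
      exact sub_eq_zero.1 h4
    · exact cmp_sound hW hl hf rs cs h2 (fun w hw => hA w (List.mem_cons_of_mem _ hw))
        (fun c hc2 => hc c (List.mem_cons_of_mem _ hc2)) c' hc'
  | [], c :: cs, h, _, _ => by exact absurd h (by simp [cmp])
  | r :: rs, [], h, _, _ => by exact absurd h (by simp [cmp])

/-- the free coordinates -/
def fre (W : ℕ) (fs : List ℕ) : List ℕ → Bool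
  | [] => true
  | c :: cs => Nat.beq (xr (_root_.Cfsg.Agent.H74.E83.Code.row W c) c 0 fs) 0 && fre W fs cs

theorem fre_sound {W : ℕ} (hW : VldM W) {fs : List ℕ} (hl : fs.length ≤ 256) (hf : ∀ f ∈ fs, f < 256) (v : L3) :
    ∀ cs : List ℕ, fre W fs cs = true → (∀ c ∈ cs, c < 256) → ∀ c ∈ cs, dotp (tun c) v = lc (_root_.Cfsg.Agent.H74.E83.Code.row W c) v 0 fs
  | [], _, _ => fun c hc => absurd hc List.not_mem_nil
  | c :: cs, h, hc => by
    unfold fre at h
    rw [Bool.and_eq_true] at h
    obtain ⟨h1, h2⟩ := h
    have h3 := Nat.eq_of_beq_eq_true h1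
    intro c' hc'
    rcases List.mem_cons.1 hc' with rfl | hc'
    · have h4 := (dotp_xr (hW c') (hc c' List.mem_cons_self) v 0 fs (by omega) hf).2
      rw [h3] at h4
      have h5 : dotp 0 v = 0 := by
        unfold dotp
        exact Finset.sum_eq_zero fun j _ => by rw [val_zero, zero_mul]
      rw [h5] at h4
      exact (sub_eq_zero.1 h4.symm)
    · exact fre_sound hW hl hf v cs h2 (fun c hc2 => hc c (List.mem_cons_of_mem _ hc2)) c' hc'

/-- all indices are covered -/
def cov (cs fs : List ℕ) : Bool := (List.range 248).all fun n => cs.contains n || fs.contains n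

/-- small indices -/
def sml (l : List ℕ) : Bool := l.all fun n => Nat.blt n 248

theorem sml_lt {l : List ℕ} (h : sml l = true) : ∀ n ∈ l, n < 256 := by
  intro n hn
  have h1 := List.all_eq_true.1 h n hn
  have h2 : n < 248 := by simpa [Nat.blt_eq] using h1
  omega

/-- the whole check -/
def chk (rows cs fs : List ℕ) (W : ℕ) : Bool :=
  sml cs && (sml fs && (Nat.ble fs.length 256 && (cov cs fs && (fre W fs fs && cmp W fs (gj [] rows cs) cs.reverse))))

theorem ker_sound {rows cs fs : List ℕ} {W : ℕ} (h : chk rows cs fs W = true) (hW : VldM W) {v : L3}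
    (hv : ∀ w ∈ rows, Ann v w) (j : chevE8.Idx) : v j = lc (_root_.Cfsg.Agent.H74.E83.Code.row W (pos chevE8 j)) v 0 fs := by
  unfold chk at h
  simp only [Bool.and_eq_true] at h
  obtain ⟨h1, h2, h3, h4, h5, h6⟩ := h
  have hl : fs.length ≤ 256 := Nat.le_of_ble_eq_true h3
  have hg := gj_ann (v := v) [] rows cs (fun w hw => absurd hw List.not_mem_nil) hv
  have h7 := cmp_sound hW hl (sml_lt h2) _ _ h6 hg (fun c hc => sml_lt h1 c (List.mem_reverse.1 hc))
  have h8 := fre_sound hW hl (sml_lt h2) v fs h5 (sml_lt h2)
  have h9 := List.all_eq_true.1 h4 (pos chevE8 j) (List.mem_range.2 (pos_lt' j))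
  rw [← dotp_tun v j]
  rw [Bool.or_eq_true] at h9
  rcases h9 with h9 | h9
  · exact h7 _ (List.mem_reverse.2 (List.contains_iff_mem.1 h9))
  · exact h8 _ (List.contains_iff_mem.1 h9)

end Cfsg.Agent.H74.E83.Ker
end

-- part: H74/E83/Vecs
section
/-!
# Matrices with given columns (helper74, S5925, box K)

* `mkW 0 ls` : the code of the matrix whose column number `k` is `vec (ls.getD k [])` (`H64.E83.vec`);
* `ker_vec` : every `v` killed by the rows is `combo v fs ls`;
* `img` : the images of the vectors under a matrix, from an equality of codes.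
-/

set_option autoImplicit false
set_option maxRecDepth 100000
set_option exponentiation.threshold 600

namespace Cfsg.Agent.H74.E83.Ker

open Matrix Cfsg.Lie Cfsg.Agent.ChevalleyStructure.Elts
open Cfsg.Agent.H992.E8X
open Cfsg.Agent.H64.E83 (mx L3 er vec Ph vec_nil vec_cons)
open Cfsg.Agent.H74.E83 Cfsg.Agent.H74.E83.Trit Cfsg.Agent.H74.E83.Code Cfsg.Agent.H74.E83.Elim Cfsg.Agent.H74.E83.Trip
open Cfsg.Agent.H751.Two.Word (sz pos posOK)

theorem pos_inr (u : Fin chevE8.nroots) : pos chevE8 (Sum.inr u) = 8 + u.val := rfl

theorem pos_inl (a : Fin chevE8.rank) : pos chevE8 (Sum.inl a) = a.val := rfl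

theorem er_pos (k : ℕ) (j : chevE8.Idx) : er k j = if pos chevE8 j = 8 + k then 1 else 0 := by
  rcases j with a | u
  · have h1 : a.val < 8 := a.2
    rw [pos_inl, if_neg (by omega)]
    rfl
  · rw [pos_inr]
    show (if u.val = k then (1 : ZMod 3) else 0) = _
    by_cases h : u.val = k
    · rw [if_pos h, if_pos (by omega)]
    · rw [if_neg h, if_neg (by omega)]

/-- `a + c b` -/
def addc (c : ℤ) (a b : ℕ) : ℕ :=
  match (c % 3).toNat with
  | 0 => a
  | 1 => tadd a b
  | _ => tsub a b

theorem addc_spec (c : ℤ) {a b : ℕ} (ha : Vld a) (hb : Vld b) : Vld (addc c a b) ∧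
    ∀ m < 256, val (addc c a b) m = val a m + (c : ZMod 3) * val b m := by
  have hc : ((c : ℤ) : ZMod 3) = ((c % 3 : ℤ) : ZMod 3) := (ZMod.intCast_mod c 3).symm
  have h3 : c % 3 = 0 ∨ c % 3 = 1 ∨ c % 3 = 2 := by omega
  unfold addc
  rcases h3 with h | h | h
  · rw [hc, h]
    exact ⟨ha, fun m _ => by simp⟩
  · rw [hc, h]
    exact ⟨vld_add ha hb, fun m hm => by
      show val (tadd a b) m = _
      rw [val_add ha hb hm, Int.cast_one, one_mul]⟩
  · rw [hc, h]
    refine ⟨vld_sub ha hb, fun m hm => ?_⟩
    show val (tsub a b) m = _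
    rw [val_sub ha hb hm]
    have h5 : ((2 : ℤ) : ZMod 3) = -1 := by decide
    rw [h5]; ring

/-- add `vec l` to column `k` -/
def mk1 (k : ℕ) (l : List (ℕ × ℤ)) (V : ℕ) : ℕ :=
  l.foldr (fun e acc => put acc (8 + e.1) (addc e.2 (_root_.Cfsg.Agent.H74.E83.Code.row acc (8 + e.1)) (tun k))) V

theorem mk1_spec {k : ℕ} (hk : k < 256) (l : List (ℕ × ℤ)) {V : ℕ} (hV : VldM V) : VldM (mk1 k l V) ∧
    ∀ (j : chevE8.Idx) (m : ℕ), m < 256 →
      val (_root_.Cfsg.Agent.H74.E83.Code.row (mk1 k l V) (pos chevE8 j)) m = val (_root_.Cfsg.Agent.H74.E83.Code.row V (pos chevE8 j)) m + if m = k then _root_.Cfsg.Agent.H64.E83.vec l j else 0 := by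
  unfold mk1
  induction l with
  | nil => exact ⟨hV, fun j m _ => by rw [vec_nil]; simp⟩
  | cons e l ih =>
    obtain ⟨h1, h2⟩ := ih
    obtain ⟨h3, h4⟩ := addc_spec e.2 (h1 (8 + e.1)) (vld_un hk)
    rw [List.foldr_cons]
    refine ⟨vldM_put h1 h3, fun j m hm => ?_⟩
    rw [row_put h3.lt, vec_cons, Pi.add_apply, Pi.smul_apply, er_pos, smul_eq_mul]
    by_cases h : pos chevE8 j = 8 + e.1
    · rw [if_pos h, if_pos h, h4 m hm, val_un hk, ← h, h2 j m hm]
      split_ifs
      · ring
      · ring
    · rw [if_neg h, if_neg h, h2 j m hm, mul_zero, zero_add]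

/-- the matrix with the given columns -/
def mkW : ℕ → List (List (ℕ × ℤ)) → ℕ
  | _, [] => 0
  | k, l :: ls => mk1 k l (mkW (k + 1) ls)

theorem mkW_spec : ∀ (k : ℕ) (ls : List (List (ℕ × ℤ))), k + ls.length ≤ 256 → VldM (mkW k ls) ∧
    ∀ (j : chevE8.Idx) (m : ℕ), m < 256 →
      val (_root_.Cfsg.Agent.H74.E83.Code.row (mkW k ls) (pos chevE8 j)) m = if k ≤ m then _root_.Cfsg.Agent.H64.E83.vec (ls.getD (m - k) []) j else 0
  | k, [], _ => ⟨vldM_zero, fun j m _ => by
      show val (_root_.Cfsg.Agent.H74.E83.Code.row 0 _) m = _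
      rw [row_zero, val_zero]
      have : ([] : List (List (ℕ × ℤ))).getD (m - k) [] = [] := rfl
      rw [this, vec_nil]; simp⟩
  | k, l :: ls, h => by
    rw [List.length_cons] at h
    obtain ⟨h1, h2⟩ := mkW_spec (k + 1) ls (by omega)
    obtain ⟨h3, h4⟩ := mk1_spec (k := k) (by omega) l h1
    refine ⟨h3, fun j m hm => ?_⟩
    show val (_root_.Cfsg.Agent.H74.E83.Code.row (mk1 k l (mkW (k + 1) ls)) _) m = _
    rw [h4 j m hm, h2 j m hm]
    rcases lt_trichotomy m k with h5 | h5 | h5
    · rw [if_neg (by omega), if_neg (by omega), if_neg (by omega), add_zero]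
    · subst h5
      rw [if_neg (by omega), if_pos rfl, if_pos le_rfl, Nat.sub_self, zero_add]
      rfl
    · obtain ⟨d, rfl⟩ : ∃ d, m = k + 1 + d := ⟨m - (k + 1), by omega⟩
      rw [if_pos (by omega), if_neg (by omega), if_pos (by omega), add_zero, show k + 1 + d - (k + 1) = d by omega,
        show k + 1 + d - k = d + 1 by omega]
      rfl

/-- the linear combination -/
def combo (v : L3) : List ℕ → List (List (ℕ × ℤ)) → L3
  | f :: fs, l :: ls => dotp (tun f) v • _root_.Cfsg.Agent.H64.E83.vec l + combo v fs ls
  | _, _ => 0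

theorem lc_combo {R : ℕ} {v : L3} {j : chevE8.Idx} : ∀ (k : ℕ) (fs : List ℕ) (ls : List (List (ℕ × ℤ))),
    fs.length = ls.length → (∀ i, i < ls.length → val R (k + i) = _root_.Cfsg.Agent.H64.E83.vec (ls.getD i []) j) → lc R v k fs = combo v fs ls j
  | k, [], [], _, _ => rfl
  | k, f :: fs, l :: ls, h, hv => by
    have h1 := lc_combo (R := R) (v := v) (j := j) (k + 1) fs ls (by simpa using h) (fun i hi => by
      have h2 := hv (i + 1) (by rw [List.length_cons]; omega)
      rw [show k + 1 + i = k + (i + 1) by omega, h2]
      rfl)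
    show val R k * dotp (tun f) v + lc R v (k + 1) fs = (dotp (tun f) v • _root_.Cfsg.Agent.H64.E83.vec l + combo v fs ls) j
    have h2 := hv 0 (by rw [List.length_cons]; omega)
    rw [h1, Pi.add_apply, Pi.smul_apply, smul_eq_mul]
    rw [add_zero] at h2
    rw [h2, mul_comm]
    rfl
  | k, [], l :: ls, h, _ => by simp at h
  | k, f :: fs, [], h, _ => by simp at h

theorem ker_vec {rows cs fs : List ℕ} {ls : List (List (ℕ × ℤ))} (hlen : fs.length = ls.length) (hl : ls.length ≤ 256)
    (h : chk rows cs fs (mkW 0 ls) = true) {v : L3} (hv : ∀ w ∈ rows, Ann v w) : v = combo v fs ls := by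
  obtain ⟨h1, h2⟩ := mkW_spec 0 ls (by omega)
  funext j
  rw [ker_sound h h1 hv j]
  apply lc_combo 0 fs ls hlen
  intro i hi
  rw [h2 j (0 + i) (by omega), if_pos (by omega)]
  congr 3
  omega

end Cfsg.Agent.H74.E83.Ker
end

-- part: H74/E83/Ops
section
/-!
# The operators of box K as codes (helper74, S5925)

* `aX aY aT : ℕ → ℕ` : the code of `x M`, `y M`, `t M`; `rX rY rT` : `Rep V M → Rep (aX V) (mx x1 * M)`;
* `nqX` : `x² + x⁶ + x⁷ + x⁸ + x¹⁰`, `qrX` : `x + x³ + x⁴ + x⁵ + x⁹`, `ysV` : `1 + y + y² + y³ + y⁴`.
-/

set_option autoImplicit false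
set_option maxRecDepth 100000
set_option exponentiation.threshold 600

namespace Cfsg.Agent.H74.E83.Ker

open Matrix Cfsg.Lie Cfsg.Agent.ChevalleyStructure.Elts
open Cfsg.Agent.H992.E8X
open Cfsg.Agent.H788.E83 (SL5 it Lt ev wx wy wt wfa wfb ws As Ax Ay At Afa Afb)
open Cfsg.Agent.H64.E83 (mx L3 er vec Ph vec_nil vec_cons)
open Cfsg.Agent.H74.E83 Cfsg.Agent.H74.E83.Trit Cfsg.Agent.H74.E83.Code Cfsg.Agent.H74.E83.Elim Cfsg.Agent.H74.E83.Trip
open Cfsg.Agent.H751.Two.Word (sz pos posOK)

/-- `x M` -/
def aX (V : ℕ) : ℕ := wc TX wX V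
/-- `y M` -/
def aY (V : ℕ) : ℕ := wc TX wY V
/-- `t M` -/
def aT (V : ℕ) : ℕ := wc TX wT V

abbrev M8 : Type := Matrix chevE8.Idx chevE8.Idx (ZMod 3)

/-- the matrix of `x` -/
noncomputable abbrev MX : M8 := mx x1
/-- the matrix of `y` -/
noncomputable abbrev MY : M8 := mx y1
/-- the matrix of `t` -/
noncomputable abbrev MT : M8 := mx Trip.t1

theorem phw_x : phw wx = wX := by decide +kernel

theorem phw_y : phw wy = wY := by decide +kernel

theorem phw_t : phw wt = wT := by decide +kernel

theorem rX {V : ℕ} {M : M8} (h : Rep V M) : Rep (aX V) (MX * M) := by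
  have h1 := Rep.word h (w := wx) (by decide +kernel) (by decide +kernel)
  rw [phw_x] at h1
  exact h1

theorem rY {V : ℕ} {M : M8} (h : Rep V M) : Rep (aY V) (MY * M) := by
  have h1 := Rep.word h (w := wy) (by decide +kernel) (by decide +kernel)
  rw [phw_y] at h1
  exact h1

theorem rT {V : ℕ} {M : M8} (h : Rep V M) : Rep (aT V) (MT * M) := by
  have h1 := Rep.word h (w := wt) (by decide +kernel) (by decide +kernel)
  rw [phw_t] at h1
  exact h1

/-- `x² + x⁶ + x⁷ + x⁸ + x¹⁰` -/
def nqX (V : ℕ) : ℕ := aX (aX (addM V (aX (aX (aX (aX (addM V (aX (addM V (aX (addM V (aX (aX V)))))))))))))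

/-- `1 + y + y² + y³ + y⁴` -/
def ysV (V : ℕ) : ℕ := addM V (aY (addM V (aY (addM V (aY (addM V (aY V)))))))

theorem poly_nq {R : Type*} [Ring R] (A M : R) :
    A * (A * (A * (A * (A * (A * (A * (A * (A * (A * M) + M) + M) + M)))) + M)) =
      (A ^ 2 + A ^ 6 + A ^ 7 + A ^ 8 + A ^ 10) * M := by noncomm_ring

theorem poly_ys {R : Type*} [Ring R] (A M : R) :
    A * (A * (A * (A * M + M) + M) + M) + M = (1 + A + A ^ 2 + A ^ 3 + A ^ 4) * M := by noncomm_ring

theorem rNq {V : ℕ} {M : M8} (h : Rep V M) :
    Rep (nqX V) ((MX ^ 2 + MX ^ 6 + MX ^ 7 + MX ^ 8 + MX ^ 10) * M) := by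
  have h1 := h.add (rX (rX h))
  have h2 := h.add (rX h1)
  have h3 := h.add (rX h2)
  have h4 := h.add (rX (rX (rX (rX h3))))
  have h5 := rX (rX h4)
  rw [poly_nq] at h5
  exact h5

theorem rYs {V : ℕ} {M : M8} (h : Rep V M) : Rep (ysV V) ((1 + MY + MY ^ 2 + MY ^ 3 + MY ^ 4) * M) := by
  have h1 := h.add (rY h)
  have h2 := h.add (rY h1)
  have h3 := h.add (rY h2)
  have h4 := h.add (rY h3)
  rw [poly_ys] at h4
  exact h4

/-! ### the operators on vectors -/

/-- `x² v + x⁶ v + x⁷ v + x⁸ v + x¹⁰ v` -/
noncomputable def nqs (v : L3) : L3 :=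
  mx (x1 ^ 2) *ᵥ v + mx (x1 ^ 6) *ᵥ v + mx (x1 ^ 7) *ᵥ v + mx (x1 ^ 8) *ᵥ v + mx (x1 ^ 10) *ᵥ v

/-- `v + y v + y² v + y³ v + y⁴ v` -/
noncomputable def yso (v : L3) : L3 :=
  v + mx y1 *ᵥ v + mx (y1 ^ 2) *ᵥ v + mx (y1 ^ 3) *ᵥ v + mx (y1 ^ 4) *ᵥ v

theorem mx_pow (g : G3) (n : ℕ) : mx (g ^ n) = (mx g) ^ n := by
  show (((g ^ n : G3) : GL chevE8.Idx (ZMod 3)) : M8) = _
  rw [SubmonoidClass.coe_pow, Units.val_pow_eq_pow_val]

theorem nqs_eq (v : L3) : nqs v = (MX ^ 2 + MX ^ 6 + MX ^ 7 + MX ^ 8 + MX ^ 10) *ᵥ v := by
  unfold nqs
  simp only [mx_pow, Matrix.add_mulVec]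

theorem yso_eq (v : L3) : yso v = (1 + MY + MY ^ 2 + MY ^ 3 + MY ^ 4) *ᵥ v := by
  unfold yso
  simp only [mx_pow, Matrix.add_mulVec, Matrix.one_mulVec]

end Cfsg.Agent.H74.E83.Ker
end

-- part: H74/E83/LinDat
section
/-!
# Data of the two linear systems of box K (helper74, S5925)
-/

set_option autoImplicit false
set_option maxRecDepth 100000
set_option exponentiation.threshold 600

namespace Cfsg.Agent.H74.E83.Ker

open Cfsg.Agent.H74.E83 Cfsg.Agent.H74.E83.Trit Cfsg.Agent.H74.E83.Code Cfsg.Agent.H74.E83.Elim

/-- `x² + x⁶ + x⁷ + x⁸ + x¹⁰` -/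
def cN : ℕ := nqX (idM 248)

/-- `(1 + y + y² + y³ + y⁴) t` -/
def cU : ℕ := ysV mT

/-- `(1 + x² + x⁶ + x⁷ + x⁸ + x¹⁰)(1 + y + y² + y³ + y⁴) t` -/
def cE : ℕ := addM cU (nqX cU)

/-- row of `M + 1` -/
def negRow (V i : ℕ) : ℕ := tadd (row V i) (tun i)

/-- the vector `w1` -/
def lw1 : List (ℕ × ℤ) :=
  [(4, 1), (5, 1), (7, 1), (8, 1), (9, 2), (15, 2), (21, 1), (126, 2), (127, 2), (128, 2), (129, 1), (131, 2), (133,
   1), (134, 2), (139, 1), (140, 2), (143, 2), (145, 1), (146, 2), (150, 1), (151, 2), (152, 2), (153, 1), (154, 1),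
   (155, 1), (166, 2), (170, 1), (171, 2), (172, 2), (173, 1), (175, 2), (176, 1), (177, 1), (184, 2), (185, 1)]

/-- the vector `w2` -/
def lw2 : List (ℕ × ℤ) :=
  [(17, 1), (18, 2), (19, 2), (22, 1), (23, 2), (25, 2), (26, 1), (28, 2), (29, 1), (37, 1), (38, 2), (39, 1), (156,
   1), (157, 1), (158, 1), (159, 1), (160, 1), (161, 2)]

/-- the vector `w3` -/
def lw3 : List (ℕ × ℤ) :=
  [(30, 1), (32, 2), (44, 2), (49, 2), (51, 2), (60, 2), (78, 1), (80, 2), (81, 1), (82, 1), (200, 1), (201, 2), (211,
   1), (214, 1), (216, 1), (217, 1), (220, 1), (222, 1)]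

/-- the vector `w4` -/
def lw4 : List (ℕ × ℤ) :=
  [(54, 1), (55, 2), (62, 2), (63, 2), (64, 2), (65, 1), (66, 1), (69, 2), (71, 2), (72, 2), (73, 1), (74, 1), (84, 2),
   (87, 2), (88, 2), (89, 1), (90, 2), (93, 2), (94, 2), (96, 2), (99, 2), (100, 1), (101, 1), (102, 1), (105, 2),
   (106, 2), (107, 1), (108, 2), (111, 1), (113, 2), (223, 1), (224, 1), (230, 2), (232, 2), (234, 2), (235, 2)]

/-- the vector `w5` -/
def lw5 : List (ℕ × ℤ) :=
  [(30, 1), (31, 2), (32, 2), (33, 2), (34, 1), (40, 2), (41, 2), (42, 1), (43, 2), (44, 2), (46, 1), (47, 1), (48, 2),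
   (49, 1), (50, 1), (51, 2), (56, 1), (57, 2), (59, 2), (61, 1), (200, 1), (201, 1), (203, 1), (210, 1), (212, 1),
   (214, 2), (215, 2), (217, 1), (219, 1), (220, 1), (221, 1), (222, 2)]

/-- the vector `w6` -/
def lw6 : List (ℕ × ℤ) :=
  [(52, 1), (63, 1), (68, 1), (74, 1)]

/-- the value of `cN` -/
def lN : ℕ := 0xd0000000000000000000000000003414000000000000000000000000000f90000000000000000000000000000000016000000000000000000000000000000000e0000000000000000000000000003f50000000000000000000000000000200000000000000000000000000000000008c0000000000000000000000000000c00070000000000000000000000000001b8800000000000000000000000000011000000000000000000000000000000000600000000000000000000000000006800030000000000000000000000000000870000000000000000000000000000310000000000000000000000000000000050c000000000000000000000000000c000005c084000000000000000000000000001a21a4d0008800e0000000000000000002020000000000000000000000000003c4184200023380100000000000000000054084000000000000000000000000000201a420010040e000000000000000000800000000000000000000000000000218604a40041f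800000000000000000000d01000000000000000000000000000010004c400181c0200000000000000000024200000000000000000000000000024a082030001400c0000000000000000002c08400000000000000000000000000801002d0070c800000000000000000000c0300000000000000000000000000001009ed20009100d0000000000000000002c0040000000000000000000000000104400cd00732804000000000000000000102000000000000000000000000000292290120000100200000000000000000020184000000000000000000000000008800480000074020000000000000000001820000000000000000000000000003544800f0068880d000000000000000000018008c0700000000000000000000000000000000001500640a00000000000000044320080000000000000000000000000000048000220a1105800000000000001c12c40700000000000000000000000000000140000208e000400000000000000001180800000000000000000000000000000a800039021708800000000000002c213003000000000000000000000000000004c00009019804800000000000000040c808000000000000000000000000000008000034004209400000000000001002b000000000000000000000000000000004400012020c0c800000000000000068440f00000000000000000000000000000200002c01e1024000000000000000000000000000000000000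0000000881000e00100804000000000000000000dc104000000000000000000000000034461ae10008e0010000000000000000000008000000000000000000000000000880081e0038f0080000000000000000009c3000000000000000000000000000354384e0004308020000000000000000001010000000000000000000000000000580067200203000000000000000000000a028400000000000000000000000000802880c00428c0300000000000000000002000080300000000000000000000000000000a00000408a804400000000000001c723008000000000000000000000000000005800028054109000000000000002000ac010000000000000000000000000000004000040e4805c00000000000001c78100600000000000000000000000000000880000800a308000000000000002001100c0000000000000000000000000000048000040d0100800000000000000c1a0c02000000000000000000000000000009400001024606000000000000003c00280c00000000000000000000000000000c8000000b070840000000000000005b44010000000000000000000000000000024000230488030000000000000f420000000000000000000000000003400022400021c0100000000000000000000180000000000000000000000000001c19c81007120020000000000000000000200000020000000000000000000000000000044000180a1500400000000000000c23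a00c00000000000000000000000000000900002301220a000000000000001870080b000000000000000000000000000005c00002020208c00000000000000403c0040000000000000000000000000000080000140139020000000000000008301004000000000000000000000000000000800008004901800000000000003048e003000000000000000000000000000006000035013400400000000000000410000a00000000000000000000000000000840001708d202000000000000003062f401000000000000000000000000000003000000002c01c00000000000003000000000000000000000000000000000000040001808c408800000000000000829380800000000000000000000000000000a0000040628054000000000000010438002000000000000000000000000000008c0003c05040e400000000000002c103c00000000000000000000000000000002000000008800800000000000000c0180040000000000000000000000000000018000010d440d00000000000000104a4c0800000000000000000000000000000040001c020102400000000000000410800000000000000000000000000000000200002a00000b0000000000000028232c0d000000000000000000000000000001c0000105e30480000000000000000000d09540480000d00000000000000000000000000000c0048408000000000000032048000000032000000000000000000000000000002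03000300000000000000200d8e07400020000000000000000000000000000001014841000000000000000f02500000000f00000000000000000000000000000400a4a04000000000000015060201800015000000000000000000000000000000001040400000000000002a08840000002a000000000000000000000000000001024420000000000000000900c30f80000900000000000000000000000000000c003900c000000000000002041c000000020000000000000000000000000000030204e3000000000000000802a105c00008000000000000000000000000000000002163c00000000000001105460000001100000000000000000000000000000f035c80000000000000000200d00100000200000000000000000000000000000f03294000000000000000090a00000000090000000000000000000000000000000090a3c000000002020000000000000000000000000000000000880003401180a000000000000000011500e00000000000000000000000000000540000b062301000000000000000022380000000000000000000000000000000e400008000202000000000000000848800f0000000000000000000000000000008000120f1401000000000000002018180000000000000000000000000000000d00000a070800400000000000001042640300000000000000000000000000000240003000750100000000000000344088000000000000000000000000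0000000b000014005708c00000000000000031300b0000000000000000000000000000048000210a800000000000000000000002003650500000000000000000000000000000000000000b000000000000000001f0c920000001200000000000000000000000000000c0304408000000000000012083603800000000000000000000000000000000000010921400000000000002d03c90400001d000000000000000000000000000006005440800000000000002805580080000000000000000000000000000000000000642040000000000000130aa2010000060000000000000000000000000000030000808000000000000034024300c0000000000000000000000000000000000800e021c00000000000000300900700003e0000000000000000000000000000030301c20000000000000006020a0840000000000000000000000000000000000003f4e10000000000000019045501800017000000000000000000000000000004000102c00000000000000d00830400000000000000000000000000000000000a000881400000000000000202680000000400000000000000000000000000000003f1428000000000000006080d09400000000000000000000000000000000000033020800000000000001007f204800014000000000000000000000000000000000980000000000000000304a00d8000100000000000000000000000000000040184a0800000000000000c0b4f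0240000e00000000000000000000000000000800104240000000000000000a150600000400000000000000000000000000000400c001000000000000000204ea0880000200000000000000000000000000000200052040000000000000210d0900c0001c00000000000000000000000000000000f003800000000000000200c204000003000000000000000000000000000006020d0040000000000000300188028000060000000000000000000000000000030100020000000000000001065105400021000000000000000000000000000000003da1c000000000000014034200c00000000000000000000000000000000001003d82800000000000000000890a000010000000000000000000000000000000028041000000000000000000000020040089410504000000000000000000000000021c01000000000000000000d00b800076300080000000000000000000000000000036000000000000000000003012004c2082a0000000000000000000000000001c00000000000000000000e007c000b319040000000000000000000000000000000400000000000000000000381800261041100000000000000000000000000000280000000000000000007003c00051098200000000000000000000000000001016000000000000000000001c0c009b4820880000000000000000000000000000100000000000000000003021c0002001c50000000000000000000000000002182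e0000000000002101a00340001200000000000000000000000000000e0000430000000000000006041f0c800025000000000000000000000000000001003180400000000000002000d2080000090000000000000000000000000000010200808000000000000007032d03c0003600000000000000000000000000000e011821400000000000001800280540002200000000000000000000000000000c008022400000000000002400930a800018000000000000000000000000000000010c00000000000000001008740240001000000000000000000000000000000601a062000000000000000f008300800003000000000000000000000000000009000d80000000000000002c0c06020000150000000000000000000000000000000001e3400000000000001000590440000a00000000000000000000000000000a00d0000000000000000013050d0080002800000000000000000000000000000400280080000000000000280002024000030000000000000000000000000000020041e300000000000000000000200e00000149670400000000000000000000000002103b0000000000000000008010dc0038308028000000000000000000000000000400000000000000000000102500008060a7a0000000000000000000000000020002000000000000000000c0085e001c184014000000000000000000000000000c3400000000000000000000128000483047900000000000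0000000000000000080d000000000000000000e0041e0086092008000000000000000000000000021010000000000000000000800940002c5923a8000000000000000000000000000c0100000000000000000070220e004300800400000000000000000000000002001e0000000000000000008030d000d07002200000000000000000000000000004300000000000000000001009040002092580000000000000000000000000021801000000000000000000c01a5800e038011000000000000000000000000002041e00000000000000000000248200090082a0000000000000000000000000001001000000000000000000600d1c0070590488000000000000000000000000020804000000000000000000803040000c00413000000000000000000000000000040300000000000000000030048e0030298204000000000000000000000000020006000000000000000000c01a1000060024b800000000000000000000000000142900000000000000000000002000008410000000100000018000000000000000000100000000000000000000010000020040000008400002040000000000000000001000000000000000502080008108400000000000000000000000000002180800000000000000000000061a006a010708000000000000000000000000000417000000000000000000203040004840200000000000000000000000000000080000000000000000000080031c0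0350187a4000000000000000000000000021007000000000000000000901800002420000000000000000000000000000000002400000000000000000040238e001201c7b0000000000000000000000000021810000000000000000000c00e00009a1100000000000000000000000000000004060000000000000000002031c6000100e39800000000000000000000000000183000000000000000000000000100000418000002106000030000000000000000000000000000000000000000208000000040000000000000800000000000000000014000000000000000000000800084080000000800000100000000000000000000d00000000000000000000140000200400002106100000000000000000000000000000000000000000000004000821000000000210002800000000000000000004000000000000000000020800000004000001800000104000000000000000001100000000012000003400032000000000000000000000000000001008843000000000000002505120c80000d00000000000000000000000000000c000180800000000000000904000800000f0000000000000000000000000000050088804000000000000036039d03c00020000000000000000000000000000002025421000000000000002201000540002a000000000000000000000000000000010820000000000000001800860a80001500000000000000000000000000000900440040000000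0000001007000240000200000000000000000000000000000003a063000000000000000300fe00800009000000000000000000000000000008005d80c000000000000015018002000011000000000000000000000000000000022de0000000000000000a08570440000800000000000000000000000000000d01d003c00000000000002800000080000900000000000000000000000000000c02a803c0000000000000030404024000020000000000000000000000000000020115e000000000000000000000002042000338249800000000000000000000000002043a000000000000000000200280005041c320000000000000000000000000001800000000000000000000001210008158060c000000000000000000000000020000000000000000000000902140002820e1900000000000000000000000000010340000000000000000000009080048280304000000000000000000000000000002000000000000000000c030800094116088000000000000000000000000001829000000000000000000000684002410058000000000000000000000000000000d00000000000000000060384000c248a024000000000000000000000000001802000000000000000000e02c020015184098000000000000000000000000000c04000000000000000000001394006800042400000000000000000000000002002b000000000000000000f01410000209200c00000000000000000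000000000083e000000000000000000000bca00b4400630000000000000000000000000021000000000000000000000f0080800814184040000000000000000000000000014120000000000000000000027c4005a200318000000000000000000000000000021000000000000000000702414004020c6000000000000000000000000000204030000000000000000000011c200ad1001ac00000000000000000000000000181000000000000000000000002000000010400002184000028400000000000000000010000000000000000000010000860000000000010001000000000000000000018000000000000000103a5000c100001c00000000000000000000000000003b00000000000000000000058c003629a1a0000000000000000000000000020804000000000000000000801f0800e040042c0000000000000000000000000010000000000000000000000000c6001b11c09000000000000000000000000000003a000000000000000000402d840078200214000000000000000000000000000410000000000000000000000042008548e4080000000000000000000000000008090000000000000000002016d20034100108000000000000000000000000000805000000000000000000000000004a606224000000000000000000000000001420000000000000000000000020400000000000000060000080000000000000000000000000000000000000000100000600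4000000801000104000000000000000000f000000000000000000000c00080080000000041000080000000000000000001800000000000000000002100000200000000100000020400000000000000000010000000000000002002d00011016004000000000000000000000000020030000000000000000000802500000868813800000000000000000000000000040a000000000000000000100148008000a000000000000000000000000000021800000000000000000000c01090000c70449c0000000000000000000000000004170000000000000000000020840048004000000000000000000000000000001004000000000000000000e00a58000639262c000000000000000000000000020c10000000000000000000803242002c01200000000000000000000000000000180900000000000000000070051c0003188314000000000000000000000000020414000000000000000000000001000080084000000800000180000000000000000001e000000000000000000020800002100000020060000004000000000000000000000000000000000000000080000010000000102100008000000000000000000090000000000000000000014000060800000208000000000000000000000000010000000000000000a00a0c00c231028000000000000000000000000002100d000000000000000000100052002c08240c000000000000000000000000000c300000000000000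000005027060069598120000000000000000000000000001800000000000000000000800018009600020400000000000000000000000000003f000000000000000000203182003c28c09000000000000000000000000002080800000000000000000040020c00c34105200000000000000000000000000004060000000000000000001018c00016506008000000000000000000000000020c02000000000000000000a0031600612186900000000000000000000000000000340000000000000000000000008000000000000200210000840000000000000000007000000000000000000001000084004000000040000200000000000000000000000000000000000080341000c260230000000000000000000000000000100f0000000000000000006000ce000c180094000000000000000000000000000c10000000000000000000403a0800697105a0000000000000000000000000000800000000000000000000300056000608000800000000000000000000000000001b000000000000000000201d04003c38829000000000000000000000000000040200000000000000000010020a0003400424000000000000000000000000020001000000000000000000900c920016184508000000000000000000000000020000000000000000000000000104000120023000000000000000000000000000143800000a0000000000000000000000000000144000000000000000000000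00000000000100000000000000000000000000032880000000000000000000000000008b0005000000000000000000000000000005800000000000000000000000000020000800000000000000000000000000038200000000000000000000000000001e00020000000000000000000000000000148000000000000000000000000000020004000000000000000000000000000181400000000000000000000000000059000a00000000000000000000000000000e00000000000000000000000000008100040000000000000000000000000002e140000000000000000000000000004e000500000000000000000000000000020ac00000000000000000000000000014000a00000000000000000000000000016400000000000000000000000000000100000000000000000000000000000001030000000000000000000000000000c8000b0000000000000000000000000002d88000000000000000000000000000220000000000000000000000000000000350000000000000000000000000000045000e00000000000000000000000000002b800000000000000000000000000000000000000000000000000000000000032000000000000000000000000000004b0006000000000000000000000000000084c0000000000000000000000000009000000000000000000000000000000001e1000000000000000000000000000020000700000000000000000000000000000e400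0000000000000000000000000ce00090000000000000000000000000002884000000000000000000000000000c4000600000000000000000000000000001100000000000000000000000000001100080000000000000000000000000001c00000000000000000000000000000e0000300000000000000000000000000020580000000000000000000000000000f00000000000000000000000000000000b40000000000000000000000000000710003000000000000000000000000000243c000000000000000000000000000840000a0000000000000000000000000000000430471001804010000000000000000005420400000000000000000000000002124128a0062c000000000000000000000f01840000000000000000000000000012192380048000000000000000000000008000000000000000000000000000030860845003140080000000000000000008828400000000000000000000000000080881400220008000000000000000000741000000000000000000000000000394714a20018a0040000000000000000008008400000000000000000000000000144148a0011000c0000000000000000005410000000000000000000000000003ca38a51004a70020000000000000000000000000000000000000000840800000008010002000000000000000000018000000000000000000021c00000104000020020000000000000000000000000100000000000000000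00000000000000003061043800300000000000000000000000501800000000000000000000000000000412c70049040100000000000000000010084000000000000000000000000019209214001820000000000000000000000c300000000000000000000000000000020863002280000000000000000000006c08400000000000000000000000000c80080a00481008000000000000000000101000000000000000000000000000000114b100136000000000000000000000e02840000000000000000000000000044014850020080c00000000000000000018000000000000000000000000000001048a58000bb00000000000000000000000000000000000002000000200000000082000018000000000000000000040000000000000000000014000041800000010410000040000000000000000013000000000000000000000000082100000020041000084000000000000000000e000000000000000000001c000000840000008000000000000000000000000011000f4000000000000000000000000000010c0168600109000000000000000000000003800000000000000000000000000052480280043400b00000000000000000004004000000000000000000000000008600a43004868000000000000000000001028000000000000000000000000002186101c0023800500000000000000000048000000000000000000000000000004201421006034080000000000000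0000004184000000000000000000000000010c3080e0011c00200000000000000000088000000000000000000000000000000000a980030380400000000000000000040004000000000000000000000000009618407000ac009000000000000000000000000000000000001800004004000001000000000000000000000000000200000000000000000000000008200000000006000028000000000000000000140000000000000000000000000061040000000000000000000000000000000000000000000000000000020c00000000000000061000300000000000000000001e00030300000000000000000000000000009858092000a200a0000000000000000000c00400000000000000000000000002400102900019c010000000000000000001c100000000000000000000000000004c2804900031005000000000000000000a02800000000000000000000000000100418940040cc08000000000000000000100800000000000000000000000000206500a40043a8020000000000000000000c304000000000000000000000000008021c4a002044040000000000000000005000000000000000000000000000001022805a0061d4010000000000000000000c204000000000000000000000000004011ea50012200a00000000000000000000000000000000002140008000400000100000000400000000000000000000000000000000000000000000040800000200210000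0000000000000000000070000c00000000000000000000000000003104803900088c080000000000000000006000000000000000000000000000000ce3180200023007000000000000000000402840000000000000000000000000198600940000440400000000000000000084000000000000000000000000000004618c09000118030000000000000000008420000000000000000000000000002cc3004a0000000a000000000000000000281840000000000000000000000000012086040040ac010000000000000000002428000000000000000000000000001465802500002005000000000000000000d810000000000000000000000000002080028a00625408000000000000000000a430000000000000000000000000000462040000500809000000000000000000000840000000000000000000000000298092c8000ae40200000000000000000044084000000000000000000000000000210200002a240400000000000000000090100000000000000000000000000034c4086c00415009000000000000000000842000000000000000000000000000200090000011100a0000000000000000004008400000000000000000000000001962043e0022a804000000000000000000ec2000000000000000000000000000110008000008a8050000000000000000000008400000000000000000000000002ca1021f0051540a00000000000000000000010ec02000000000000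00000000000000000800001e01380400000000000000382b000c000000000000000000000000000007c0000004c20b800000000000000c09980c0000000000000000000000000000008000050e860b800000000000001052000300000000000000000000000000000f4000320149004000000000000028520001000000000000000000000000000009000019058901800000000000000020f008000000000000000000000000000006c00004003604400000000000000061080000000000000000000000000000000b00000306460680000000000000080a2405000000000000000000000000000004c0001808a8094000000000000004300c0c0000000000000000000000000000000000290391094000000000000030481001000000000000000000000000000007c000060c4806000000000000001878a00900000000000000000000000000000340001000a1048000000000000000004c060000000000000000000000000000008000220d0c0140000000000000000000000000000000000800000000208210002840000000000000000010000000000000000000020400006000000001000000100000000000000000000100000000000000000002040000200000002104100010400000000000000000100000000000000000000008000040800000008200000800000000000000000003000000000000000000001c00002100000000800000080000000000000000000b00000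0000000000000020000000000000000021000204000000000000000001000094200000000000000000000000000024e01411001a180c000000000000000000001040000000000000000000000000090582000000a40300000000000000000040000000000000000000000000000010600a0000090c06000000000000000000ac38000000000000000000000000002482900800425009000000000000000000b00040000000000000000000000000282404080040a4030000000000000000004c00000000000000000000000000001141088400230804000000000000000000b008000000000000000000000000001502020c002050090000000000000000000c000000000000000000000000000028a494c20011840200000000000000000000000000000000002080000010400000000100000400000000000000000030000000000000000000004000000800000210000001000000000000000000010000002000000000000000000000000000098210110020a006000000000000000000a8100000000000000000000000000024600e0000400c090000000000000000008c204000000000000000000000000024c508000010500300000000000000000070180000000000000000000000000010200680006204040000000000000000005c38000000000000000000000000001166948000082809000000000000000000a0000000000000000000000000000028000248007300020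000000000000000000c180000000000000000000000000028a70ac000021404000000000000000000c020400000000000000000000000001500102c0079a00100000000000000000028080000000000000000000000000001011040004348080000000000000000009000400000000000000000000000002c468c0b00308002000000000000000000880800000000000000000000000000208098a00021840400000000000000000014104000000000000000000000000014270605001860090000000000000000003c000000000000000000000000000010401cd80010c00200000000000000000040280000000000000000000000000028038202000a300c00000000000000000004200000000000000000000000000009200ee4004860010000000000000000004018000000000000000000000000001405900900011806000000000000000000030608c0b000000000000000000000000000004000010001300800000000000000801700000000000000000000000000000000b80002107840e000000000000000c40580600000000000000000000000000000b80002c0c8502400000000000003002a000000000000000000000000000000000400010017a0180000000000000201aa00000000000000000000000000000000180002201000d8000000000000004010c0c00000000000000000000000000000440000806560240000000000000140310020000000000000000000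0000000000680001206220a000000000000000038600900000000000000000000000000000940002400d901800000000000000401800300000000000000000000000000000940000501b10200000000000000300240040000000000000000000000000000060000220a4e0440000000000000184bc80800000000000000000000000000000480000a08b4030000000000000024000403000000000000000000000000000001400015040208400000000000090080000000000000000000000000028010293000210030000000000000000002400400000000000000000000000000424006c0009a0000000000000000000000008400000000000000000000000001404804900010801000000000000000000782000000000000000000000000000200210360000f0080000000000000000008418000000000000000000000000000906102400408408000000000000000000502000000000000000000000000000100108930000780400000000000000000088000000000000000000000000000005831812006240040000000000000000005038000000000000000000000000002800844900003c0200000000000000000002c40140c00000000000000000000000000000e000014040004c0000000000000002b0803000000000000000000000000000000800002085e0100000000000000185028080000000000000000000000000000018000060b320140000000000000000a0406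00000000000000000000000000000240002104050e8000000000000000281003000000000000000000000000000002400020088400000000000000003000e80800000000000000000000000000000d800018021905800000000000000841c408000000000000000000000000000001800003049808800000000000002430300400000000000000000000000000000a000030090306400000000000000c48240000000000000000000000000000000440000101460c400000000000001030180000000000000000000000000000000200002c08a903800000000000002000000100000000000000000000000000000840000802a20d000000000000000c2a7c020000000000000000000000000000030000360550008000000000000030417002000000000000000000000000000001000001051000000000000000000c220005000000000000000000000000000004c0002e00a107800000000000002000600100000000000000000000000000000e80000201ac0c800000000000001842800a000000000000000000000000000001400031085001400000000000000c200c0a0000000000000000000000000000058000200822010000000000000020594004000000000000000000000000000000000009060806400000000000002029800c00000000000000000000000000000640000000d2060000000000000010121c010000000000000000000000000000088000350c2400c00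000000000000021800600000000000000000000000000000380002000450180000000000000001a400900000000000000000000000000000c4000060b220a400000000000000401640f000000000000000000000000000000800018020a08800000000000000850000000000000000000000000000000000d0000070d950400000000000000000001c00de0400001c000000000000000000000000000008001460c00000000000002206000b80002200000000000000000000000000000301e182000000000000001500100ec0001500000000000000000000000000000801b9a1400000000000002008a701000020000000000000000000000000000005004042000000000000001208b000000012000000000000000000000000000000018d438000000000000025044c0d80002500000000000000000000000000000e0270a0000000000000001008020d0000100000000000000000000000000000030009c3000000000000002507740000002500000000000000000000000000000c011420c000000000801200000000000000000000000000000000780000500540400000000000000144a140c0000000000000000000000000000000000080b8208400000000000000422280000000000000000000000000000000140000000860b000000000000002818040800000000000000000000000000000c8000080c6104000000000000002832d40000000000000000000000000000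0006400010082008800000000000001009000300000000000000000000000000000100000b025802000000000000003048a007000000000000000000000000000000c0002100030480000000000000040158000000000000000000000000000000060000000d7009000000000000001848e40000000000000000000000000000000a400018080101400000000000002431180000000000000000000000000000000180000001ac08800000000000003c0a8000000000000000000000000000000004000004060802800000000000000060140900000000000000000000000000000880002001f6054000000000000000000000898000000100000000000000000000000000000000200a0c00000000000000c07030780002e00000000000000000000000000000400dd030000000000000020082209c0003b0000000000000000000000000000000219c3400000000000000e05400400000400000000000000000000000000000a0144008000000000000000095103000000000000000000000000000000000004001862800000000000001304a20c00003600000000000000000000000000000103a5814000000000000024095d0d00003400000000000000000000000000000000c04380000000000000010420008000000000000000000000000000000000020310a04000000000000000031c00c00000000000000000000000000000000000002001400000000000003000220600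001e000000000000000000000000000006010ce2000000000000000c0395000000270000000000000000000000000000000020c38000000000000010082008800010000000000000000000000000000003029420000000000000000404d20880000c0000000000000000000000000000080100c0c00000000000000a0025044000300000000000000000000000000000010079230000000000000002005008000034000000000000000000000000000004000c00800000000000000009250740000200000000000000000000000000000800b08140000000000000000000800e06004520000400000000000000000000000002182e0000000000000000001030c0009841e680000000000000000000000000000010000000000000020c000880000300000000000000000000000000000d0001000000000000000005000c07000018000000000000000000000000000002019061c0000000000000050420080000000000000000000000000000000000000001018000000000000032030e0540002200000000000000000000000000000900e8a0400000000000002d02800940002200000000000000000000000000000102100180000000000000020113048000110000000000000000000000000000040045c24000000000000009002409400020000000000000000000000000000001010060000000000000001600810400001d00000000000000000000000000000202098100000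0000000000000003013060021414400000000000000000000000000000c01000000000000000000c00490001e2881b400000000000000000000000002001e000000000000000000100046001011c500000000000000000000000000001429000000000000000000e02d18008340023c0000000000000000000000000200060000000000000000001038c2008000618c000000000000000000000000000406000000000000000000600710004d0984000000000000000000000000000018300000000000000307900880001c000000000000000000000000000007023100c000000000000018002e07000022000000000000000000000000000000014c620000000000000000043b08000015000000000000000000000000000001000901400000000000002209c40540002000000000000000000000000000000603b4a200000000000000220c0009400012000000000000000000000000000009031403800000000000001103360480002500000000000000000000000000000600e9c0000000000000002000b409400010000000000000000000000000000004014463000000000000001d0d000400002500000000000000000000000000000000b980c0000000000000000000303c00006120441000000000000000000000000000000d00000000000000000000034200124902a000000000000000000000000000180200000000000000000030121a002810672000000000000000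00000000000018100000000000000000008028c0005608009400000000000000000000000002040300000000000000000000221000a530211000000000000000000000000000080500000000000000000010094800120900a400000000000000000000000000142000000000000000000030029e0001094188000000000000000000000000001809000000000000000000c03900001e408020000000000000000000000000020414000000000000000000d0038a00b011c308000000000000000000000000020c02000000000000000000000c50000b2824040000000000000000000000000000340000000000000000008020920080500118000000000000000000000000020000000000000000000000400448000b08228400000000000000000000000000143800000d00000000000000000000000000003a0000000000000000000000000000810000000000000000000000000000000204000000000000000000000000000022000b0000000000000000000000000000010000000000000000000000000000c6000400000000000000000000000000034200000000000000000000000000001100010000000000000000000000000001088000000000000000000000000000e2000c0000000000000000000000000002f10000000000000000000000000000010001000000000000000000000000000320400000000000000000000000000070000800000000000000000000000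000005180000000000000000000000000008100080000000000000000000000000000c100000000000000000000000000001800040000000000000000000000000000008000000000000000000000000000c1000400000000000000000000000000006900000000000000000000000000008c0008000000000000000000000000000182400000000000000000000000000021000200000000000000000000000000009540000000000000000000000000004e0000000000000000000000000000000228000000000000000000000000000010000800000000000000000000000000026000000000000000000000000000003e000100000000000000000000000000001dc000000000000000000000000000c00000000000000000000000000002180000020000000100000000000000000001c000000000000000000000c00080000000000860000004000000000000000000000100000000000000000080008008401dc010400001000000000000000000c0000800000000000000002000000200026002000100000000000000000000003ea0000000000000000000214000000800000000400000040000000000000000000000000000000000000000000004000000000800000100000000000000000001e00800000000000000002040000000026002000100020400000000000000003fe00100000000000000000000008608401dc018000001800000000000000000c00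

/-- the value of `cE` -/
def lE : ℕ := 0x28180000000000000000000000000030230c80000034080000000000000000009020400000000000000000000000000cc01259004a0807000000000000000000100040000000000000000000000000082096f000100001000000000000000000882000000000000000000000000000204208010040d00c00000000000000000008000000000000000000000000000024828828001a180a000000000000000000301840000000000000000000000000180112500000e40100000000000000000028180000000000000000000000000030230c80000034080000000000000000009020400000000000000000000000000cc01259004a0807000000000000000000301840000000000000000000000000180112500000e40100000000000000000008000000000000000000000000000024828828001a180a000000000000000000100040000000000000000000000000082096f000100001000000000000000000882000000000000000000000000000204208010040d00c000000000000000000000000000000000000000000000000000000000000000000000000000000000000000000000000000000000000000000000000000000000000000000000000000000000000000000000000000000000000000000000000000000000000000000000000000000000000000000000000000000000000000000000000000000000000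00000000000000000000000000000000000000000000000000000000000000000000000000000000000000000000000000000000000000000000000000000000000000000000000000000000000000000000000000000000000000000000000000000000000000000000000000000000000000000000000000000000000000000000000000000000000000000000000000000000000000000000000000000000000000000000000000000000000000000000000000000000000000000000009020400000000000000000000000000cc01259004a080700000000000000000028180000000000000000000000000030230c8000003408000000000000000000882000000000000000000000000000204208010040d00c000000000000000000100040000000000000000000000000082096f000100001000000000000000000000280806000000000000000000000000000006400026079100c00000000000001842040000000000000000000000000000000180000908640a000000000000003868040d000000000000000000000000000006000024030403000000000000000412e800000000000000000000000000000001400011082900800000000000003052200800000000000000000000000000000c80001b058a04400000000000000c019c05000000000000000000000000000001000000083501800000000000000860600500000000000000000000000000000b00000205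c00b4000000000000014130c020000000000000000000000000000008000340a2e040000000000000301840000000000000000000000000180112500000e40100000000000000000008000000000000000000000000000024828828001a180a00000000000000000002c5000080000000000000000000000000000088000350218020000000000000010098c0100000000000000000000000000000500000a048605400000000000001809a005000000000000000000000000000000000008004109800000000000002032140a00000000000000000000000000000f400012049c02400000000000000818d80000000000000000000000000000000140001b058a0440000000000000206004090000000000000000000000000000020000000835018000000000000024214c0800000000000000000000000000000600000908640a000000000000000040b002000000000000000000000000000008000026079100c00000000000000c0a2000000000000000000000000000000000000000011000000000000000001000100400000000000000000000000000000400002e0ea306c00000000000000860600500000000000000000000000000000b00000205c00b4000000000000014130c020000000000000000000000000000008000340a2e040000000000000004005401000000000000000000000000000008c0002403040300000000000000183100000000000000000000000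00000000006000011082900800000000000002462340900000000000000000000000000000200000a048605400000000000001010c80400000000000000000000000000000540003502180200000000000000000000e0a100700002c0000000000000000000000000000050120800000000000000020006f0800001300000000000000000000000000000a00544000000000000000060a1107400035000000000000000000000000000003006880000000000000003001ee0800000000000000000000000000000000000803100000000000000000180181000000190000000000000000000000000000060240000000000000000000000000400002000000000000000000000000000000010c4000000000000000300107090000000000000000000000000000000000090320400000000000000003028804400000000000000000000000000000000004009da0000000000000000100610100000000000000000000000000000000000500a5200000000000000004089802000035000000000000000000000000000002005040000000000000002508160a000026000000000000000000000000000008008120000000000000000a02e10400000800000000000000000000000000000001048000000000020600409000000000000000000000000000002000000083501800000000000000818d80000000000000000000000000000000140001b058a04400000000000000c0a2000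000000000000000000000000000000000000011000000000000000001000100400000000000000000000000000000400002e0ea306c0000000000000084a800200000000000000000000000000000c0000080820020000000000000030216c0c00000000000000000000000000000200000101560c000000000000000050d4060000000000000000000000000000040000340a2e0400000000000000300a0809000000000000000000000000000000c0000205c00b4000000000000000000060a1107400035000000000000000000000000000003006880000000000000003001ee08000000000000000000000000000000000008031000000000000000000100610100000000000000000000000000000000000500a5200000000000000004089802000035000000000000000000000000000002005040000000000000003509160a00003500000000000000000000000000000e03c52000000000000000020260044000000000000000000000000000000000000008c00000000000000000000000400002000000000000000000000000000000010c400000000000000018018100000019000000000000000000000000000006024000000000000000000b02080400001900000000000000000000000000000201d1e0000000000000002000860900000200000000000000000000000000000d002000000000000000002800060940001900000000000000000000000000000b006c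0000000000000000130309040000020000000000000000000000000000000291a0000000000000002508160a000026000000000000000000000000000008008120000000000000000a02e104000008000000000000000000000000000000010480000000000000000e0a100700002c0000000000000000000000000000050120800000000000000020006f0800001300000000000000000000000000000a00544000000000000000130309040000020000000000000000000000000000000291a0000000000000002800060940001900000000000000000000000000000b006c0000000000000000160b90070000260000000000000000000000000000010224c00000000000000028006e0840000800000000000000000000000000000c001800000000000000000e0a100700002c0000000000000000000000000000050120800000000000000020006f0800001300000000000000000000000000000a005440000000000000002800060940001900000000000000000000000000000b006c0000000000000000130309040000020000000000000000000000000000000291a000000000000000000000602840002c38801800000000000000000000000002101000000000000000000080101e001241618400000000000000000000000000002600000000000000000060108200f800050000000000000000000000000000002b00000000000000000000020800057962240000000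0000000000000000000180000000000000000000040024000ca488024000000000000000000000000020832000000000000000000300100001430601000000000000000000000000000100d00000000000000000030390200c3086308000000000000000000000000000000000000000000000000c0009400184004940000000000000000000000000000000000000000002d08970a40002c0000000000000000000000000000080089600000000000000012036004000013000000000000000000000000000006024080000000000000000e0a100700002c0000000000000000000000000000050120800000000000000020006f0800001300000000000000000000000000000a00544000000000000000160b90070000260000000000000000000000000000010224c00000000000000028006e0840000800000000000000000000000000000c001800000000000000002000860900000200000000000000000000000000000d002000000000000000000b02080400001900000000000000000000000000000201d1e00000000000000000000000400002000000000000000000000000000000010c40000000000000001801810000001900000000000000000000000000000602400000000000000000160b90070000260000000000000000000000000000010224c00000000000000028006e0840000800000000000000000000000000000c00180000000000000000000000002a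0000f0006028000000000000000000000000000804000000000000000000d0115e0008098180000000000000000000000000020019000000000000000000403802000d70030c00000000000000000000000000100d000000000000000000b003d4000000e4a000000000000000000000000002083200000000000000000030390200c3086308000000000000000000000000000000000000000000000000c000940018400494000000000000000000000000000000000000000000000000000208000579622400000000000000000000000000180000000000000000000060108200f800050000000000000000000000000000002b00000000000000000020004800130182000000000000000000000000000200190000000000000000001013820020480534000000000000000000000000000804000000000000000000102900002240000c00000000000000000000000000002b000000000000000000a0121e00c43101b000000000000000000000000000180000000000000000000090015400f57082840000000000000000000000000210100000000000000000002028880000090408000000000000000000000000000026000000000000000000403802000d70030c00000000000000000000000000100d000000000000000000b003d4000000e4a00000000000000000000000000208320000000000000000000000000000000000000000000000000000000000000000000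000000000000000000000000000000000000000000000000000000000000000000000000000000060108200f800050000000000000000000000000000002b0000000000000000000002080005796224000000000000000000000000001800000000000000000000003a42001100833800000000000000000000000002083200000000000000000080009400c638048000000000000000000000000000100d00000000000000000090015400f57082840000000000000000000000000210100000000000000000002028880000090408000000000000000000000000000026000000000000000000e00214002b0002a00000000000000000000000000008040000000000000000000028c800c041e41c0000000000000000000000000200190000000000000000000000000000000000000000000000000000000000000000000000000000000000000000000000000000000000000000000000000000000000000000000000000000000000000000000000000000000000000000000000000000000000000000000000000000000000000000000000000000000000000000000000000000000000000000000000000000000000000000000000000000000000000000000000000000000000000000000000000000000000000000000000000000000000001e0cc80440000000000000000000000000000000000600586000000000000000210332098000000000000000000000000000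0000000900040000000000000000240a0a08c0000800000000000000000000000000000c02bd00000000000000000305a107000026000000000000000000000000000003014000000000000000003802430a800026000000000000000000000000000008010460000000000000000204900400000800000000000000000000000000000202e1000000000000000012003c0480001900000000000000000000000000000000302000000000000000240cc30900000200000000000000000000000000000d0285c0000000000000000a013c0480000200000000000000000000000000000200746000000000000000340c4209400019000000000000000000000000000009018980000000000000000001b00080001900000000000000000000000000000401858000000000000000150e440040000200000000000000000000000000000000280000000000000000000000101500003d00071c000000000000000000000000021010000000000000000000e0000c004250c02000000000000000000000000000002600000000000000000010058a0080504038000000000000000000000000020019000000000000000000801204003a29a500000000000000000000000000000804000000000000000000002a0000f0006028000000000000000000000000000804000000000000000000d0115e000809818000000000000000000000000002001900000000000000000060109800916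84398000000000000000000000000020019000000000000000000902f46006a1000040000000000000000000000000008040000000000000000000028c000a911220000000000000000000000000000002b000000000000000000101718005440c18000000000000000000000000000180000000000000000000040024000ca488024000000000000000000000000020832000000000000000000300100001430601000000000000000000000000000100d00000000000000000010119800011083a8000000000000000000000000000026000000000000000000c02c0600a448200000000000000000000000000002101000000000000000000060108200f800050000000000000000000000000000002b00000000000000000000020800057962240000000000000000000000000018000000000000000000000000200000020000000000000000000000000000000000008000000000000000000001400004084000020041000000000000000000000000000000000000000050010800c90102100000000000000000000000000000260000000000000000000010c2002630e500000000000000000000000000021010000000000000000000202888000009040800000000000000000000000000002600000000000000000090015400f570828400000000000000000000000002101000000000000000000090034c00940800100000000000000000000000000018000000000000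00000000401400006360a72800000000000000000000000000002b000000000000000000000612009b610680000000000000000000000000020832000000000000000000403800000400c11000000000000000000000000000100d000000000000000000000000000000000000000000000000000000000000000000000000000000000000000000000000000000000000000000000000000000000000000000000000000000210000000800000000400000000000000000000000011000000000000000000000400002104000020801000000000000000000000000e00000000000000030390200c3086308000000000000000000000000000000000000000000000000c000940018400494000000000000000000000000000000000000000000000000403802000d70030c00000000000000000000000000100d000000000000000000b003d4000000e4a000000000000000000000000002083200000000000000000010290a00422004000000000000000000000000000200190000000000000000004006d00030502090000000000000000000000000000804000000000000000000000208000579622400000000000000000000000000180000000000000000000060108200f800050000000000000000000000000000002b00000000000000000000000000000600000000000000000000000000000000000190000000000000000000010000001800000008400000000000000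00000000000600000000000000000000000000000000000000000000000000000000000000000000000000000000000000000000000000000000000000000000000000000000000000000000000102900002240000c00000000000000000000000000002b000000000000000000a0121e00c43101b0000000000000000000000000001800000000000000000000c002860051184200000000000000000000000000020832000000000000000000000440000c41002800000000000000000000000000100d000000000000000000d01144006011451400000000000000000000000000002b00000000000000000020068a000e088008000000000000000000000000001800000000000000000000000440000c41002800000000000000000000000000100d000000000000000000c00286005118420000000000000000000000000002083200000000000000000000002000000200000000000000000000000000000000000080000000000000000000014000040840000200410000000000000000000000000000000000000000a0100400a44105200000000000000000000000000210100000000000000000004004ca005020200c00000000000000000000000000002600000000000000000090015400f570828400000000000000000000000002101000000000000000000020288800000904080000000000000000000000000000260000000000000000000028c000a911220000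000000000000000000000000002b000000000000000000101718005440c1800000000000000000000000000018000000000000000000000038400050280124000000000000000000000000000000000000000000000000700512000111a6800000000000000000000000000000000000000000000000000000000000000000000000000000000000000000000000000000000000000000000000000000000000000000000000000000000000000000000000000000000000000000000000000080000000000000000000000000000a0009000000000000000000000000000266000000000000000000000000000001000900000000000000000000000000022500000000000000000000000000000e00020000000000000000000000000000ca000000000000000000000000000001000200000000000000000000000000008800000000000000000000000000000a00000000000000000000000000000000438000000000000000000000000000050000000000000000000000000000000001000000000000000000000000000004000b0000000000000000000000000002ac80000000000000000000000000000000020000000000000000000000000000ca000000000000000000000000000001000900000000000000000000000000022500000000000000000000000000000e0000000000000000000000000000000000000000000000000000000000000000000000000000000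00000000000000000000000000000000000000000000000000000000000000000000000000000000001000000000000000000000000000004000b0000000000000000000000000002ac800000000000000000000000000000000200000000000000000000000000008800000000000000000000000000000a000000000000000000000000000000004380000000000000000000000000000500020000000000000000000000000000ca000000000000000000000000000001000900000000000000000000000000022500000000000000000000000000000e000000000000000000000000000000000000000000000000000000000000000000000000000000000000000000000000000000000000000000000000000000000000000000000000000000000000000001000000000000000000000000000004000b0000000000000000000000000002ac80000000000000000000000000000000003010000000000000000000000000002001024c00219008000000000000000000c000400000000000000000000000001064108200024c040000000000000000002418000000000000000000000000001803807300003408000000000000000000d0204000000000000000000000000024200200004a080700000000000000000090000000000000000000000000000034c006440029140e0000000000000000004028400000000000000000000000000004902b0050a0000000000000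000000004000000000000000000000000000003804843200129c090000000000000000002830400000000000000000000000000023188d00610000000000000000000000000000000000000020000002000000000000000000000000000000000000800000000000000000000140000408400002004100000000000000000000000000006030000000000000000000000000002c8500130048500b00000000000000000088084000000000000000000000000000421c040023a804000000000000000000203000000000000000000000000000044510c00048500b000000000000000000c408400000000000000000000000000822803d0023a8040000000000000000003010000000000000000000000000002001024c00219008000000000000000000c000400000000000000000000000001064108200024c040000000000000000009c204000000000000000000000000004008ea2004a080700000000000000000060180000000000000000000000000010c31008000034080000000000000000000000000000000000210000000800000000400000000000000000000000011000000000000000000000400002104000020801000000000000000000000000e0000000000000000000000000060000000000000000000000000000000000019000000000000000000001000000180000000840000000000000000000000000600060180000000000000000000000000010c3100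8000034080000000000000000009c204000000000000000000000000004008ea2004a08070000000000000000004800000000000000000000000000000c408870000ac802000000000000000000a4380000000000000000000000000030011482005024040000000000000000005428000000000000000000000000000040060c007378080000000000000000002810400000000000000000000000002c258830000800020000000000000000000020000000000000000000000000001400000e00698403000000000000000000140800000000000000000000000000284692b100006000000000000000000000000000000000000000400002104000020801000000000000000000000000e0000000000000000000210000000800000000400000000000000000000000011000000000000000000020000004100000000800000000000000000000000000600000000000000000000040000000400002000100000000000000000000000110000020000000000000000000000000001400000e00698403000000000000000000140800000000000000000000000000284692b1000060000000000000000000006010400000000000000000000000000485140200080002000000000000000000102800000000000000000000000000202082e50073780800000000000000000020304000000000000000000000000020038066006100000000000000000000000c0000000000000000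00000000000010c4088100129c09000000000000000000ec100000000000000000000000000020a1184500314005000000000000000000102000000000000000000000000000104682a800420c0000000000000000000000000000000000000000000000000000000000000000000000000000000000000000000000000000000000000000000000000000000000000000000000000000042840000000000000000000000000002404400050a0000000000000000000009800000000000000000000000000001c009abe0029140e0000000000000000004028400000000000000000000000000004902b0050a00000000000000000000090000000000000000000000000000034c006440029140e0000000000000000003c184000000000000000000000000010610a020000e40100000000000000000040000000000000000000000000000004021481001a180a000000000000000000a4380000000000000000000000000030011482005024040000000000000000004800000000000000000000000000000c408870000ac80200000000000000000000000000000000000000000000000004a00488000ac802000000000000000000a0380000000000000000000000000010418021005024040000000000000000000020000000000000000000000000001ca000950069840300000000000000000058080000000000000000000000000000060e4a0000600000000000000000000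04400400000000000000000000000001c02009400394402000000000000000000800800000000000000000000000000008494610000300d000000000000000000100040000000000000000000000000082096f000100001000000000000000000882000000000000000000000000000204208010040d00c00000000000000000000c0a2000000000000000000000000000000000000000011000000000000000001000100400000000000000000000000000000400002e0ea306c00000000000002000000900000000000000000000000000000c4000030cb001400000000000000429880200000000000000000000000000000380003c034808000000000000002802200900000000000000000000000000000840002d0200010000000000000010219806000000000000000000000000000003800010005b0e800000000000000429880200000000000000000000000000000380003c034808000000000000002000000900000000000000000000000000000c4000030cb001400000000000000c0a2000000000000000000000000000000000000000011000000000000000001000100400000000000000000000000000000400002e0ea306c00000000000002802200900000000000000000000000000000840002d0200010000000000000010219806000000000000000000000000000003800010005b0e800000000000000000000000000002000000200000000000000000000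000000000000000080000000000000000000014000040840000200410000000000000000000000000000000000000000000000000000000000000000000000000000000000000000000000000000000000000000000000000000000000000000000000000000000000000000000000000000210000000800000000400000000000000000000000011000000000000000000000400002104000020801000000000000000000000000e000c028000000000000000000000000003824809a0040380c00000000000000000008004000000000000000000000000004c21824003844030000000000000000000000400000000000000000000000003462044f003944020000000000000000008c0800000000000000000000000000000408000000300d00000000000000000020304000000000000000000000000020038066006100000000000000000000000c000000000000000000000000000010c4088100129c090000000000000000006030000000000000000000000000002c8500130048500b00000000000000000088084000000000000000000000000000421c040023a8040000000000000000000000000000000000014000040840000200410000000000000000000000000000000000000000000020000002000000000000000000000000000000000000800010080000000000000000000000000000a60200000060000000000000000000004c20000000000000000000000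0000034409c64006984030000000000000000000000000000000000000000000000000ce0009500288c0200000000000000000058280000000000000000000000000000068e4a00416001000000000000000000301840000000000000000000000000180112500000e40100000000000000000008000000000000000000000000000024828828001a180a00000000000000000004000000000000000000000000000020e0902a0000000000000000000000000048000000000000000000000000000008000cd10000000000000000000000000064304000000000000000000000000008c30414006100000000000000000000000000000000000000000000000000001024104800129c090000000000000000000000000000000000000000000000001024104800129c0900000000000000000064304000000000000000000000000008c304140061000000000000000000000040200000000000000000000000000014021481005b100a0000000000000000003c184000000000000000000000000000218a020000ec000000000000000000004028400000000000000000000000000004902b0050a00000000000000000000090000000000000000000000000000034c006440029140e000000000000000000024601c0b00000000000000000000000000000e00000a048605400000000000001001a0000000000000000000000000000000000000350218020000000000000020321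40a00000000000000000000000000000f400012049c02400000000000001809a005000000000000000000000000000000000008004109800000000000000412e800000000000000000000000000000001400011082900800000000000003868040d000000000000000000000000000006000024030403000000000000001000840000000000000000000000000000000840002706c508c00000000000002009600a0000000000000000000000000000058000000002040000000000000008001404000000000000000000000000000000c00018010d0080000000000000107a20030000000000000000000000000000020000240a720d00000000000000107a20030000000000000000000000000000020000240a720d0000000000000008001404000000000000000000000000000000c00018010d0080000000000004028400000000000000000000000000004902b0050a00000000000000000000090000000000000000000000000000034c006440029140e000000000000000000203000000000000000000000000000044510c00048500b000000000000000000c408400000000000000000000000000822803d0023a804000000000000000000741000000000000000000000000000008182a40021900800000000000000000088004000000000000000000000000038040c1900024c04000000000000000000241800000000000000000000000000084300730001340800000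0000000000000d0004000000000000000000000000024200200000a000600000000000000000002013600b000000000000000000000000000004800008004109800000000000001c408c04000000000000000000000000000009000012049c0240000000000000106908050000000000000000000000000000064000240a720d0000000000000008025400000000000000000000000000000009800018010d00800000000000002840000c00000000000000000000000000000d00002e0ea306c000000000000000338002000000000000000000000000000002800000011000000000000000000808b00600000000000000000000000000000800001b058a04400000000000002073440900000000000000000000000000000740000008350180000000000000046138010000000000000000000000000000024000080041098000000000000000084400000000000000000000000000000009800012049c02400000000000001468d80100000000000000000000000000000380002d020001000000000000002000000a000000000000000000000000000004400010005b0e800000000000002009600a000000000000000000000000000005800000000204000000000000001000840000000000000000000000000000000840002706c508c00000000000002c11500b0000000000000000000000000000008000240a720d0000000000000000488c0000000000000000000000000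000000d000018010d008000000000000010028002000000000000000000000000000008000035021802000000000000002471540d00000000000000000000000000000340000a0486054000000000000008618007000000000000000000000000000002c0000101030780000000000000241a080800000000000000000000000000000c0000120ce808400000000000001001a0000000000000000000000000000000000000350218020000000000000024601c0b00000000000000000000000000000e00000a048605400000000000002000000a000000000000000000000000000004400010005b0e800000000000001468d80100000000000000000000000000000380002d02000100000000000000000000200bd04c00000000000000000000000000000000004033820000000000000002c0d420900000000000000000000000000000000000b00c1800000000000000010062c0240002600000000000000000000000000000600dd4000000000000000040901018000080000000000000000000000000000010100a000000000000000040901018000080000000000000000000000000000010100a00000000000000010062c0240002600000000000000000000000000000600dd4000000000000000020260044000000000000000000000000000000000000008c0000000000000003509160a00003500000000000000000000000000000e03c5200000000000c00cc060000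0000000000000000000000000100000101560c0000000000000020123008000000000000000000000000000004800008082002000000000000000862e801000000000000000000000000000007800001010307800000000000002408000e0000000000000000000000000000004000120ce808400000000000002000000a000000000000000000000000000004400010005b0e800000000000001468d80100000000000000000000000000000380002d020001000000000000003008200900000000000000000000000000000d80000205c00b40000000000000004194000000000000000000000000000000004000340a2e04000000000000001010c804000000000000000000000000000005400035021802000000000000002462340900000000000000000000000000000200000a048605400000000000000050d4060000000000000000000000000000040000340a2e0400000000000000300a0809000000000000000000000000000000c0000205c00b40000000000000000000101480280002c0000000000000000000000000000020170c00000000000000010069501400013000000000000000000000000000001000820000000000000002004220a00002600000000000000000000000000000a0260a00000000000000017088404800008000000000000000000000000000000000040000000000000002000860900000200000000000000000000000000000d00200000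0000000000000b02080400001900000000000000000000000000000201d1e00000000000000009004802c0002600000000000000000000000000000402388000000000000000000714010000080000000000000000000000000000030044200000000000000000072d0200002c000000000000000000000000000000009100000000000000000c088001c00013000000000000000000000000000001020ce0000000000000002508160a000026000000000000000000000000000008008120000000000000000a02e10400000800000000000000000000000000000001048000000000000000150e4400400002000000000000000000000000000000002800000000000000000001b000800019000000000000000000000000000004018580000000000000002002c20ac0002c00000000000000000000000000000a024820000000000000000205100400001300000000000000000000000000000401a54000000000000000000000c00094001840049400000000000000000000000000000000000000000000000030390200c308630800000000000000000000000000000000000000000028006e0840000800000000000000000000000000000c00180000000000000000160b90070000260000000000000000000000000000010224c00000000000000031041b0840000800000000000000000000000000000e0158c0000000000000000a01c4078000260000000000000000000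0000000000100810000000000000000340c4209400019000000000000000000000000000009018980000000000000000a013c04800002000000000000000000000000000002007460000000000000000200bd04c00000000000000000000000000000000004033820000000000000002c0d420900000000000000000000000000000000000b00c18000000000000000000000000208000579622400000000000000000000000000180000000000000000000060108200f800050000000000000000000000000000002b000000000000000000b003d4000000e4a0000000000000000000000000020832000000000000000000403802000d70030c00000000000000000000000000100d000000000000000000e00214002b0002a00000000000000000000000000008040000000000000000000028c800c041e41c000000000000000000000000020019000000000000130309040000020000000000000000000000000000000291a0000000000000002800060940001900000000000000000000000000000b006c00000000000000000b02080400001900000000000000000000000000000201d1e0000000000000002000860900000200000000000000000000000000000d002000000000000000000e0a100700002c0000000000000000000000000000050120800000000000000020006f0800001300000000000000000000000000000a0054400000000000000002026004400000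0000000000000000000000000000000008c0000000000000003509160a00003500000000000000000000000000000e03c52000000000000000000000000210000010049c000000000000000000000000020832000000000000000000f03dc4009601212000000000000000000000000000100d00000000000000000010058a0080504038000000000000000000000000020019000000000000000000801204003a29a500000000000000000000000000000804000000000000000000a0121e00c43101b0000000000000000000000000001800000000000000000000102900002240000c00000000000000000000000000002b0000000000000000000000000000000000000000000000000000000000000000000000000000000000000000000000000000000000000000000000000000000000000000000000000020004800130182000000000000000000000000000200190000000000000000001013820020480534000000000000000000000000000804000000000000000000f03dc4009601212000000000000000000000000000100d000000000000000000000210000010049c000000000000000000000000020832000000000000000000000000000000000001000000000000000000000000000004000b0000000000000000000000000002ac80000000000000000000000000000000020000000000000000000000000000ca00000000000000000000000000000100090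0000000000000000000000000022500000000000000000000000000000e000000000000000000000000000000000000000000000000000000000000000000000000000000000000000000000000000000000000000000000000000000000000000000000000000000000000000001000000000000000000000000000004000b0000000000000000000000000002ac8000000000000000000000000000000000000000000000000000000000000043800000000000000000000000000005000200000000000000000000000000008800000000000000000000000000000a0000000000000000000000000000000043800000000000000000000000000005000200000000000000000000000000008800000000000000000000000000000a000000000000000000000000000000000080000000000000000000000000000a0009000000000000000000000000000266000000000000000000000000000001000900000000000000000000000000022500000000000000000000000000000e00020000000000000000000000000000ca0000000000000000000000000000010000000000000000000000000006000000000000000000000000000000000001900000000000000000000100000018000000084000000000000000000000000060020000000000000000200000041000ca000800000000000000000000000000600900000000000000000040000000422502000100000000000000000000000e10000000000000000000000000060000000000000000000000000000000000019000000000000000000001000000180000000840000000000000000000000000600900000000000000000040000210422502080100000000000000000000000fe0020000000000000000210000000800ca0000400000000000000000000000001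

end Cfsg.Agent.H74.E83.Ker
end

-- part: H977/E83/Hvec
section
/-!
# S5925, box K (A): the four word identities for the vectors `h_i` (helper977)

`h_i = - y x y t x w_i - x t y y x w_i - x y x w_i` for `i = 1, 2, 3, 4`, with `x = Ph Ax`, `y = Ph Ay`, `t = Ph At` acting
on the Lie algebra `L3` of `E₈(3)`. The engine is that of helper74: the vectors are columns of a packed matrix.

* `actX actY actT` : a word applied to a packed matrix; `okCol V j l` : column `j` of `V` is `vec l`; `col_of` : its meaning.
-/

set_option autoImplicit false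
set_option maxRecDepth 100000
set_option exponentiation.threshold 600

namespace Cfsg.Agent.H977.E83

open Matrix Cfsg.Lie Cfsg.Agent.ChevalleyStructure.Elts
open Cfsg.Agent.H992.E8X
open Cfsg.Agent.H788.E83 (SL5 Lt Ax Ay At wx wy wt ev)
open Cfsg.Agent.H74.E83 Cfsg.Agent.H74.E83.Trit Cfsg.Agent.H74.E83.Code Cfsg.Agent.H74.E83.Elim
open Cfsg.Agent.H74.E83.Trip
open Cfsg.Agent.H64.E83 (mx L3 er vec cf Ph vec_inl vec_inr)
open Cfsg.Agent.H751.Two.Word (sz pos posOK)
open Cfsg.Agent.H751.Two.Code (wG)

/-! ### the engine -/

/-- force the evaluation of a number -/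
def frc (V : ℕ) (k : ℕ → Bool) : Bool :=
  match V with
  | 0 => k 0
  | Nat.succ n => k (Nat.succ n)

theorem frc_eq (V : ℕ) (k : ℕ → Bool) : frc V k = k V := by cases V <;> rfl

/-- add a list to column `j` -/
def putL (j : ℕ) : List (ℕ × ℤ) → ℕ → ℕ
  | [], V => V
  | p :: l, V => put (putL j l V) (8 + p.1)
      (bif Nat.beq (p.2 % 3).toNat 1 then tadd (_root_.Cfsg.Agent.H74.E83.Code.row (putL j l V) (8 + p.1)) (tun j)
        else tsub (_root_.Cfsg.Agent.H74.E83.Code.row (putL j l V) (8 + p.1)) (tun j))

theorem vldM_putL {j : ℕ} (hj : j < 256) (l : List (ℕ × ℤ)) {V : ℕ} (hV : VldM V) : VldM (putL j l V) := by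
  induction l with
  | nil => exact hV
  | cons p l ih =>
    refine vldM_put ih ?_
    cases Nat.beq (p.2 % 3).toNat 1
    · exact vld_sub (ih _) (vld_un hj)
    · exact vld_add (ih _) (vld_un hj)

/-- the coordinate `j` of `w` is `c` -/
def ok1 (w j : ℕ) (c : ℤ) : Bool :=
  match (c % 3).toNat with
  | 0 => !(Nat.beq (bt w j) 1) && !(Nat.beq (bt w (256 + j)) 1)
  | 1 => (Nat.beq (bt w j) 1) && !(Nat.beq (bt w (256 + j)) 1)
  | _ => !(Nat.beq (bt w j) 1) && (Nat.beq (bt w (256 + j)) 1)

theorem val_of_ok1 {w j : ℕ} {c : ℤ} (h : ok1 w j c = true) : val w j = (c : ZMod 3) := by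
  have hc : ((c : ℤ) : ZMod 3) = ((c % 3 : ℤ) : ZMod 3) := (ZMod.intCast_mod c 3).symm
  have h3 : c % 3 = 0 ∨ c % 3 = 1 ∨ c % 3 = 2 := by omega
  unfold ok1 at h
  rw [bt_eq, bt_eq] at h
  unfold val
  rw [hc]
  rcases h3 with h4 | h4 | h4
  · rw [h4] at h ⊢
    simp only [Int.toNat_zero, Bool.and_eq_true, Bool.not_eq_true'] at h
    rw [h.1, h.2]; rfl
  · rw [h4] at h ⊢
    simp only [Int.toNat_one, Bool.and_eq_true, Bool.not_eq_true'] at h
    rw [h.1, h.2]; decide
  · rw [h4] at h ⊢
    have h5 : (2 : ℤ).toNat = 2 := rfl
    rw [h5] at h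
    simp only [Bool.and_eq_true, Bool.not_eq_true'] at h
    rw [h.1, h.2]; decide

/-- the coordinate of `vec l` at position `i` -/
def cfz (l : List (ℕ × ℤ)) (i : ℕ) : ℤ := bif Nat.blt i 8 then 0 else cf l (i - 8)

theorem vec_pos (l : List (ℕ × ℤ)) (i : chevE8.Idx) : _root_.Cfsg.Agent.H64.E83.vec l i = (cfz l (pos chevE8 i) : ZMod 3) := by
  rcases i with i | u
  · rw [vec_inl]
    show (0 : ZMod 3) = (cfz l i.val : ZMod 3)
    have h : Nat.blt i.val 8 = true := by
      rw [Nat.blt_eq]; exact i.2
    unfold cfz
    rw [h, cond_true, Int.cast_zero]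
  · rw [vec_inr]
    show _ = (cfz l (8 + u.val) : ZMod 3)
    have h : Nat.blt (8 + u.val) 8 = false := by
      rw [Bool.eq_false_iff]
      intro h
      rw [Nat.blt_eq] at h
      omega
    unfold cfz
    rw [h, cond_false, Nat.add_sub_cancel_left]

/-- the check of a column, `f i` : row `i` -/
def okF (f : ℕ → ℕ) (j : ℕ) (l : List (ℕ × ℤ)) : Bool := (List.range 248).all fun i => ok1 (f i) j (cfz l i)

/-- the column index -/
def ix (j : Fin 8) : chevE8.Idx := Sum.inl j

/-- the column of `V` -/
def col (V : ℕ) (j : Fin 8) : L3 := semM chevE8 V *ᵥ Pi.single (ix j) 1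

theorem col_apply (V : ℕ) (j : Fin 8) (i : chevE8.Idx) : col V j i = val (_root_.Cfsg.Agent.H74.E83.Code.row V (pos chevE8 i)) j.val := by
  unfold col
  rw [Matrix.mulVec_single_one]
  rfl

theorem pos_lt' (i : chevE8.Idx) : pos chevE8 i < 248 := by
  have := (posOK chevE8).lt i
  rwa [sz_eq] at this

theorem okF_spec {f : ℕ → ℕ} {j : ℕ} {l : List (ℕ × ℤ)} (h : okF f j l = true) (i : chevE8.Idx) :
    val (f (pos chevE8 i)) j = _root_.Cfsg.Agent.H64.E83.vec l i := by
  unfold okF at h
  rw [List.all_eq_true] at h
  rw [vec_pos]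
  exact val_of_ok1 (h _ (List.mem_range.2 (pos_lt' i)))

/-- column `j` of `V` is `vec l` -/
theorem col_of {V : ℕ} {j : Fin 8} {l : List (ℕ × ℤ)} (h : okF (_root_.Cfsg.Agent.H74.E83.Code.row V) j.val l = true) : col V j = _root_.Cfsg.Agent.H64.E83.vec l := by
  funext i
  rw [col_apply, okF_spec h]

/-- minus the sum of three rows -/
def row3 (A B C i : ℕ) : ℕ := tneg (tadd (tadd (_root_.Cfsg.Agent.H74.E83.Code.row A i) (_root_.Cfsg.Agent.H74.E83.Code.row B i)) (_root_.Cfsg.Agent.H74.E83.Code.row C i))

theorem col3_of {A B C : ℕ} (hA : VldM A) (hB : VldM B) (hC : VldM C) {j : Fin 8} {l : List (ℕ × ℤ)}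
    (h : okF (row3 A B C) j.val l = true) : _root_.Cfsg.Agent.H64.E83.vec l = -col A j - col B j - col C j := by
  have hj : j.val < 256 := by have := j.2; omega
  funext i
  rw [← okF_spec h, Pi.sub_apply, Pi.sub_apply, Pi.neg_apply, col_apply, col_apply, col_apply]
  unfold row3
  rw [val_neg (vld_add (vld_add (hA _) (hB _)) (hC _)) hj, val_add (vld_add (hA _) (hB _)) (hC _) hj,
    val_add (hA _) (hB _) hj]
  ring

/-! ### the letters -/

theorem act_of {w : List Lt} {W : List ℕ} (hw : ∀ l ∈ w, gd l) (hW : phw w = W) (h : okW TX W = true) {V : ℕ}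
    (hV : VldM V) : VldM (wc TX W V) ∧ ∀ j, col (wc TX W V) j = mx (Ph (ev w)) *ᵥ col V j := by
  subst hW
  obtain ⟨h1, h2⟩ := sem_wc hE8 sz_le TX_ok h hV
  refine ⟨h1, fun j => ?_⟩
  unfold col
  rw [h2, ← coe_ph_wG hw, Matrix.mulVec_mulVec]
  rfl

theorem act_x {V : ℕ} (hV : VldM V) : VldM (wc TX wX V) ∧ ∀ j, col (wc TX wX V) j = mx (Ph Ax) *ᵥ col V j :=
  act_of (w := wx) (by decide +kernel) (by decide +kernel) (by decide +kernel) hV

theorem act_y {V : ℕ} (hV : VldM V) : VldM (wc TX wY V) ∧ ∀ j, col (wc TX wY V) j = mx (Ph Ay) *ᵥ col V j :=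
  act_of (w := wy) (by decide +kernel) (by decide +kernel) (by decide +kernel) hV

theorem act_t {V : ℕ} (hV : VldM V) : VldM (wc TX wT V) ∧ ∀ j, col (wc TX wT V) j = mx (Ph At) *ᵥ col V j :=
  act_of (w := wt) (by decide +kernel) (by decide +kernel) (by decide +kernel) hV

/-! ### the data -/

/-- `w1` -/
def lw1 : List (ℕ × ℤ) :=
  [(4, 1), (5, 1), (7, 1), (8, 1), (9, 2), (15, 2), (21, 1), (126, 2), (127, 2), (128, 2), (129, 1), (131, 2),
   (133, 1), (134, 2), (139, 1), (140, 2), (143, 2), (145, 1), (146, 2), (150, 1), (151, 2), (152, 2), (153, 1),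
   (154, 1), (155, 1), (166, 2), (170, 1), (171, 2), (172, 2), (173, 1), (175, 2), (176, 1), (177, 1), (184, 2),
   (185, 1)]

/-- `w2` -/
def lw2 : List (ℕ × ℤ) :=
  [(17, 1), (18, 2), (19, 2), (22, 1), (23, 2), (25, 2), (26, 1), (28, 2), (29, 1), (37, 1), (38, 2), (39, 1),
   (156, 1), (157, 1), (158, 1), (159, 1), (160, 1), (161, 2)]

/-- `w3` -/
def lw3 : List (ℕ × ℤ) :=
  [(30, 1), (32, 2), (44, 2), (49, 2), (51, 2), (60, 2), (78, 1), (80, 2), (81, 1), (82, 1), (200, 1), (201, 2),
   (211, 1), (214, 1), (216, 1), (217, 1), (220, 1), (222, 1)]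

/-- `w4` -/
def lw4 : List (ℕ × ℤ) :=
  [(54, 1), (55, 2), (62, 2), (63, 2), (64, 2), (65, 1), (66, 1), (69, 2), (71, 2), (72, 2), (73, 1), (74, 1),
   (84, 2), (87, 2), (88, 2), (89, 1), (90, 2), (93, 2), (94, 2), (96, 2), (99, 2), (100, 1), (101, 1), (102, 1),
   (105, 2), (106, 2), (107, 1), (108, 2), (111, 1), (113, 2), (223, 1), (224, 1), (230, 2), (232, 2), (234, 2),
   (235, 2)]

/-- `h1` -/
def lh1 : List (ℕ × ℤ) :=
  [(4, 2), (6, 1), (7, 2), (8, 1), (9, 2), (14, 2), (15, 2), (16, 1), (126, 2), (127, 1), (128, 2), (133, 2),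
   (134, 2), (137, 1), (138, 1), (143, 2), (146, 2), (148, 2), (149, 1), (150, 2), (152, 2), (153, 2), (154, 1),
   (155, 1), (165, 2), (166, 1), (167, 1), (168, 2), (170, 1), (171, 1), (172, 1), (173, 1), (174, 1), (175, 2),
   (176, 1), (185, 1), (187, 2)]

/-- `h2` -/
def lh2 : List (ℕ × ℤ) :=
  [(18, 2), (19, 1), (23, 2), (25, 1), (28, 2), (29, 1), (159, 1), (160, 1), (161, 1), (178, 1), (179, 1),
   (181, 1), (188, 2), (190, 1), (192, 1), (195, 2), (196, 2), (199, 1), (207, 2), (208, 2), (209, 2)]

/-- `h3` -/
def lh3 : List (ℕ × ℤ) :=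
  [(31, 2), (32, 1), (43, 2), (44, 1), (51, 1), (61, 1), (78, 1), (80, 2), (81, 2), (200, 2), (211, 1), (214, 1),
   (216, 1), (220, 1), (222, 2)]

/-- `h4` -/
def lh4 : List (ℕ × ℤ) :=
  [(54, 2), (55, 1), (63, 2), (64, 1), (67, 1), (68, 1), (71, 2), (73, 1), (85, 1), (86, 1), (87, 1), (89, 1),
   (90, 1), (91, 1), (93, 2), (95, 2), (96, 2), (100, 1), (101, 2), (102, 2), (105, 1), (107, 2), (110, 2),
   (111, 2), (112, 2), (113, 1), (218, 1), (223, 1), (224, 1), (225, 2), (230, 2), (231, 1), (232, 1), (234, 1),
   (235, 2)]

/-- the packed matrix with the columns `w_i` -/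
def V0 : ℕ := putL 0 lw1 (putL 1 lw2 (putL 2 lw3 (putL 3 lw4 0)))

theorem vldM_V0 : VldM V0 :=
  vldM_putL (by norm_num) _ (vldM_putL (by norm_num) _ (vldM_putL (by norm_num) _ (vldM_putL (by norm_num) _ vldM_zero)))

private noncomputable def _root_.Cfsg.Agent.LsF.ff98c16_0 : {f // @Cfsg.Agent.H977.E83.ok1 = f} := ⟨_, by first | (delta Cfsg.Agent.H977.E83.ok1; rewrite [Cfsg.Agent.LsF.nadd_pat, Cfsg.Agent.LsF.imod_pat, Cfsg.Agent.LsF.and_eq, Cfsg.Agent.LsF.not_eq, Cfsg.Agent.LsF.toNat_eq]; (try delta Cfsg.Agent.H74.E83.Ker.addc.match_1); (try rewrite [Cfsg.Agent.LsF.instDecEq_eq, Cfsg.Agent.LsF.dite_eq]); exact rfl) | exact rfl⟩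
private noncomputable def _root_.Cfsg.Agent.LsF.ff98c16_1 : {f // @Cfsg.Agent.H64.E83.cf = f} := ⟨_, by first | (delta Cfsg.Agent.H64.E83.cf; rewrite [Cfsg.Agent.LsF.instDecEq_eq, Cfsg.Agent.LsF.map_eq, Cfsg.Agent.LsF.sum_eq, Cfsg.Agent.LsF.instIAdd_eq, Cfsg.Agent.LsF.ite_eq]; exact rfl) | exact rfl⟩
private noncomputable def _root_.Cfsg.Agent.LsF.ff98c16_2 : {f // @Cfsg.Agent.H977.E83.cfz = f} := ⟨_, by first | (delta Cfsg.Agent.H977.E83.cfz; rewrite [Cfsg.Agent.LsF.ff98c16_1.2, Cfsg.Agent.LsF.nsub_pat, Cfsg.Agent.LsF.cond_eq]; exact rfl) | exact rfl⟩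
private noncomputable def _root_.Cfsg.Agent.LsF.ff98c16_3 : {f // @Cfsg.Agent.H977.E83.okF = f} := ⟨_, by first | (delta Cfsg.Agent.H977.E83.okF; rewrite [Cfsg.Agent.LsF.ff98c16_0.2, Cfsg.Agent.LsF.ff98c16_2.2, Cfsg.Agent.LsF.all_eq, Cfsg.Agent.LsF.range_eq]; exact rfl) | exact rfl⟩
private noncomputable def _root_.Cfsg.Agent.LsF.ff98c16_4 : {f // @Cfsg.Agent.H74.E83.Code.row = f} := ⟨_, by first | (delta Cfsg.Agent.H74.E83.Code.row; rewrite [Cfsg.Agent.LsF.nsub_pat, Cfsg.Agent.LsF.npow_pat]; exact rfl) | exact rfl⟩
private noncomputable def _root_.Cfsg.Agent.LsF.ff98c16_5 : {f // @Cfsg.Agent.H74.E83.Code.put = f} := ⟨_, by first | (delta Cfsg.Agent.H74.E83.Code.put; rewrite [Cfsg.Agent.LsF.ff98c16_4.2]; exact rfl) | exact rfl⟩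
private noncomputable def _root_.Cfsg.Agent.LsF.ff98c16_6 : {f // @Cfsg.Agent.H74.E83.Trit.tneg = f} := ⟨_, by first | (delta Cfsg.Agent.H74.E83.Trit.tneg; rewrite [Cfsg.Agent.LsF.nsub_pat, Cfsg.Agent.LsF.npow_pat]; exact rfl) | exact rfl⟩
private noncomputable def _root_.Cfsg.Agent.LsF.ff98c16_7 : {f // @Cfsg.Agent.H74.E83.Trit.tt = f} := ⟨_, by first | (delta Cfsg.Agent.H74.E83.Trit.tt; rewrite [Cfsg.Agent.LsF.nsub_pat, Cfsg.Agent.LsF.npow_pat]; exact rfl) | exact rfl⟩
private noncomputable def _root_.Cfsg.Agent.LsF.ff98c16_8 : {f // @Cfsg.Agent.H74.E83.Trit.tadd = f} := ⟨_, by first | (delta Cfsg.Agent.H74.E83.Trit.tadd; rewrite [Cfsg.Agent.LsF.ff98c16_6.2, Cfsg.Agent.LsF.ff98c16_7.2]; exact rfl) | exact rfl⟩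
private noncomputable def _root_.Cfsg.Agent.LsF.ff98c16_9 : {f // @Cfsg.Agent.H74.E83.Trit.tsub = f} := ⟨_, by first | (delta Cfsg.Agent.H74.E83.Trit.tsub; rewrite [Cfsg.Agent.LsF.ff98c16_6.2, Cfsg.Agent.LsF.ff98c16_7.2]; exact rfl) | exact rfl⟩
private noncomputable def _root_.Cfsg.Agent.LsF.ff98c16_10 : {f // @Cfsg.Agent.H977.E83.putL = f} := ⟨_, by first | (delta Cfsg.Agent.H977.E83.putL List.brecOn List.brecOn.go Cfsg.Agent.H977.E83.putL._f; rewrite [Cfsg.Agent.LsF.ff98c16_5.2, Cfsg.Agent.LsF.ff98c16_8.2, Cfsg.Agent.LsF.ff98c16_4.2, Cfsg.Agent.LsF.ff98c16_9.2, Cfsg.Agent.LsF.nadd_pat, Cfsg.Agent.LsF.imod_pat, Cfsg.Agent.LsF.cond_eq, Cfsg.Agent.LsF.toNat_eq]; (try delta Cfsg.Agent.H977.E83.putL.match_1); (try delta List.casesOn); first | dsimp -zeta only | exact rfl) | exact rfl⟩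
private noncomputable def _root_.Cfsg.Agent.LsF.ff98c16_11 : {f // @Cfsg.Agent.H977.E83.V0 = f} := ⟨_, by first | (delta Cfsg.Agent.H977.E83.V0; rewrite [Cfsg.Agent.LsF.ff98c16_10.2]; exact rfl) | exact rfl⟩
theorem c0 : col V0 0 = _root_.Cfsg.Agent.H64.E83.vec lw1 := col_of (by ((try (rewrite [Cfsg.Agent.LsF.ff98c16_3.2, Cfsg.Agent.LsF.ff98c16_4.2, Cfsg.Agent.LsF.ff98c16_11.2])); decide +kernel))
theorem c1 : col V0 1 = _root_.Cfsg.Agent.H64.E83.vec lw2 := col_of (by ((try (rewrite [Cfsg.Agent.LsF.ff98c16_3.2, Cfsg.Agent.LsF.ff98c16_4.2, Cfsg.Agent.LsF.ff98c16_11.2])); decide +kernel))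
theorem c2 : col V0 2 = _root_.Cfsg.Agent.H64.E83.vec lw3 := col_of (by ((try (rewrite [Cfsg.Agent.LsF.ff98c16_3.2, Cfsg.Agent.LsF.ff98c16_4.2, Cfsg.Agent.LsF.ff98c16_11.2])); decide +kernel))
theorem c3 : col V0 3 = _root_.Cfsg.Agent.H64.E83.vec lw4 := col_of (by ((try (rewrite [Cfsg.Agent.LsF.ff98c16_3.2, Cfsg.Agent.LsF.ff98c16_4.2, Cfsg.Agent.LsF.ff98c16_11.2])); decide +kernel))

/-- `y x y t x`, `x t y y x`, `x y x` -/
def chk (k : ℕ → ℕ → ℕ → Bool) : Bool :=
  frc V0 fun V => frc (wc TX wX V) fun A => frc (wc TX wY A) fun B => frc (wc TX wX B) fun C3 =>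
    frc (wc TX wX (wc TX wT (wc TX wY B))) fun B3 =>
      frc (wc TX wY (wc TX wX (wc TX wY (wc TX wT A)))) fun A3 => k A3 B3 C3

private noncomputable def _root_.Cfsg.Agent.LsF.ff98c16_12 : {f // @Cfsg.Agent.H74.E83.Code.stepE = f} := ⟨_, by first | (delta Cfsg.Agent.H74.E83.Code.stepE; rewrite [Cfsg.Agent.LsF.ff98c16_5.2, Cfsg.Agent.LsF.ff98c16_9.2, Cfsg.Agent.LsF.ff98c16_4.2, Cfsg.Agent.LsF.ff98c16_8.2, Cfsg.Agent.LsF.cond_eq]; exact rfl) | exact rfl⟩
private noncomputable def _root_.Cfsg.Agent.LsF.ff98c16_13 : {f // @Cfsg.Agent.H74.E83.Code.mulS = f} := ⟨_, by first | (delta Cfsg.Agent.H74.E83.Code.mulS; rewrite [Cfsg.Agent.LsF.ff98c16_12.2, Cfsg.Agent.LsF.foldr_eq]; (try delta Cfsg.Agent.H74.E83.Code.mulS.match_1); (try rewrite [Cfsg.Agent.LsF.instDecEq_eq, Cfsg.Agent.LsF.dite_eq]); exact rfl) | exact rfl⟩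
private noncomputable def _root_.Cfsg.Agent.LsF.ff98c16_14 : {f // @Cfsg.Agent.H74.E83.Code.look = f} := ⟨_, by first | (delta Cfsg.Agent.H74.E83.Code.look List.brecOn List.brecOn.go Cfsg.Agent.H74.E83.Code.look._f; rewrite [Cfsg.Agent.LsF.cond_eq]; (try delta Cfsg.Agent.H74.E83.Code.look.match_1); (try delta List.casesOn); first | dsimp -zeta only | exact rfl) | exact rfl⟩
private noncomputable def _root_.Cfsg.Agent.LsF.ff98c16_15 : {f // @Cfsg.Agent.H74.E83.Code.mulX = f} := ⟨_, by first | (delta Cfsg.Agent.H74.E83.Code.mulX; rewrite [Cfsg.Agent.LsF.ff98c16_13.2, Cfsg.Agent.LsF.ff98c16_14.2]; exact rfl) | exact rfl⟩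
private noncomputable def _root_.Cfsg.Agent.LsF.ff98c16_16 : {f // @Cfsg.Agent.H74.E83.Code.wc = f} := ⟨_, by first | (delta Cfsg.Agent.H74.E83.Code.wc; rewrite [Cfsg.Agent.LsF.ff98c16_15.2, Cfsg.Agent.LsF.foldr_eq]; exact rfl) | exact rfl⟩
private noncomputable def _root_.Cfsg.Agent.LsF.ff98c16_17 : {f // @Cfsg.Agent.H977.E83.chk = f} := ⟨_, by first | (delta Cfsg.Agent.H977.E83.chk; rewrite [Cfsg.Agent.LsF.ff98c16_11.2, Cfsg.Agent.LsF.ff98c16_16.2]; exact rfl) | exact rfl⟩
private noncomputable def _root_.Cfsg.Agent.LsF.ff98c16_18 : {f // @Cfsg.Agent.H977.E83.row3 = f} := ⟨_, by first | (delta Cfsg.Agent.H977.E83.row3; rewrite [Cfsg.Agent.LsF.ff98c16_6.2, Cfsg.Agent.LsF.ff98c16_8.2, Cfsg.Agent.LsF.ff98c16_4.2]; exact rfl) | exact rfl⟩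
theorem chk_ok : chk (fun A B C => okF (row3 A B C) 0 lh1 && (okF (row3 A B C) 1 lh2 && (okF (row3 A B C) 2 lh3 &&
    okF (row3 A B C) 3 lh4))) = true := by ((try (rewrite [Cfsg.Agent.LsF.ff98c16_17.2, Cfsg.Agent.LsF.ff98c16_3.2, Cfsg.Agent.LsF.ff98c16_18.2, Cfsg.Agent.LsF.and_eq])); decide +kernel)

/-- the word identity -/
theorem main {j : Fin 8} {w h : List (ℕ × ℤ)} (hw : col V0 j = _root_.Cfsg.Agent.H64.E83.vec w)
    (hh : okF (row3 (wc TX wY (wc TX wX (wc TX wY (wc TX wT (wc TX wX V0))))) (wc TX wX (wc TX wT (wc TX wY (wc TX wY (wc TX wX V0)))))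
      (wc TX wX (wc TX wY (wc TX wX V0)))) j.val h = true) :
    _root_.Cfsg.Agent.H64.E83.vec h = -(mx (Ph Ay) *ᵥ (mx (Ph Ax) *ᵥ (mx (Ph Ay) *ᵥ (mx (Ph At) *ᵥ (mx (Ph Ax) *ᵥ _root_.Cfsg.Agent.H64.E83.vec w))))) -
      mx (Ph Ax) *ᵥ (mx (Ph At) *ᵥ (mx (Ph Ay) *ᵥ (mx (Ph Ay) *ᵥ (mx (Ph Ax) *ᵥ _root_.Cfsg.Agent.H64.E83.vec w)))) -
      mx (Ph Ax) *ᵥ (mx (Ph Ay) *ᵥ (mx (Ph Ax) *ᵥ _root_.Cfsg.Agent.H64.E83.vec w)) := by
  obtain ⟨v1, e1⟩ := act_x vldM_V0
  obtain ⟨v2, e2⟩ := act_t v1
  obtain ⟨v3, e3⟩ := act_y v2
  obtain ⟨v4, e4⟩ := act_x v3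
  obtain ⟨v5, e5⟩ := act_y v4
  obtain ⟨u2, f2⟩ := act_y v1
  obtain ⟨u3, f3⟩ := act_y u2
  obtain ⟨u4, f4⟩ := act_t u3
  obtain ⟨u5, f5⟩ := act_x u4
  obtain ⟨z3, g3⟩ := act_x u2
  rw [col3_of v5 u5 z3 hh, e5, e4, e3, e2, e1, f5, f4, f3, f2, g3, f2, e1, hw]

theorem hvec :
    _root_.Cfsg.Agent.H64.E83.vec lh1 = -(mx (Ph Ay) *ᵥ (mx (Ph Ax) *ᵥ (mx (Ph Ay) *ᵥ (mx (Ph At) *ᵥ (mx (Ph Ax) *ᵥ _root_.Cfsg.Agent.H64.E83.vec lw1))))) -
      mx (Ph Ax) *ᵥ (mx (Ph At) *ᵥ (mx (Ph Ay) *ᵥ (mx (Ph Ay) *ᵥ (mx (Ph Ax) *ᵥ _root_.Cfsg.Agent.H64.E83.vec lw1)))) -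
      mx (Ph Ax) *ᵥ (mx (Ph Ay) *ᵥ (mx (Ph Ax) *ᵥ _root_.Cfsg.Agent.H64.E83.vec lw1)) ∧
    _root_.Cfsg.Agent.H64.E83.vec lh2 = -(mx (Ph Ay) *ᵥ (mx (Ph Ax) *ᵥ (mx (Ph Ay) *ᵥ (mx (Ph At) *ᵥ (mx (Ph Ax) *ᵥ _root_.Cfsg.Agent.H64.E83.vec lw2))))) -
      mx (Ph Ax) *ᵥ (mx (Ph At) *ᵥ (mx (Ph Ay) *ᵥ (mx (Ph Ay) *ᵥ (mx (Ph Ax) *ᵥ _root_.Cfsg.Agent.H64.E83.vec lw2)))) -
      mx (Ph Ax) *ᵥ (mx (Ph Ay) *ᵥ (mx (Ph Ax) *ᵥ _root_.Cfsg.Agent.H64.E83.vec lw2)) ∧
    _root_.Cfsg.Agent.H64.E83.vec lh3 = -(mx (Ph Ay) *ᵥ (mx (Ph Ax) *ᵥ (mx (Ph Ay) *ᵥ (mx (Ph At) *ᵥ (mx (Ph Ax) *ᵥ _root_.Cfsg.Agent.H64.E83.vec lw3))))) -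
      mx (Ph Ax) *ᵥ (mx (Ph At) *ᵥ (mx (Ph Ay) *ᵥ (mx (Ph Ay) *ᵥ (mx (Ph Ax) *ᵥ _root_.Cfsg.Agent.H64.E83.vec lw3)))) -
      mx (Ph Ax) *ᵥ (mx (Ph Ay) *ᵥ (mx (Ph Ax) *ᵥ _root_.Cfsg.Agent.H64.E83.vec lw3)) ∧
    _root_.Cfsg.Agent.H64.E83.vec lh4 = -(mx (Ph Ay) *ᵥ (mx (Ph Ax) *ᵥ (mx (Ph Ay) *ᵥ (mx (Ph At) *ᵥ (mx (Ph Ax) *ᵥ _root_.Cfsg.Agent.H64.E83.vec lw4))))) -
      mx (Ph Ax) *ᵥ (mx (Ph At) *ᵥ (mx (Ph Ay) *ᵥ (mx (Ph Ay) *ᵥ (mx (Ph Ax) *ᵥ _root_.Cfsg.Agent.H64.E83.vec lw4)))) -
      mx (Ph Ax) *ᵥ (mx (Ph Ay) *ᵥ (mx (Ph Ax) *ᵥ _root_.Cfsg.Agent.H64.E83.vec lw4)) := by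
  have h := chk_ok
  unfold chk at h
  rw [frc_eq, frc_eq, frc_eq, frc_eq, frc_eq, frc_eq, Bool.and_eq_true, Bool.and_eq_true, Bool.and_eq_true] at h
  obtain ⟨h1, h2, h3, h4⟩ := h
  exact ⟨main c0 h1, main c1 h2, main c2 h3, main c3 h4⟩

end Cfsg.Agent.H977.E83
end

-- part: H977/E83/Wact
section
/-!
# S5925, box K: further explicit images under `x`, `y`, `t` (helper977)

The vectors are given as signed lists (`vb` of helper738), the letters are `x = Ph Ax`, `y = Ph Ay`, `t = Ph At`.
-/

set_option autoImplicit false
set_option maxRecDepth 100000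
set_option exponentiation.threshold 600

namespace Cfsg.Agent.H977.E83

open Matrix Cfsg.Lie
open Cfsg.Agent.H788.E83 (SL5 Lt Ax Ay At wx wy wt ev)
open Cfsg.Agent.H74.E83 Cfsg.Agent.H74.E83.Trit Cfsg.Agent.H74.E83.Code Cfsg.Agent.H74.E83.Elim
open Cfsg.Agent.H64.E83 (mx L3 er vec Ph eqv vec_eq)
open Cfsg.Agent.H738.E83 (vb)
open Cfsg.Agent.H751.Two.Word (sz pos posOK)

/-- a signed list as a list with integer coefficients -/
def zl (w : List (ℕ × Bool)) : List (ℕ × ℤ) := w.map fun l => (l.1, if l.2 = true then 1 else -1)

theorem vb_zl (w : List (ℕ × Bool)) : vb w = _root_.Cfsg.Agent.H64.E83.vec (zl w) := rfl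

/-- equality of two columns -/
def eqF (f g : ℕ → ℕ) (a b : ℕ) : Bool := (List.range 248).all fun i =>
  Nat.beq (bt (f i) a) (bt (g i) b) && Nat.beq (bt (f i) (256 + a)) (bt (g i) (256 + b))

theorem bt_inj {w w' a b : ℕ} (h : Nat.beq (bt w a) (bt w' b) = true) : w.testBit a = w'.testBit b := by
  rw [← bt_eq, ← bt_eq, Nat.eq_of_beq_eq_true h]

theorem col_eq_of {A B : ℕ} {a b : Fin 8} (h : eqF (_root_.Cfsg.Agent.H74.E83.Code.row A) (_root_.Cfsg.Agent.H74.E83.Code.row B) a.val b.val = true) : col A a = col B b := by
  funext i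
  unfold eqF at h
  rw [List.all_eq_true] at h
  have h1 := h _ (List.mem_range.2 (pos_lt' i))
  rw [Bool.and_eq_true] at h1
  rw [col_apply, col_apply]
  unfold val
  rw [bt_inj h1.1, bt_inj h1.2]

/-! ### data -/

/-- `q` -/
def ql : List (ℕ × Bool) := [(14, true), (127, false), (133, true), (140, false), (165, true), (171, true),
  (176, true), (187, true)]

/-- `u₀` -/
def u0 : List (ℕ × Bool) := [(15, false), (16, false), (21, false), (126, true), (131, true), (137, true), (144, false),
  (145, false), (149, true), (151, false), (154, true), (155, true), (165, true), (171, true), (176, true), (187, true)]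

/-- `r₀` -/
def r0 : List (ℕ × Bool) := [(14, false), (15, false), (16, false), (21, false), (126, true), (127, true), (131, true),
  (133, false), (137, true), (140, true), (144, false), (145, false), (149, true), (151, false), (154, true), (155, true)]

/-- `h₁` -/
def bh1 : List (ℕ × Bool) := lh1.map fun p => (p.1, decide (p.2 = 1))

/-- `h₂` -/
def bh2 : List (ℕ × Bool) := [(18, false), (19, true), (23, false), (25, true), (28, false), (29, true), (159, true),
  (160, true), (161, true), (178, true), (179, true), (181, true), (188, false), (190, true), (192, true), (195, false),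
  (196, false), (199, true), (207, false), (208, false), (209, false)]

/-- `h₃` -/
def bh3 : List (ℕ × Bool) := lh3.map fun p => (p.1, decide (p.2 = 1))

/-- `h₄` -/
def bh4 : List (ℕ × Bool) := lh4.map fun p => (p.1, decide (p.2 = 1))

private noncomputable def _root_.Cfsg.Agent.LsF.ff98c16_19 : {f // @Cfsg.Agent.H64.E83.eqv = f} := ⟨_, by first | (delta Cfsg.Agent.H64.E83.eqv; rewrite [Cfsg.Agent.LsF.ff98c16_1.2, Cfsg.Agent.LsF.isub_pat, Cfsg.Agent.LsF.imod_pat, Cfsg.Agent.LsF.lappend_pat, Cfsg.Agent.LsF.all_eq, Cfsg.Agent.LsF.instIDecEq_eq, Cfsg.Agent.LsF.decide_eq]; exact rfl) | exact rfl⟩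
private noncomputable def _root_.Cfsg.Agent.LsF.ff98c16_20 : {f // @Cfsg.Agent.H977.E83.zl = f} := ⟨_, by first | (delta Cfsg.Agent.H977.E83.zl; rewrite [Cfsg.Agent.LsF.ineg_pat, Cfsg.Agent.LsF.map_eq, Cfsg.Agent.LsF.dBoolEq_eq, Cfsg.Agent.LsF.ite_eq]; exact rfl) | exact rfl⟩
private noncomputable def _root_.Cfsg.Agent.LsF.ff98c16_21 : {f // @Cfsg.Agent.H977.E83.bh1 = f} := ⟨_, by first | (delta Cfsg.Agent.H977.E83.bh1; rewrite [Cfsg.Agent.LsF.map_eq, Cfsg.Agent.LsF.instIDecEq_eq, Cfsg.Agent.LsF.decide_eq]; exact rfl) | exact rfl⟩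
theorem vec_h1 : _root_.Cfsg.Agent.H64.E83.vec lh1 = vb bh1 := vec_eq (l' := zl bh1) (by ((try (rewrite [Cfsg.Agent.LsF.ff98c16_19.2, Cfsg.Agent.LsF.ff98c16_20.2, Cfsg.Agent.LsF.ff98c16_21.2])); decide +kernel))
theorem vec_h2 : _root_.Cfsg.Agent.H64.E83.vec lh2 = vb bh2 := vec_eq (l' := zl bh2) (by decide +kernel)
theorem vec_h3 : _root_.Cfsg.Agent.H64.E83.vec lh3 = vb bh3 := vec_eq (l' := zl bh3) (by decide +kernel)
private noncomputable def _root_.Cfsg.Agent.LsF.ff98c16_22 : {f // @Cfsg.Agent.H977.E83.bh4 = f} := ⟨_, by first | (delta Cfsg.Agent.H977.E83.bh4; rewrite [Cfsg.Agent.LsF.map_eq, Cfsg.Agent.LsF.instIDecEq_eq, Cfsg.Agent.LsF.decide_eq]; exact rfl) | exact rfl⟩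
theorem vec_h4 : _root_.Cfsg.Agent.H64.E83.vec lh4 = vb bh4 := vec_eq (l' := zl bh4) (by ((try (rewrite [Cfsg.Agent.LsF.ff98c16_19.2, Cfsg.Agent.LsF.ff98c16_20.2, Cfsg.Agent.LsF.ff98c16_22.2])); decide +kernel))

/-- `t r₀` -/
def tr0 : List (ℕ × Bool) := [(14, false), (15, true), (16, true), (21, false), (126, false), (127, true), (131, false),
  (133, false), (137, true), (140, true), (144, true), (145, true), (149, true), (151, true), (154, true), (155, false)]

/-- `t h₂` -/
def th2 : List (ℕ × Bool) := [(18, true), (19, false), (23, false), (25, false), (28, false), (29, false), (159, true),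
  (160, false), (161, false), (178, false), (179, false), (181, true), (188, false), (190, false), (192, true),
  (195, false), (196, true), (199, true), (207, false), (208, true), (209, true)]

/-- `y x x r₀` -/
def yxxr0 : List (ℕ × Bool) := [(15, false), (16, false), (126, true), (131, true), (144, false), (145, false),
  (151, false), (155, true)]

/-- `y x x h₂` -/
def yxxh2 : List (ℕ × Bool) := [(22, true), (26, true), (37, true), (38, false), (156, true), (157, true), (178, true),
  (179, true), (190, true), (196, false), (208, false), (209, false)]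

/-- the columns `q`, `u₀`, `r₀`, `h₂` -/
def V1 : ℕ := putL 0 (zl ql) (putL 1 (zl u0) (putL 2 (zl r0) (putL 3 (zl bh2) 0)))

theorem vldM_V1 : VldM V1 :=
  vldM_putL (by norm_num) _ (vldM_putL (by norm_num) _ (vldM_putL (by norm_num) _ (vldM_putL (by norm_num) _ vldM_zero)))

private noncomputable def _root_.Cfsg.Agent.LsF.ff98c16_23 : {f // @Cfsg.Agent.H977.E83.V1 = f} := ⟨_, by first | (delta Cfsg.Agent.H977.E83.V1; rewrite [Cfsg.Agent.LsF.ff98c16_10.2, Cfsg.Agent.LsF.ff98c16_20.2]; exact rfl) | exact rfl⟩
theorem d0 : col V1 0 = vb ql := col_of (l := zl ql) (by ((try (rewrite [Cfsg.Agent.LsF.ff98c16_3.2, Cfsg.Agent.LsF.ff98c16_4.2, Cfsg.Agent.LsF.ff98c16_23.2, Cfsg.Agent.LsF.ff98c16_20.2])); decide +kernel))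
theorem d1 : col V1 1 = vb u0 := col_of (l := zl u0) (by ((try (rewrite [Cfsg.Agent.LsF.ff98c16_3.2, Cfsg.Agent.LsF.ff98c16_4.2, Cfsg.Agent.LsF.ff98c16_23.2, Cfsg.Agent.LsF.ff98c16_20.2])); decide +kernel))
theorem d2 : col V1 2 = vb r0 := col_of (l := zl r0) (by ((try (rewrite [Cfsg.Agent.LsF.ff98c16_3.2, Cfsg.Agent.LsF.ff98c16_4.2, Cfsg.Agent.LsF.ff98c16_23.2, Cfsg.Agent.LsF.ff98c16_20.2])); decide +kernel))
theorem d3 : col V1 3 = vb bh2 := col_of (l := zl bh2) (by ((try (rewrite [Cfsg.Agent.LsF.ff98c16_3.2, Cfsg.Agent.LsF.ff98c16_4.2, Cfsg.Agent.LsF.ff98c16_23.2, Cfsg.Agent.LsF.ff98c16_20.2])); decide +kernel))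

theorem chkY : frc V1 (fun V => frc (wc TX wY V) fun Y => okF (_root_.Cfsg.Agent.H74.E83.Code.row Y) 0 (zl ql)) = true := by ((try (rewrite [Cfsg.Agent.LsF.ff98c16_23.2, Cfsg.Agent.LsF.ff98c16_16.2, Cfsg.Agent.LsF.ff98c16_3.2, Cfsg.Agent.LsF.ff98c16_4.2, Cfsg.Agent.LsF.ff98c16_20.2])); decide +kernel)

theorem chkT : frc V1 (fun V => frc (wc TX wT V) fun T => okF (_root_.Cfsg.Agent.H74.E83.Code.row T) 0 (zl ql) && (okF (_root_.Cfsg.Agent.H74.E83.Code.row T) 2 (zl tr0) &&
    okF (_root_.Cfsg.Agent.H74.E83.Code.row T) 3 (zl th2))) = true := by ((try (rewrite [Cfsg.Agent.LsF.ff98c16_23.2, Cfsg.Agent.LsF.ff98c16_16.2, Cfsg.Agent.LsF.ff98c16_3.2, Cfsg.Agent.LsF.ff98c16_4.2, Cfsg.Agent.LsF.ff98c16_20.2, Cfsg.Agent.LsF.and_eq])); decide +kernel)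

theorem chkYXX : frc V1 (fun V => frc (wc TX wY (wc TX wX (wc TX wX V))) fun T => okF (_root_.Cfsg.Agent.H74.E83.Code.row T) 2 (zl yxxr0) &&
    okF (_root_.Cfsg.Agent.H74.E83.Code.row T) 3 (zl yxxh2)) = true := by ((try (rewrite [Cfsg.Agent.LsF.ff98c16_23.2, Cfsg.Agent.LsF.ff98c16_16.2, Cfsg.Agent.LsF.ff98c16_3.2, Cfsg.Agent.LsF.ff98c16_4.2, Cfsg.Agent.LsF.ff98c16_20.2, Cfsg.Agent.LsF.and_eq])); decide +kernel)

/-- `x⁹` on a packed matrix -/
def x9 (V : ℕ) : ℕ := wc TX wX (wc TX wX (wc TX wX (wc TX wX (wc TX wX (wc TX wX (wc TX wX (wc TX wX (wc TX wX V))))))))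

theorem chk9 : frc V1 (fun V => frc (wc TX wX (wc TX wT (wc TX wY V))) fun A => frc (x9 V) fun B =>
    eqF (_root_.Cfsg.Agent.H74.E83.Code.row A) (_root_.Cfsg.Agent.H74.E83.Code.row B) 1 0) = true := by decide +kernel

/-- `y q = q` -/
theorem y_q : mx (Ph Ay) *ᵥ vb ql = vb ql := by
  have h := chkY
  rw [frc_eq, frc_eq] at h
  rw [← d0, ← (act_y vldM_V1).2 0, d0]
  exact col_of h

/-- `t q = q`, `t r₀`, `t h₂` -/
theorem t_all : mx (Ph At) *ᵥ vb ql = vb ql ∧ mx (Ph At) *ᵥ vb r0 = vb tr0 ∧ mx (Ph At) *ᵥ vb bh2 = vb th2 := by
  have h := chkT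
  rw [frc_eq, frc_eq, Bool.and_eq_true, Bool.and_eq_true] at h
  refine ⟨?_, ?_, ?_⟩
  · rw [← d0, ← (act_t vldM_V1).2 0, d0]
    exact col_of h.1
  · rw [← d2, ← (act_t vldM_V1).2 2]
    exact col_of h.2.1
  · rw [← d3, ← (act_t vldM_V1).2 3]
    exact col_of h.2.2

theorem t_q : mx (Ph At) *ᵥ vb ql = vb ql := t_all.1
theorem t_r0 : mx (Ph At) *ᵥ vb r0 = vb tr0 := t_all.2.1
theorem t_h2 : mx (Ph At) *ᵥ vb bh2 = vb th2 := t_all.2.2

/-- `y x x r₀`, `y x x h₂` -/
theorem yxx_all : mx (Ph Ay) *ᵥ (mx (Ph Ax) *ᵥ (mx (Ph Ax) *ᵥ vb r0)) = vb yxxr0 ∧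
    mx (Ph Ay) *ᵥ (mx (Ph Ax) *ᵥ (mx (Ph Ax) *ᵥ vb bh2)) = vb yxxh2 := by
  have h := chkYXX
  rw [frc_eq, frc_eq, Bool.and_eq_true] at h
  obtain ⟨v1, e1⟩ := act_x vldM_V1
  obtain ⟨v2, e2⟩ := act_x v1
  obtain ⟨v3, e3⟩ := act_y v2
  constructor
  · rw [← d2, ← e1, ← e2, ← e3]
    exact col_of h.1
  · rw [← d3, ← e1, ← e2, ← e3]
    exact col_of h.2

theorem yxx_r0 : mx (Ph Ay) *ᵥ (mx (Ph Ax) *ᵥ (mx (Ph Ax) *ᵥ vb r0)) = vb yxxr0 := yxx_all.1
theorem yxx_h2 : mx (Ph Ay) *ᵥ (mx (Ph Ax) *ᵥ (mx (Ph Ax) *ᵥ vb bh2)) = vb yxxh2 := yxx_all.2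

/-- `x t y u₀ = x⁹ q` -/
theorem xty_u0 : mx (Ph Ax) *ᵥ (mx (Ph At) *ᵥ (mx (Ph Ay) *ᵥ vb u0)) =
    mx (Ph Ax) *ᵥ (mx (Ph Ax) *ᵥ (mx (Ph Ax) *ᵥ (mx (Ph Ax) *ᵥ (mx (Ph Ax) *ᵥ (mx (Ph Ax) *ᵥ (mx (Ph Ax) *ᵥ
      (mx (Ph Ax) *ᵥ (mx (Ph Ax) *ᵥ vb ql)))))))) := by
  have h := chk9
  rw [frc_eq, frc_eq, frc_eq] at h
  obtain ⟨v1, e1⟩ := act_y vldM_V1
  obtain ⟨v2, e2⟩ := act_t v1
  obtain ⟨v3, e3⟩ := act_x v2
  obtain ⟨w1, f1⟩ := act_x vldM_V1
  obtain ⟨w2, f2⟩ := act_x w1
  obtain ⟨w3, f3⟩ := act_x w2
  obtain ⟨w4, f4⟩ := act_x w3
  obtain ⟨w5, f5⟩ := act_x w4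
  obtain ⟨w6, f6⟩ := act_x w5
  obtain ⟨w7, f7⟩ := act_x w6
  obtain ⟨w8, f8⟩ := act_x w7
  obtain ⟨w9, f9⟩ := act_x w8
  rw [← d1, ← d0, ← e1, ← e2, ← e3, ← f1, ← f2, ← f3, ← f4, ← f5, ← f6, ← f7, ← f8, ← f9]
  exact col_eq_of h

theorem mx_pow (g : ↥(chevE8.group (ZMod 3))) (n : ℕ) (v : L3) :
    mx (g ^ (n + 1)) *ᵥ v = mx g *ᵥ (mx (g ^ n) *ᵥ v) := by
  rw [pow_succ', Matrix.mulVec_mulVec]; rfl

/-- `x t y u₀ = x⁹ q` -/
theorem xty_u0' : mx (Ph Ax) *ᵥ (mx (Ph At) *ᵥ (mx (Ph Ay) *ᵥ vb u0)) = mx (Ph Ax ^ 9) *ᵥ vb ql := by
  rw [xty_u0, mx_pow, mx_pow, mx_pow, mx_pow, mx_pow, mx_pow, mx_pow, mx_pow, pow_one]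

end Cfsg.Agent.H977.E83
end

private theorem dce_b7a24cef98ba : _root_.True := by
  try have : _root_.True := by simp only [_root_.Cfsg.Agent.H74.E83.Ker.addM.eq_1]
  try have : _root_.True := by simp only [_root_.Cfsg.Agent.H74.E83.Ker.cmp.eq_2]
  try have : _root_.True := by simp only [_root_.Cfsg.Agent.H74.E83.Ker.lc.eq_def]
  try have : _root_.True := by simp only [_root_.Cfsg.Agent.H74.E83.Ker.xr.eq_def]
  try have : _root_.True := by simp only [_root_.Cfsg.Agent.H74.E83.Ker.cmp.eq_def]
  try have : _root_.True := by simp only [_root_.Cfsg.Agent.H74.E83.Ker.cmp.eq_3]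
  try have : _root_.True := by simp only [_root_.Cfsg.Agent.H74.E83.Ker.cmp._sparseCasesOn_1.else_eq]
  try have : _root_.True := by simp only [_root_.Cfsg.Agent.H74.E83.Ker.cmp.eq_1]
  try have : _root_.True := by simp only [_root_.Cfsg.Agent.H74.E83.Ker.gj.eq_def]
  try have : _root_.True := by simp only [_root_.Cfsg.Agent.H74.E83.Ker.gj._sparseCasesOn_1.else_eq]
  try have : _root_.True := by simp only [_root_.Cfsg.Agent.H74.E83.Ker.fre.eq_def]
  exact _root_.True.intro
end

-- part: H732/E8T/Kform
section
set_option linter.all false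
open scoped Cfsg.Agent.FastGrp

/-- decoders of the packed data (elaboration time only) -/
private noncomputable def pk61d (b S i : Nat) : Nat := Nat.mod (Nat.shiftRight S (Nat.mul b i)) (Nat.shiftLeft (nat_lit 1) b)
private noncomputable def pk61f {α : Type} (t : Nat) (f : Nat → α) : α := Nat.rec (f Nat.zero) (fun k _ => f (Nat.succ k)) t
private noncomputable def pk61l {α : Type} (f : Nat → α) (s e : Nat) (tl : List α) : List α :=
  pk61f e fun e => Nat.rec tl (fun k ih => List.cons (pk61f (Nat.sub e (Nat.succ k)) f) ih) (Nat.sub e s)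
private noncomputable def lq26cca11412 {T : Sort _} (f :
    type_of% (@_root_.List.cons.{0}) →
    type_of% (@_root_.Prod.mk.{0, 0}) →
    type_of% (@_root_.List.nil.{0}) →
    type_of% (@_root_.List.cons.{0} (List Nat)) →
    type_of% (@_root_.List.cons.{0} (Prod Nat (Prod Nat Nat))) →
    type_of% (@_root_.List.cons.{0} (Prod Nat Nat)) →
    type_of% (@_root_.List.cons.{0} (Nat)) →
    type_of% (@_root_.Matrix.vecCons.{0}) →
    type_of% (@_root_.List.cons.{0} (Prod (List Nat) Nat)) →
    type_of% (@_root_.Matrix.vecEmpty.{0}) →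
    type_of% (@_root_.Cfsg.Agent.H837.E83.NM11.ev) →
    type_of% (@_root_.Cfsg.Agent.H74.E83.Code.wc) →
    type_of% (@_root_.Cfsg.Agent.H74.E83.TX) →
    type_of% (@_root_.Cfsg.Agent.H74.E83.wX) →
    type_of% (@_root_.Cfsg.Agent.H977.E83.frc) →
    ((Matrix (Fin 5) (Fin 5) (ZMod 3)) → (Matrix (Fin 5) (Fin 5) (ZMod 3))) →
    type_of% (@_root_.Cfsg.Agent.H74.E83.wY) →
    type_of% (@_root_.Cfsg.Agent.H977.E83.okF) →
    type_of% (@_root_.Cfsg.Agent.H74.E83.Code.row) →
    ((List Nat) → (List Nat)) →
    type_of% (@_root_.Nat.beq) →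
    type_of% (@_root_.Cfsg.Agent.H74.E83.Ker.chk) →
    type_of% (@_root_.Cfsg.Agent.H74.E83.Ker.mkW) →
    type_of% (@_root_.Cfsg.Agent.H74.E83.Ker.lw1) →
    type_of% (@_root_.Cfsg.Agent.H74.E83.Ker.lw2) →
    type_of% (@_root_.Cfsg.Agent.H74.E83.Ker.lw3) →
    type_of% (@_root_.Cfsg.Agent.H74.E83.Ker.lw4) →
    type_of% (@_root_.Cfsg.Agent.H74.E83.wT) → T) : T :=
  f (@_root_.List.cons.{0}) (@_root_.Prod.mk.{0, 0}) (@_root_.List.nil.{0}) (@_root_.List.cons.{0} (List Nat)) (@_root_.List.cons.{0} (Prod Nat (Prod Nat Nat))) (@_root_.List.cons.{0} (Prod Nat Nat)) (@_root_.List.cons.{0} (Nat)) (@_root_.Matrix.vecCons.{0}) (@_root_.List.cons.{0} (Prod (List Nat) Nat)) (@_root_.Matrix.vecEmpty.{0}) (@_root_.Cfsg.Agent.H837.E83.NM11.ev) (@_root_.Cfsg.Agent.H74.E83.Code.wc) (@_root_.Cfsg.Agent.H74.E83.TX) (@_root_.Cfsg.Agent.H74.E83.wX) (@_root_.Cfsg.Agent.H977.E83.frc) (fun x => x) (@_root_.Cfsg.Agent.H74.E83.wY) (@_root_.Cfsg.Agent.H977.E83.okF) (@_root_.Cfsg.Agent.H74.E83.Code.row) (fun x => x) (@_root_.Nat.beq) (@_root_.Cfsg.Agent.H74.E83.Ker.chk) (@_root_.Cfsg.Agent.H74.E83.Ker.mkW)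 (@_root_.Cfsg.Agent.H74.E83.Ker.lw1) (@_root_.Cfsg.Agent.H74.E83.Ker.lw2) (@_root_.Cfsg.Agent.H74.E83.Ker.lw3) (@_root_.Cfsg.Agent.H74.E83.Ker.lw4) (@_root_.Cfsg.Agent.H74.E83.wT)

-- part: H732/E8T/Edge
section
/-!
# S5925 box K: the relations between the 132 arc vectors of a module of `M11` (helper732)

Letters `0, 1, 2, 3 = x, y, t, f` of `H837/E83/NM11.lean`, acting on an abelian group of exponent 3; `q` is a vector fixed by
`A = ⟨y, t, x t x⁻¹⟩` with `f q = k q` (`k = 1` or `2 = -1`) and `∑_{i ∈ {1,3,4,5,9}} x^i q = 0`.
`A a b` = the image of `q` under the elements moving `(∞, 0)` to `(a, b)`.  All linear consequences are certificates.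
-/

set_option autoImplicit false

namespace Cfsg.Agent.H732.E8T

open Cfsg.Agent.H837.E83.NM11

/-- the words of the arcs `(a, b)`, index `12 * a + b` -/
noncomputable def Wt : List (List ℕ) :=
  (by
  refine (?fq9001 : ((pk61l (fun i1 => ((fun g1 : Nat → Nat => pk61l (fun i2 => (pk61d (nat_lit 2) 
    (nat_lit 0xc832000c80c800000c7000c70000c731c03200c8c7c800323200320c8000032000320000320000c8032032c84321cc803343303213320cc330cd3130330000cd000cd0003300334cc0033433433333340cc0000cc0003300000cc000cc00cccc003300cc33cf2400c900003240032432400032400003240324c90003240c9c40000310003100003103100310000c40031000003100c4313131000031000c4000310c403100031003100000c40c7000c000c0c0000300003000000c00000c030030000c30003003000c3000030000c00000c000030300cc0c00300c00cc0003000300000c0000c3) i2)) (g1 i1) (g1 (Nat.succ i1)) List.nil) fun j => (pk61d (nat_lit 10) 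
    (nat_lit 0x3d3f4fc9f03b8ec7abe9ba2e7f9de739ce6398e4f8ae1376db360d6f53d3348d173ccf338cc32bc7b14c22fdbdaf0baee4b7edfb5ad0b2ac4af6b8aceaea9e9ca4a87a1e7f9ea719ae659865d95e4b902338a6298861d8520d82205805f87ade176dcf73dc16e5b46a5a26799161d7b5d56d589625654b5113f4f1384b1234611343102408fa3b4e7390dd354d1318bc2bca32789e2608f234851fc781d46b1885612c4711c421043d0d8310ac29080180340300000) j))) (nat_lit 0) (nat_lit 144) List.nil) : List (List ℕ))
    = ?xq9001 → (List (List ℕ))) ?hq9001; (case hq9001 => (set_option maxRecDepth 1000000 in set_option simprocs false in conv => lhs; reduce; dsimp only)); intro _; exact ?xq9001 : List (List ℕ))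

noncomputable def Ct0 : List (List ℕ) :=
  (by
  refine (?fq9002 : ((pk61l (fun i1 => ((fun g1 : Nat → Nat => pk61l (fun i2 => (pk61d (nat_lit 3) 
    (nat_lit 0x28a425451424c5112a22a22622518a150988a84991430c46288944c50a2a150988a90c8a22a28a444c48a86285425124988a8622518a146230a85130a8a18a231144a84988c5112945212628493212a2309889521849249249249249249) i2)) (g1 i1) (g1 (Nat.succ i1)) List.nil) fun j => (pk61d (nat_lit 8) 
    (nat_lit 0xf9f9f9f9f9f9f9f9f9f9f9f9f9f5f5f1ede9e6e4dfdcd8d5d0d0ccccccccccc7c3bfbcbcbcb8b4b1b1b1ada8a49f9c9c9895918d8b8b8b8b8682828282827e7b77777772726e6a6a6a6764625f5d5959544f4b46413d3a36322d2a2626221e1a161616161616161616161616161412100e0c0a080604040200000000000000000000000000000000000000000000000000) j))) (nat_lit 0) (nat_lit 144) List.nil) : List (List ℕ))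
    = ?xq9002 → (List (List ℕ))) ?hq9002; (case hq9002 => (set_option maxRecDepth 1000000 in set_option simprocs false in conv => lhs; reduce; dsimp only)); intro _; exact ?xq9002 : List (List ℕ))

noncomputable def Ct1 : List (List ℕ) :=
  (by
  refine (?fq9003 : ((pk61l (fun i1 => ((fun g1 : Nat → Nat => pk61l (fun i2 => (pk61d (nat_lit 3) 
    (nat_lit 0x924924926225428a86246451126228a51431148a9112642a231184a8628622894543143112a231152188c4498a130c88a88a85445448c84c50984a86231444924924928a8622544619115212a131424988c4894542a1249911311522851894461289861249249249249249249249249) i2)) (g1 i1) (g1 (Nat.succ i1)) List.nil) fun j => (pk61d (nat_lit 9) 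
    (nat_lit 0x12a954a6512793496492391486411f8fc7e3f1c8e45e271086c2207008040201008040201008040201007dbdde6f3783b5d4e771b7db4d76bb51a8d46a33d96c761af976bb5bacd5eac562b158a753a9d4ea751a7936984b245228d4521d088240a00fe7e3e9f0f67b3d1e4f077391b8d4673117cb6572b94c9e4c2390c7e3b1b0c85c2a1389c48211088442211088442211088442210f06c30150903c18090300c0000) j))) (nat_lit 0) (nat_lit 144) List.nil) : List (List ℕ))
    = ?xq9003 → (List (List ℕ))) ?hq9003; (case hq9003 => (set_option maxRecDepth 1000000 in set_option simprocs false in conv => lhs; reduce; dsimp only)); intro _; exact ?xq9003 : List (List ℕ))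

noncomputable def Ct2 : List (List ℕ) :=
  (by
  refine (?fq9004 : ((pk61l (fun i1 => ((fun g1 : Nat → Nat => pk61l (fun i2 => (Nat.add (nat_lit 1) (pk61d (nat_lit 2) 
    (nat_lit 0xf5dc0c71371c341d741c0cd13733d1f40dc7711c071374341d3074f0c0734034dd330073447cf411cc137477074dc034114514514514514510000011cd074cf47c1c3700d350d1f430740370dccd351c4134711c37777033d1d) i2))) (g1 i1) (g1 (Nat.succ i1)) List.nil) fun j => (pk61d (nat_lit 9) 
    (nat_lit 0x166b3596c75dad55aa54ea551a89439f4fa75369a4c65d2992c8237168b45a2d168b45a2d168b45a2d1688c3a1d0e8541a03017ebe5ecf477bb1d0e472381c0dc6c351a8d066b2588c15eaf570b4582b150a55127d38994b24d269046a290e8441a0902803f9f8fa7d3e1ecf4793a1c0d86932184ba592c954a24e24914843e1d0d8642f158ac4c231188c46231188c46231188c4623110783416090401407030100000) j))) (nat_lit 0) (nat_lit 144) List.nil) : List (List ℕ))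
    = ?xq9004 → (List (List ℕ))) ?hq9004; (case hq9004 => (set_option maxRecDepth 1000000 in set_option simprocs false in conv => lhs; reduce; dsimp only)); intro _; exact ?xq9004 : List (List ℕ))

noncomputable def Ct3 : List (List ℕ) :=
  (by
  refine (?fq9005 : ((pk61l (fun i1 => ((fun g1 : Nat → Nat => pk61l (fun i2 => (Nat.add (nat_lit 1) (pk61d (nat_lit 2) 
    (nat_lit 0x1c1d1d4d373d1f40dcdd1c41d1c34703c137411cdccdd11cd01c34dc77030341f74cddcc74c751d1c03447c34771c13dc373770074df070374dd03744710d04dd1f430740370dccd351c4134711c37777033d1d) i2))) (g1 i1) (g1 (Nat.succ i1)) List.nil) fun j => (pk61d (nat_lit 9) 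
    (nat_lit 0x14da6d369b4da6d369b4da6d369b4da552a8b429fcee713397caa4f228fc6e37178943a170781bf9f4f779bb9d6eb73391c0de6cb55a0cf66b298ec361b017eba5c2dd6ab158ac562b158ac562b158ac562b1562a14ca24fa69349749a41188743a0cfe7a3c9dce673389b4d26633198c46231178b2562b148a44e24914843e1d0d8642f158ac4c231188c46231188c46231188c4623110783416090401407030100000) j))) (nat_lit 0) (nat_lit 144) List.nil) : List (List ℕ))
    = ?xq9005 → (List (List ℕ))) ?hq9005; (case hq9005 => (set_option maxRecDepth 1000000 in set_option simprocs false in conv => lhs; reduce; dsimp only)); intro _; exact ?xq9005 : List (List ℕ))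

noncomputable def Rt : List (List ℕ) :=
  (by
  refine (?fq9006 : ((pk61l (fun i1 => ((fun g1 : Nat → Nat => pk61l (fun i2 => (Nat.add (nat_lit 1) (pk61d (nat_lit 2) 
    (nat_lit 0x77774777077047000d01c1dd04d344d1cd30740dd01c07051cd1c35d0104d41431d4ddf507700d0d413371c4df31c33035471d0dc343711f1c034340d00c1c1f434347c14d1c1f71c4711cddf434751d11c74713707034d1770474471c4cdf30d101dc0045dc704f333) i2))) (g1 i1) (g1 (Nat.succ i1)) List.nil) fun j => (pk61d (nat_lit 9) 
    (nat_lit 0x1a6d368b3d9aca63b1587c26130984c1e0f017cbc5d2e16cb4d96c761b057ebf5fad55aa54ea551e87419ece671389b4ce612e964ae51269248239198cc5e290e8541a0b02803f1f0f679bcddeed7539dc6e26f365aad469b41a0cb63b1584be5e2e168b157aa94ea751a7d34964a23d1688421fcf6773b9d4e26c3599cc86430170b0542793c94472310078391c8d4642f158a050231107c32160984c1c0a0380c0000) j))) (nat_lit 0) (nat_lit 144) List.nil) : List (List ℕ))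
    = ?xq9006 → (List (List ℕ))) ?hq9006; (case hq9006 => (set_option maxRecDepth 1000000 in set_option simprocs false in conv => lhs; reduce; dsimp only)); intro _; exact ?xq9006 : List (List ℕ))

/-- `w = (1 + N) Y A(1,3)` -/
noncomputable def L30 : List (ℕ × ℕ × ℕ) :=
  (by
  refine (?fq9007 : ((pk61l (fun i1 => (_root_.Prod.mk (nat_lit 1) (_root_.Prod.mk (pk61d (nat_lit 4) 
    (nat_lit 0x3482012609015a8a04976705345931) i1) (pk61d (nat_lit 4) 
    (nat_lit 0x3482912608015a7a0493670514593) i1)))) (nat_lit 0) (nat_lit 30) List.nil) : List (ℕ × ℕ × ℕ))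
    = ?xq9007 → (List (ℕ × ℕ × ℕ))) ?hq9007; (case hq9007 => (set_option maxRecDepth 1000000 in set_option simprocs false in conv => lhs; reduce; dsimp only)); intro _; exact ?xq9007 : List (ℕ × ℕ × ℕ))

noncomputable def M1_2 : List (ℕ × ℕ × ℕ) :=
  (by
  refine (?fq9008 : ((pk61l (fun i1 => (_root_.Prod.mk (pk61d (nat_lit 2) 
    (nat_lit 0x6a969669699a959) i1) (_root_.Prod.mk (pk61d (nat_lit 4) 
    (nat_lit 0x876655444333222111110000000000) i1) (pk61d (nat_lit 4) 
    (nat_lit 0xaa9797a9595486398543a987654321) i1)))) (nat_lit 0) (nat_lit 30) List.nil) : List (ℕ × ℕ × ℕ))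
    = ?xq9008 → (List (ℕ × ℕ × ℕ))) ?hq9008; (case hq9008 => (set_option maxRecDepth 1000000 in set_option simprocs false in conv => lhs; reduce; dsimp only)); intro _; exact ?xq9008 : List (ℕ × ℕ × ℕ))

noncomputable def gc2 : List (List ℕ × ℕ) :=
  (by
  refine (?fq9009 : ((pk61l (fun i1 => (_root_.Prod.mk ((fun g1 : Nat → Nat => pk61l (fun i2 => (pk61d (nat_lit 2) 
    (nat_lit 0x325c40c931cc4304731c0320c430cdcccbc9c8c7c3c23332301c0ccf2c4c1f0c) i2)) (g1 i1) (g1 (Nat.succ i1)) List.nil) fun j => (pk61d (nat_lit 7) 
    (nat_lit 0x3ffaebc35e6c372bd29b2224078e1a3058a12203860a111c2c4050604000) j)) (pk61d (nat_lit 2) 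
    (nat_lit 0x19a55566a55669569) i1))) (nat_lit 0) (nat_lit 33) List.nil) : List (List ℕ × ℕ))
    = ?xq9009 → (List (List ℕ × ℕ))) ?hq9009; (case hq9009 => (set_option maxRecDepth 1000000 in set_option simprocs false in conv => lhs; reduce; dsimp only)); intro _; exact ?xq9009 : List (List ℕ × ℕ))

noncomputable def rc2 : List (ℕ × ℕ × ℕ) :=
  (by
  refine (?fq9010 : ((pk61l (fun i1 => (_root_.Prod.mk (pk61d (nat_lit 2) 
    (nat_lit 0x155aa955aaaaa555555555555555556aa556aaaaaaa5555555555556aa556aaaa95555555556aaaa955) i1) (_root_.Prod.mk (pk61d (nat_lit 4) 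
    (nat_lit 0x444445555555555aaaaa4444466666666662222299999333332222277777777772222255555aaaaaaaaaa1111166666666669999922222111111111166666999993333311111000001111100000bbbbbbbbbb) i1) (pk61d (nat_lit 4) 
    (nat_lit 0x589060472148a376517929367405899724376a80b4a70b4820b6091846b1063b5a46b59a30248219217b38236551a97835215a716509a36597ab5a80a52b4371089250a4a892548693890739781a654295431) i1)))) (nat_lit 0) (nat_lit 165) List.nil) : List (ℕ × ℕ × ℕ))
    = ?xq9010 → (List (ℕ × ℕ × ℕ))) ?hq9010; (case hq9010 => (set_option maxRecDepth 1000000 in set_option simprocs false in conv => lhs; reduce; dsimp only)); intro _; exact ?xq9010 : List (ℕ × ℕ × ℕ))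

noncomputable def gd2 : List (List ℕ × ℕ) :=
  (by
  refine (?fq9011 : ((pk61l (fun i1 => (_root_.Prod.mk ((fun g1 : Nat → Nat => pk61l (fun i2 => (pk61d (nat_lit 2) 
    (nat_lit 0xc94c9318c41cc721c0320c3331f1b130f08c4c0701f3cb0347081c1) i2)) (g1 i1) (g1 (Nat.succ i1)) List.nil) fun j => (pk61d (nat_lit 7) 
    (nat_lit 0x6ed392fdaab425c682f5cb562b54a54274c96264068a0e10100) j)) (pk61d (nat_lit 2) 
    (nat_lit 0xa666999aaa956a) i1))) (nat_lit 0) (nat_lit 28) List.nil) : List (List ℕ × ℕ))
    = ?xq9011 → (List (List ℕ × ℕ))) ?hq9011; (case hq9011 => (set_option maxRecDepth 1000000 in set_option simprocs false in conv => lhs; reduce; dsimp only)); intro _; exact ?xq9011 : List (List ℕ × ℕ))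

noncomputable def rd2 : List (ℕ × ℕ × ℕ) :=
  (by
  refine (?fq9012 : ((pk61l (fun i1 => (_root_.Prod.mk (pk61d (nat_lit 2) 
    (nat_lit 0xaaaaa556aa556aa556aaaa955aa955aa955aaaaaaaaaaaaaaaaa95555555556aaaaaaa) i1) (_root_.Prod.mk (pk61d (nat_lit 4) 
    (nat_lit 0x44444555553333344444666669999922222999992222277777aaaaa33333444441111166666333332222211111000006666699999222220000000000bbbbbbbbbb11111bbbbb) i1) (pk61d (nat_lit 4) 
    (nat_lit 0x5890648a379764229367972432418a76a80b4a70b6091063b5217b31640aa36108236551a9718256509a36597ab3482a52b43710849a1895a2354869082430a7493890787416) i1)))) (nat_lit 0) (nat_lit 140) List.nil) : List (ℕ × ℕ × ℕ))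
    = ?xq9012 → (List (ℕ × ℕ × ℕ))) ?hq9012; (case hq9012 => (set_option maxRecDepth 1000000 in set_option simprocs false in conv => lhs; reduce; dsimp only)); intro _; exact ?xq9012 : List (ℕ × ℕ × ℕ))

noncomputable def M1_1 : List (ℕ × ℕ × ℕ) :=
  (by
  refine (?fq9013 : ((pk61l (fun i1 => (_root_.Prod.mk (nat_lit 2) (_root_.Prod.mk (pk61d (nat_lit 4) 
    (nat_lit 0x876655444333222111110000000000) i1) (pk61d (nat_lit 4) 
    (nat_lit 0xaa9797a9595486398543a987654321) i1)))) (nat_lit 0) (nat_lit 30) List.nil) : List (ℕ × ℕ × ℕ))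
    = ?xq9013 → (List (ℕ × ℕ × ℕ))) ?hq9013; (case hq9013 => (set_option maxRecDepth 1000000 in set_option simprocs false in conv => lhs; reduce; dsimp only)); intro _; exact ?xq9013 : List (ℕ × ℕ × ℕ))

noncomputable def gc1 : List (List ℕ × ℕ) :=
  (by
  refine (?fq9014 : ((pk61l (fun i1 => (_root_.Prod.mk ((fun g1 : Nat → Nat => pk61l (fun i2 => (pk61d (nat_lit 2) 
    (nat_lit 0x310c24c831cc6310c11c4700cc32cccbc9c8c7c6c4c3c234333231300c07cf03470c231c) i2)) (g1 i1) (g1 (Nat.succ i1)) List.nil) fun j => (pk61d (nat_lit 8) 
    (nat_lit 0x8f8a85807b76716c67625d5854504c4844403c3834302c2824201c1815120f0c09060402010000) j)) (pk61d (nat_lit 2) 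
    (nat_lit 0x6556956aa999a655596) i1))) (nat_lit 0) (nat_lit 38) List.nil) : List (List ℕ × ℕ))
    = ?xq9014 → (List (List ℕ × ℕ))) ?hq9014; (case hq9014 => (set_option maxRecDepth 1000000 in set_option simprocs false in conv => lhs; reduce; dsimp only)); intro _; exact ?xq9014 : List (List ℕ × ℕ))

noncomputable def rc1 : List (ℕ × ℕ × ℕ) :=
  (by
  refine (?fq9015 : ((pk61l (fun i1 => (_root_.Prod.mk (pk61d (nat_lit 2) 
    (nat_lit 0x556aa5555555555556aaaa95555555556aaaaaaaaaaaaaa955aa955aa955aaaaa556aa555555555555555aa955556aa) i1) (_root_.Prod.mk (pk61d (nat_lit 4) 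
    (nat_lit 0x5555577777aaaaaaaaaa33333444446666633333222226666699999777772222255555aaaaaaaaaa33333444441111166666111116666699999333332222211111000006666622222000000000000000bbbbb00000bbbbb00000bbbbbbbbbb) i1) (pk61d (nat_lit 4) 
    (nat_lit 0x47214385a6082765179976422936740589745a876a800735bb4a70063b5a46b59a30248219217b31640aa36108236551a97a6034835215a71618256509a3b5a80b3482a52b449a1895a2354869b497a082433978187416278a6a654295431) i1)))) (nat_lit 0) (nat_lit 190) List.nil) : List (ℕ × ℕ × ℕ))
    = ?xq9015 → (List (ℕ × ℕ × ℕ))) ?hq9015; (case hq9015 => (set_option maxRecDepth 1000000 in set_option simprocs false in conv => lhs; reduce; dsimp only)); intro _; exact ?xq9015 : List (ℕ × ℕ × ℕ))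

noncomputable def P1 : List (ℕ × ℕ × ℕ) :=
  (by
  refine (?fq9016 : ((pk61l (fun i1 => (_root_.Prod.mk (pk61d (nat_lit 2) 
    (nat_lit 0x6aaa96aa999aaaa6aa65aaaaa) i1) (_root_.Prod.mk (pk61d (nat_lit 4) 
    (nat_lit 0x98877666655554444433333322222222111111110000000000) i1) (pk61d (nat_lit 4) 
    (nat_lit 0xaa9a8a9879876a9765a98754a9876543a9876543a987654321) i1)))) (nat_lit 0) (nat_lit 50) List.nil) : List (ℕ × ℕ × ℕ))
    = ?xq9016 → (List (ℕ × ℕ × ℕ))) ?hq9016; (case hq9016 => (set_option maxRecDepth 1000000 in set_option simprocs false in conv => lhs; reduce; dsimp only)); intro _; exact ?xq9016 : List (ℕ × ℕ × ℕ))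

noncomputable def gd1 : List (List ℕ × ℕ) :=
  (by
  refine (?fq9017 : ((pk61l (fun i1 => (_root_.Prod.mk ((fun g1 : Nat → Nat => pk61l (fun i2 => (pk61d (nat_lit 2) 
    (nat_lit 0xc40d0324c8318c5310c10c430cdccc9c8c7c5c3c2343332311c07cf03070c207043) i2)) (g1 i1) (g1 (Nat.succ i1)) List.nil) fun j => (pk61d (nat_lit 8) 
    (nat_lit 0x86817c77726d68635e5954504c4844403c3834302c2824201c191613100d0a070503010000) j)) (pk61d (nat_lit 2) 
    (nat_lit 0x6965a955a955a559a5) i1))) (nat_lit 0) (nat_lit 36) List.nil) : List (List ℕ × ℕ))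
    = ?xq9017 → (List (List ℕ × ℕ))) ?hq9017; (case hq9017 => (set_option maxRecDepth 1000000 in set_option simprocs false in conv => lhs; reduce; dsimp only)); intro _; exact ?xq9017 : List (List ℕ × ℕ))

noncomputable def rd1 : List (ℕ × ℕ × ℕ) :=
  (by
  refine (?fq9018 : ((pk61l (fun i1 => (_root_.Prod.mk (pk61d (nat_lit 2) 
    (nat_lit 0x556aaaa955556aa55555aaaaaaa9555555555555aaaaaaa9555555555555aaaaa5555555555aa955aaaaa55555) i1) (_root_.Prod.mk (pk61d (nat_lit 4) 
    (nat_lit 0x555552222255555aaaaa333339999944444666663333322222777777777755555aaaaaaaaaa9999911111666661111166666999993333311111000006666622222111110000000000bbbbbbbbbb11111bbbbbbbbbb00000bbbbb) i1) (pk61d (nat_lit 4) 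
    (nat_lit 0x47210714548a376082797642326472936740589b4820b6091846b1063b59a30248219217b3564088236551a97a6034835215a716182566597ab3482a52b449a184a89254869b497a082430a749389078741607653278a695431) i1)))) (nat_lit 0) (nat_lit 180) List.nil) : List (ℕ × ℕ × ℕ))
    = ?xq9018 → (List (ℕ × ℕ × ℕ))) ?hq9018; (case hq9018 => (set_option maxRecDepth 1000000 in set_option simprocs false in conv => lhs; reduce; dsimp only)); intro _; exact ?xq9018 : List (ℕ × ℕ × ℕ))

/-- the letter 4 is `x t x⁻¹` -/
def aw : List ℕ := [0, 2, 0, 0, 0, 0, 0, 0, 0, 0, 0, 0]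

/-- expansion of the letter 4 -/
def ex (c : ℕ) : List ℕ := if Nat.beq c 4 then aw else [c]

/-- expansion -/
def exw (c : List ℕ) : List ℕ := c.flatMap ex

/-- the word of the arc -/
noncomputable def W (a b : ℕ) : List ℕ := Wt.getD (12 * a + b) []

/-- the tables of corrections -/
noncomputable def Ct (l : ℕ) : List (List ℕ) := match l with
  | 0 => Ct0
  | 1 => Ct1
  | 2 => Ct2
  | _ => Ct3

/-- the letters allowed in a correction -/
def okC (w : List ℕ) : Bool := w.all fun c => Nat.beq c 1 || Nat.beq c 2 || Nat.beq c 4

/-- the check of a letter on an arc -/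
noncomputable def stepB (l a b : ℕ) : Bool :=
  Nat.beq a b || (eqP (l :: W a b) (W (ap l a) (ap l b) ++ exw ((Ct l).getD (12 * a + b) [])) &&
    okC ((Ct l).getD (12 * a + b) []))

/-- the check of the reversal -/
noncomputable def swapB (a b : ℕ) : Bool :=
  Nat.beq a b || (eqP (W b a) (W a b ++ 3 :: exw (Rt.getD (12 * a + b) [])) && okC (Rt.getD (12 * a + b) []))

/-- packed tables of the five letters -/
private def apF (l i : ℕ) : ℕ :=
  Nat.land (Nat.shiftRight 1232209985307339310534835712750127298259265396283242071073300212036748065 (Nat.add (Nat.mul 48 l) (Nat.mul 4 i))) 15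

private noncomputable def evF (w : List ℕ) (i : ℕ) : ℕ := List.rec i (fun l _ ih => apF l ih) w

private theorem apF_eq : ∀ l : Fin 4, ∀ i : Fin 12, apF l i = ap l i := by decide +kernel

private theorem apF_four : ∀ i : Fin 12, apF 4 i = ev aw i := by decide +kernel

private theorem ev_app (w w' : List ℕ) (i : ℕ) : ev (w ++ w') i = ev w (ev w' i) := List.foldr_append

private theorem evF_eq {i : ℕ} (hi : i < 12) : ∀ w : List ℕ, (∀ l ∈ w, l < 4) → evF w i = ev w i
  | [], _ => rfl
  | l :: w, h => by
    show apF l (evF w i) = ap l (ev w i)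
    rw [evF_eq hi w fun m hm => h m (List.mem_cons_of_mem _ hm)]
    exact apF_eq ⟨l, h l List.mem_cons_self⟩ ⟨_, ev_lt w hi⟩

private theorem evF_ex {i : ℕ} (hi : i < 12) : ∀ c : List ℕ, okC c = true → evF c i = ev (exw c) i
  | [], _ => rfl
  | l :: c, h => by
    have h' : (Nat.beq l 1 || Nat.beq l 2 || Nat.beq l 4) = true ∧ okC c = true := Bool.and_eq_true_iff.1 h
    show apF l (evF c i) = ev (ex l ++ exw c) i
    rw [evF_ex hi c h'.2, ev_app]
    have h1 := h'.1
    rw [Bool.or_eq_true, Bool.or_eq_true] at h1
    rcases h1 with (h1 | h1) | h1 <;> rw [Nat.eq_of_beq_eq_true h1]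
    · exact apF_eq 1 ⟨_, ev_lt _ hi⟩
    · exact apF_eq 2 ⟨_, ev_lt _ hi⟩
    · exact apF_four ⟨_, ev_lt _ hi⟩

private theorem W_lt (a b : ℕ) : ∀ l ∈ W a b, l < 4 := by
  have h : ∀ w ∈ Wt, ∀ l ∈ w, l < 4 := by decide +kernel
  intro l hl
  unfold W at hl
  rw [List.getD_eq_getElem?_getD] at hl
  rcases e : Wt[12 * a + b]? with _ | w
  · rw [e] at hl
    exact absurd hl List.not_mem_nil
  · rw [e] at hl
    exact h w (List.mem_of_getElem? e) l hl

private noncomputable def eqF (u v c : List ℕ) : Bool :=
  okC c && (beta% delta% lq26cca11412 fun f _ l _ _ _ _ _ _ _ _ _ _ _ _ _ _ _ _ K L _ _ _ _ _ _ _ =>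
 ((f 0<|f 1<|f 2<|f 3<|f 4<|f 5<|f 6<|f 7<|f 8<|f 9<|f 10<|f 11<|l) :type_of% (K _)).all fun i => L (evF u i) (evF v (evF c i)))

private theorem eqF_sound {u v c : List ℕ} (hu : ∀ l ∈ u, l < 4) (hv : ∀ l ∈ v, l < 4) (h : eqF u v c = true) :
    (eqP u (v ++ exw c) && okC c) = true := by
  obtain ⟨h1, h2⟩ := Bool.and_eq_true_iff.1 h
  refine Bool.and_eq_true_iff.2 ⟨List.all_eq_true.2 fun i hi => ?_, h1⟩
  have hi' := List.mem_range.1 hi
  have h3 := Nat.eq_of_beq_eq_true (List.all_eq_true.1 h2 i hi)
  rw [evF_eq hi' u hu, evF_ex hi' c h1, evF_eq (ev_lt _ hi') v hv, ← ev_app] at h3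
  exact beq_iff_eq.2 h3

theorem step_ok : ∀ l : Fin 4, ∀ a b : Fin 12, stepB l a b = true := by
  have h : ((List.range 4).all fun l => (List.range 12).all fun a => (List.range 12).all fun b =>
      Nat.beq a b || eqF (l :: W a b) (W (ap l a) (ap l b)) ((Ct l).getD (12 * a + b) [])) = true := by decide +kernel
  intro l a b
  have h1 := List.all_eq_true.1 (List.all_eq_true.1 (List.all_eq_true.1 h l (List.mem_range.2 l.2)) a (List.mem_range.2 a.2)) b
    (List.mem_range.2 b.2)
  exact Bool.or_eq_true_iff.2 ((Bool.or_eq_true_iff.1 h1).imp id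
    (eqF_sound (List.forall_mem_cons.2 ⟨l.2, W_lt _ _⟩) (W_lt _ _)))

theorem swap_ok : ∀ a b : Fin 12, swapB a b = true := by
  have h : ((List.range 12).all fun a => (List.range 12).all fun b =>
      Nat.beq a b || eqF (W b a) (W a b ++ [3]) (Rt.getD (12 * a + b) [])) = true := by decide +kernel
  intro a b
  have h1 := List.all_eq_true.1 (List.all_eq_true.1 h a (List.mem_range.2 a.2)) b (List.mem_range.2 b.2)
  refine Bool.or_eq_true_iff.2 ((Bool.or_eq_true_iff.1 h1).imp id fun h2 => ?_)
  have h3 := eqF_sound (W_lt _ _) (List.forall_mem_append.2 ⟨W_lt _ _, by decide⟩) h2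
  rwa [List.append_assoc] at h3

section

variable {V : Type*} [AddCommGroup V] (T : ℕ → V →+ V)

/-- the action of a word -/
def act (w : List ℕ) (v : V) : V := w.foldr (fun l v => T l v) v

theorem act_nil (v : V) : act T [] v = v := rfl

theorem act_cons (l : ℕ) (w : List ℕ) (v : V) : act T (l :: w) v = T l (act T w v) := rfl

theorem act_append (w w' : List ℕ) (v : V) : act T (w ++ w') v = act T w (act T w' v) := List.foldr_append

theorem act_zero (w : List ℕ) : act T w 0 = 0 := by
  induction w with
  | nil => rfl
  | cons l w ih => rw [act_cons, ih, map_zero]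

theorem act_nsmul (w : List ℕ) (n : ℕ) (v : V) : act T w (n • v) = n • act T w v := by
  induction w with
  | nil => rfl
  | cons l w ih => rw [act_cons, act_cons, ih, map_nsmul]

/-- the hypotheses -/
structure Sys (k : ℕ) (q : V) : Prop where
  three : ∀ v : V, (3 : ℕ) • v = 0
  rel : ∀ w w' : List ℕ, eqP w w' = true → ∀ v, act T w v = act T w' v
  qy : T 1 q = q
  qt : T 2 q = q
  qa : act T aw q = q
  qf : T 3 q = k • q
  qP : act T [0] q + act T [0, 0, 0] q + act T [0, 0, 0, 0] q + act T [0, 0, 0, 0, 0] q +
    act T [0, 0, 0, 0, 0, 0, 0, 0, 0] q = 0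

/-- the arc vector -/
noncomputable def A (q : V) (a b : ℕ) : V := if a = b then 0 else act T (W a b) q

/-- formal sums of arcs: (coefficient, tail, head) -/
noncomputable def ph (q : V) (L : List (ℕ × ℕ × ℕ)) : V := (L.map fun t => t.1 • A T q t.2.1 t.2.2).sum

/-- the action on formal sums -/
def mp (l : ℕ) (L : List (ℕ × ℕ × ℕ)) : List (ℕ × ℕ × ℕ) := L.map fun t => (t.1, ap l t.2.1, ap l t.2.2)

/-- the action of a word on formal sums -/
def mpw (w : List ℕ) (L : List (ℕ × ℕ × ℕ)) : List (ℕ × ℕ × ℕ) := w.foldr mp L

/-- the points are `< 12` -/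
def val (L : List (ℕ × ℕ × ℕ)) : Prop := ∀ t ∈ L, t.2.1 < 12 ∧ t.2.2 < 12

/-- the same, Boolean -/
def valB (L : List (ℕ × ℕ × ℕ)) : Bool := L.all fun t => Nat.blt t.2.1 12 && Nat.blt t.2.2 12

theorem val_of {L : List (ℕ × ℕ × ℕ)} (h : valB L = true) : val L := by
  intro t ht
  have h1 := List.all_eq_true.1 h t ht
  rw [Bool.and_eq_true] at h1
  exact ⟨Nat.le_of_ble_eq_true h1.1, Nat.le_of_ble_eq_true h1.2⟩

/-- the coefficient of an arc -/
def cf (L : List (ℕ × ℕ × ℕ)) (a b : ℕ) : ℕ := (L.map fun t => bif Nat.beq t.2.1 a && Nat.beq t.2.2 b then t.1 else 0).sum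

/-- equality modulo 3 and the reversal rule -/
def chk (k : ℕ) (L L' : List (ℕ × ℕ × ℕ)) : Bool := (List.range 12).all fun a => (List.range 12).all fun b =>
  Nat.beq a b || Nat.beq ((cf L a b + k * cf L b a) % 3) ((cf L' a b + k * cf L' b a) % 3)

/-- packed coefficients -/
private noncomputable def pkL (L : List (ℕ × ℕ × ℕ)) : ℕ :=
  List.rec 0 (fun t _ ih => Nat.add (Nat.mul t.1 (Nat.pow 65536 (Nat.add (Nat.mul 12 t.2.1) t.2.2))) ih) L

private noncomputable def wtL (L : List (ℕ × ℕ × ℕ)) : ℕ := List.rec 0 (fun t _ ih => Nat.add t.1 ih) L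

private def dg (N i : ℕ) : ℕ := Nat.mod (Nat.div N (Nat.pow 65536 i)) 65536

private theorem dg_add {N m j : ℕ} (h : m + dg N j < 65536) (i : ℕ) :
    dg (m * 65536 ^ j + N) i = (if j = i then m else 0) + dg N i := by
  have hB : ∀ n, 0 < 65536 ^ n := fun n => Nat.pow_pos (by decide)
  have h' : m % 65536 + N / 65536 ^ j % 65536 < 65536 := lt_of_le_of_lt (Nat.add_le_add_right (Nat.mod_le _ _) _) h
  have hm : m < 65536 := lt_of_le_of_lt (Nat.le_add_right _ _) h
  have e0 : (m * 65536 ^ j + N) / 65536 ^ j = m + N / 65536 ^ j := by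
    rw [Nat.add_comm, Nat.add_mul_div_right _ _ (hB j), Nat.add_comm]
  show (m * 65536 ^ j + N) / 65536 ^ i % 65536 = _ + N / 65536 ^ i % 65536
  rcases lt_trichotomy i j with k | rfl | k
  · obtain ⟨d, rfl⟩ := Nat.exists_eq_add_of_lt k
    rw [if_neg (by omega), zero_add, show m * 65536 ^ (i + d + 1) = m * 65536 ^ d * 65536 * 65536 ^ i by ring, Nat.add_comm,
      Nat.add_mul_div_right _ _ (hB i), Nat.add_mul_mod_self_right]
  · rw [if_pos rfl, e0, Nat.add_mod_of_add_mod_lt h', Nat.mod_eq_of_lt hm]
  · obtain ⟨d, rfl⟩ := Nat.exists_eq_add_of_lt k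
    have e1 : ∀ X : ℕ, X / 65536 ^ (j + d + 1) = X / 65536 ^ j / 65536 / 65536 ^ d := fun X => by
      rw [Nat.div_div_eq_div_mul, Nat.div_div_eq_div_mul, show 65536 ^ (j + d + 1) = 65536 ^ j * (65536 * 65536 ^ d) by ring]
    rw [if_neg (by omega), zero_add, e1, e1, e0, Nat.add_div_eq_of_add_mod_lt h', Nat.div_eq_of_lt hm, zero_add]

private theorem dg_pk : ∀ L : List (ℕ × ℕ × ℕ), val L → wtL L < 65536 →
    (∀ i, dg (pkL L) i ≤ wtL L) ∧ ∀ a b, b < 12 → dg (pkL L) (12 * a + b) = cf L a b
  | [], _, _ => ⟨fun i => by show 0 / 65536 ^ i % 65536 ≤ 0; rw [Nat.zero_div], fun a b _ => by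
      show 0 / 65536 ^ _ % 65536 = 0; rw [Nat.zero_div]⟩
  | t :: L, hv, hw => by
    have hw' : t.1 + wtL L < 65536 := hw
    obtain ⟨h1, h2⟩ := dg_pk L (fun s hs => hv s (List.mem_cons_of_mem _ hs)) (by omega)
    have h3 := dg_add (N := pkL L) (m := t.1) (j := 12 * t.2.1 + t.2.2) (lt_of_le_of_lt (Nat.add_le_add_left (h1 _) _) hw')
    have h4 := (hv t List.mem_cons_self).2
    refine ⟨fun i => ?_, fun a b hb => ?_⟩
    · show dg (t.1 * 65536 ^ (12 * t.2.1 + t.2.2) + pkL L) i ≤ t.1 + wtL L
      rw [h3]
      exact Nat.add_le_add (by split_ifs <;> omega) (h1 i)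
    · show dg (t.1 * 65536 ^ (12 * t.2.1 + t.2.2) + pkL L) _ =
        (bif Nat.beq t.2.1 a && Nat.beq t.2.2 b then t.1 else 0) + cf L a b
      rw [h3, h2 a b hb]
      congr 1
      by_cases e : t.2.1 = a ∧ t.2.2 = b
      · rw [if_pos (by rw [e.1, e.2]), e.1, e.2, Nat.beq_refl, Nat.beq_refl]
        rfl
      · rw [if_neg (by omega)]
        rcases e1 : Nat.beq t.2.1 a with _ | _
        · rfl
        · rcases e2 : Nat.beq t.2.2 b with _ | _
          · rfl
          · exact absurd ⟨Nat.eq_of_beq_eq_true e1, Nat.eq_of_beq_eq_true e2⟩ e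

private noncomputable def chkF (k : ℕ) (L L' : List (ℕ × ℕ × ℕ)) : Bool :=
  valB L && (valB L' && (Nat.blt (wtL L) 65536 && (Nat.blt (wtL L') 65536 &&
    (List.range 12).all fun a => (List.range 12).all fun b =>
      Nat.beq a b || Nat.beq ((dg (pkL L) (12 * a + b) + k * dg (pkL L) (12 * b + a)) % 3)
        ((dg (pkL L') (12 * a + b) + k * dg (pkL L') (12 * b + a)) % 3))))

private theorem chk_of {k : ℕ} {L L' : List (ℕ × ℕ × ℕ)} (h : chkF k L L' = true) : chk k L L' = true := by
  simp only [chkF, Bool.and_eq_true] at h
  obtain ⟨h1, h2, h3, h4, h5⟩ := h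
  have k1 := (dg_pk L (val_of h1) (Nat.le_of_ble_eq_true h3)).2
  have k2 := (dg_pk L' (val_of h2) (Nat.le_of_ble_eq_true h4)).2
  refine List.all_eq_true.2 fun a ha => List.all_eq_true.2 fun b hb => ?_
  have h6 := List.all_eq_true.1 (List.all_eq_true.1 h5 a ha) b hb
  rwa [k1 a b (List.mem_range.1 hb), k1 b a (List.mem_range.1 ha), k2 a b (List.mem_range.1 hb),
    k2 b a (List.mem_range.1 ha)] at h6

theorem beq_ff {x y : ℕ} (h : x ≠ y) : Nat.beq x y = false := by
  rcases e : Nat.beq x y with _ | _
  · rfl
  · exact absurd (Nat.eq_of_beq_eq_true e) h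

theorem beq_ite (x a y b n : ℕ) : (bif Nat.beq x a && Nat.beq y b then n else 0) = if x = a ∧ y = b then n else 0 := by
  by_cases ha : x = a
  · subst ha
    by_cases hb : y = b
    · subst hb
      rw [if_pos ⟨rfl, rfl⟩, Nat.beq_refl, Nat.beq_refl]
      rfl
    · rw [if_neg (fun h => hb h.2), beq_ff hb, Bool.and_false]
      rfl
  · rw [if_neg (fun h => ha h.1), beq_ff ha, Bool.false_and]
    rfl

/-- a translate of the relation -/
def rl (g : List ℕ) (m : ℕ) : List (ℕ × ℕ × ℕ) :=
  (beta% delta% lq26cca11412 fun f h l _ _ _ _ _ _ _ y _ _ _ _ _ _ _ _ _ _ _ _ _ _ _ _ _ =>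
 (f (h m<|h (y g 11) (y g 1))<|f (h m<|h (y g 11) (y g 3))<|f (h m<|h (y g 11) (y g 4))<|f (h m<|h (y g 11) (y g 5))<|f (h m<|h (y g 11) (y g 9))<|l))

end

namespace Sys

variable {V : Type*} [AddCommGroup V] {T : ℕ → V →+ V} {k : ℕ} {q : V} (h : Sys T k q)

include h

theorem fixC (c : List ℕ) (hc : okC c = true) : act T (exw c) q = q := by
  induction c with
  | nil => rfl
  | cons l c ih =>
    unfold okC at hc
    rw [List.all_cons, Bool.and_eq_true] at hc
    have e1 : exw (l :: c) = ex l ++ exw c := rfl
    rw [e1, act_append, ih hc.2]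
    have h1 := hc.1
    rw [Bool.or_eq_true, Bool.or_eq_true] at h1
    rcases h1 with (h1 | h1) | h1
    · rw [Nat.eq_of_beq_eq_true h1]; exact h.qy
    · rw [Nat.eq_of_beq_eq_true h1]; exact h.qt
    · rw [Nat.eq_of_beq_eq_true h1]; exact h.qa

theorem T_A {l a b : ℕ} (hl : l < 4) (ha : a < 12) (hb : b < 12) : T l (A T q a b) = A T q (ap l a) (ap l b) := by
  have inj : ∀ l : Fin 4, ∀ a b : Fin 12, ap l a = ap l b → a = b := by decide +kernel
  by_cases hab : a = b
  · subst hab
    unfold A
    rw [if_pos rfl, if_pos rfl, map_zero]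
  · have hab' : ap l a ≠ ap l b := fun h1 => hab (congrArg Fin.val (inj ⟨l, hl⟩ ⟨a, ha⟩ ⟨b, hb⟩ h1))
    unfold A
    rw [if_neg hab, if_neg hab', ← act_cons]
    have h1 := step_ok ⟨l, hl⟩ ⟨a, ha⟩ ⟨b, hb⟩
    unfold stepB at h1
    rw [Bool.or_eq_true, Bool.and_eq_true] at h1
    rcases h1 with h1 | ⟨h1, h2⟩
    · exact absurd (Nat.eq_of_beq_eq_true h1) hab
    · rw [h.rel _ _ h1, act_append, h.fixC _ h2]

theorem A_swap {a b : ℕ} (ha : a < 12) (hb : b < 12) : A T q b a = k • A T q a b := by
  by_cases hab : a = b
  · subst hab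
    unfold A
    rw [if_pos rfl, nsmul_zero]
  · unfold A
    rw [if_neg hab, if_neg (Ne.symm hab)]
    have h1 := swap_ok ⟨a, ha⟩ ⟨b, hb⟩
    unfold swapB at h1
    rw [Bool.or_eq_true, Bool.and_eq_true] at h1
    rcases h1 with h1 | ⟨h1, h2⟩
    · exact absurd (Nat.eq_of_beq_eq_true h1) hab
    · rw [h.rel _ _ h1, act_append, act_cons, h.fixC _ h2, h.qf, act_nsmul]

omit h in
theorem ph_append (L L' : List (ℕ × ℕ × ℕ)) : ph T q (L ++ L') = ph T q L + ph T q L' := by
  unfold ph; rw [List.map_append, List.sum_append]

omit h in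
theorem ph_cons (t : ℕ × ℕ × ℕ) (L : List (ℕ × ℕ × ℕ)) : ph T q (t :: L) = t.1 • A T q t.2.1 t.2.2 + ph T q L := by
  unfold ph; rw [List.map_cons, List.sum_cons]

omit h in
theorem val_mp {L : List (ℕ × ℕ × ℕ)} (l : ℕ) (hL : val L) : val (mp l L) := by
  intro t ht
  obtain ⟨s, hs, rfl⟩ := List.mem_map.1 ht
  exact ⟨ap_lt l (hL s hs).1, ap_lt l (hL s hs).2⟩

omit h in
theorem val_mpw {L : List (ℕ × ℕ × ℕ)} (w : List ℕ) (hL : val L) : val (mpw w L) := by
  induction w with
  | nil => exact hL
  | cons l w ih => exact val_mp l ih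

theorem T_ph {l : ℕ} (hl : l < 4) {L : List (ℕ × ℕ × ℕ)} (hL : val L) : T l (ph T q L) = ph T q (mp l L) := by
  induction L with
  | nil => show T l 0 = 0; exact map_zero _
  | cons t L ih =>
    have e1 : mp l (t :: L) = (t.1, ap l t.2.1, ap l t.2.2) :: mp l L := rfl
    have h1 := hL t List.mem_cons_self
    rw [ph_cons, e1, ph_cons, map_add, map_nsmul, h.T_A hl h1.1 h1.2,
      ih (fun s hs => hL s (List.mem_cons_of_mem _ hs))]

theorem act_ph {w : List ℕ} (hw : ∀ l ∈ w, l < 4) {L : List (ℕ × ℕ × ℕ)} (hL : val L) :
    act T w (ph T q L) = ph T q (mpw w L) := by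
  induction w with
  | nil => rfl
  | cons l w ih =>
    rw [act_cons, ih (fun s hs => hw s (List.mem_cons_of_mem _ hs)),
      h.T_ph (hw l List.mem_cons_self) (val_mpw w hL)]
    rfl

theorem act_A {w : List ℕ} (hw : ∀ l ∈ w, l < 4) {a b : ℕ} (ha : a < 12) (hb : b < 12) :
    act T w (A T q a b) = A T q (ev w a) (ev w b) := by
  induction w with
  | nil => rfl
  | cons l w ih =>
    rw [act_cons, ih (fun s hs => hw s (List.mem_cons_of_mem _ hs)),
      h.T_A (hw l List.mem_cons_self) (ev_lt w ha) (ev_lt w hb)]
    rfl

omit h in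
theorem ph_eq (L : List (ℕ × ℕ × ℕ)) (hL : val L) :
    ph T q L = ∑ a ∈ Finset.range 12, ∑ b ∈ Finset.range 12, cf L a b • A T q a b := by
  induction L with
  | nil =>
    show (0 : V) = _
    refine (Finset.sum_eq_zero fun a _ => Finset.sum_eq_zero fun b _ => ?_).symm
    exact zero_nsmul _
  | cons t L ih =>
    rw [ph_cons, ih (fun s hs => hL s (List.mem_cons_of_mem _ hs))]
    have h1 := hL t List.mem_cons_self
    have e1 : ∀ a b, cf (t :: L) a b = (if t.2.1 = a ∧ t.2.2 = b then t.1 else 0) + cf L a b := by
      intro a b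
      unfold cf
      rw [List.map_cons, List.sum_cons, beq_ite]
    have e2 : ∀ a b, cf (t :: L) a b • A T q a b =
        (if t.2.1 = a ∧ t.2.2 = b then t.1 • A T q a b else 0) + cf L a b • A T q a b := by
      intro a b
      rw [e1, add_nsmul]
      congr 1
      split_ifs
      · rfl
      · exact zero_nsmul _
    simp only [e2, Finset.sum_add_distrib]
    congr 1
    rw [Finset.sum_eq_single t.2.1, Finset.sum_eq_single t.2.2, if_pos ⟨rfl, rfl⟩]
    · intro b _ hb
      rw [if_neg (fun h2 => hb h2.2.symm)]
    · intro h2; exact absurd (Finset.mem_range.2 h1.2) h2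
    · intro a _ ha
      refine Finset.sum_eq_zero fun b _ => ?_
      rw [if_neg (fun h2 => ha h2.1.symm)]
    · intro h2; exact absurd (Finset.mem_range.2 h1.1) h2

theorem mod3 {a b : ℕ} (hab : a % 3 = b % 3) (v : V) : a • v = b • v := by
  rw [← Nat.div_add_mod a 3, ← Nat.div_add_mod b 3, hab, add_nsmul, add_nsmul, mul_comm, mul_nsmul', mul_comm 3 (b / 3),
    mul_nsmul', h.three, nsmul_zero, nsmul_zero]

theorem two_ph (L : List (ℕ × ℕ × ℕ)) (hL : val L) :
    2 • ph T q L = ∑ a ∈ Finset.range 12, ∑ b ∈ Finset.range 12, (cf L a b + k * cf L b a) • A T q a b := by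
  rw [two_nsmul]
  nth_rewrite 2 [ph_eq L hL]
  rw [ph_eq L hL, Finset.sum_comm (s := Finset.range 12) (t := Finset.range 12) (f := fun a b => cf L a b • A T q a b)]
  rw [← Finset.sum_comm (s := Finset.range 12) (t := Finset.range 12) (f := fun a b => cf L a b • A T q a b)]
  have e1 : (∑ a ∈ Finset.range 12, ∑ b ∈ Finset.range 12, cf L a b • A T q a b) =
      ∑ a ∈ Finset.range 12, ∑ b ∈ Finset.range 12, (k * cf L b a) • A T q a b := by
    rw [Finset.sum_comm]
    refine Finset.sum_congr rfl fun a ha => Finset.sum_congr rfl fun b hb => ?_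
    rw [h.A_swap (Finset.mem_range.1 ha) (Finset.mem_range.1 hb), ← mul_nsmul', mul_comm]
  nth_rewrite 2 [e1]
  rw [← Finset.sum_add_distrib]
  refine Finset.sum_congr rfl fun a _ => ?_
  rw [← Finset.sum_add_distrib]
  exact Finset.sum_congr rfl fun b _ => (add_nsmul _ _ _).symm

/-- **equality of formal sums** -/
theorem ph_congr {L L' : List (ℕ × ℕ × ℕ)} (hL : val L) (hL' : val L') (hc : chk k L L' = true) :
    ph T q L = ph T q L' := by
  have h1 : 2 • ph T q L = 2 • ph T q L' := by
    rw [h.two_ph L hL, h.two_ph L' hL']
    refine Finset.sum_congr rfl fun a ha => Finset.sum_congr rfl fun b hb => ?_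
    by_cases hab : a = b
    · subst hab
      have : A T q a a = 0 := if_pos rfl
      rw [this, nsmul_zero, nsmul_zero]
    · refine h.mod3 ?_ _
      have h2 := List.all_eq_true.1 (List.all_eq_true.1 hc a (List.mem_range.2 (Finset.mem_range.1 ha))) b
        (List.mem_range.2 (Finset.mem_range.1 hb))
      rw [Bool.or_eq_true] at h2
      rcases h2 with h2 | h2
      · exact absurd (Nat.eq_of_beq_eq_true h2) hab
      · exact Nat.eq_of_beq_eq_true h2
  have h2 : ∀ v : V, 2 • (2 • v) = v := fun v => by
    rw [← mul_nsmul', show 2 * 2 = 3 + 1 from rfl, add_nsmul, h.three, zero_add, one_nsmul]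
  rw [← h2 (ph T q L), h1, h2]

omit h in
theorem A_inf {i : ℕ} (hi : i < 11) (hw : W 11 i = List.replicate i 0) : A T q 11 i = act T (List.replicate i 0) q := by
  unfold A
  rw [if_neg (by omega), hw]

/-- a translate of the relation vanishes -/
theorem ph_rl {g : List ℕ} (hg : ∀ l ∈ g, l < 4) (m : ℕ) : ph T q (rl g m) = 0 := by
  have h0 : (beta% delta% lq26cca11412 fun f h l _ _ _ _ _ _ _ _ _ _ _ _ _ _ _ _ _ _ _ _ _ _ _ _ _ =>
 ph T q (f (h 1<|h 11 1)<|f (h 1<|h 11 3)<|f (h 1<|h 11 4)<|f (h 1<|h 11 5)<|f (h 1<|h 11 9)<|l) :
 V) = 0 := by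
    have h1 := h.qP
    unfold ph
    simp only [List.map_cons, List.map_nil, List.sum_cons, List.sum_nil, one_nsmul, add_zero]
    rw [A_inf (i := 1) (by norm_num) rfl, A_inf (i := 3) (by norm_num) rfl, A_inf (i := 4) (by norm_num) rfl,
      A_inf (i := 5) (by norm_num) rfl, A_inf (i := 9) (by norm_num) rfl, ← h1]
    simp only [← add_assoc]
    rfl
  have h1 := h.act_ph hg (L := (beta% delta% lq26cca11412 fun f h l _ _ _ _ _ _ _ _ _ _ _ _ _ _ _ _ _ _ _ _ _ _ _ _ _ =>
 (f (h 1<|h 11 1)<|f (h 1<|h 11 3)<|f (h 1<|h 11 4)<|f (h 1<|h 11 5)<|f (h 1<|h 11 9)<|l)))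
    (val_of (by decide +kernel))
  rw [h0, act_zero] at h1
  have h2 : ∀ (w : List ℕ) (a b c d e : ℕ), (beta% delta% lq26cca11412 fun f h l _ _ _ _ _ _ _ _ _ _ _ _ _ _ _ _ _ _ _ _ _ _ _ _ _ =>
 mpw w (f (h 1<|h 11 a)<|f (h 1<|h 11 b)<|f (h 1<|h 11 c)<|f (h 1<|h 11 d)<|f (h 1<|h 11 e)<|l) :
 List (ℕ × ℕ × ℕ)) =
      (beta% delta% lq26cca11412 fun f h l _ _ _ _ _ _ _ y _ _ _ _ _ _ _ _ _ _ _ _ _ _ _ _ _ =>
 (f (h 1<|h (y w 11) (y w a))<|f (h 1<|h (y w 11) (y w b))<|f (h 1<|h (y w 11) (y w c))<|f (h 1<|h (y w 11) (y w d))<|f (h 1<|h (y w 11) (y w e))<|l) :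
 List (ℕ × ℕ × ℕ)) := by
    intro w a b c d e
    induction w with
    | nil => rfl
    | cons l w ih =>
      show mp l (mpw w _) = _
      rw [ih]
      rfl
  rw [h2] at h1
  have h3 : ph T q (rl g m) = m • (beta% delta% lq26cca11412 fun f h l _ _ _ _ _ _ _ y _ _ _ _ _ _ _ _ _ _ _ _ _ _ _ _ _ =>
 ph T q (f (h 1<|h (y g 11) (y g 1))<|f (h 1<|h (y g 11) (y g 3))<|f (h 1<|h (y g 11) (y g 4))<|
 f (h 1<|h (y g 11) (y g 5))<|f (h 1<|h (y g 11) (y g 9))<|l) :
 V) := by
    unfold ph rl
    simp only [List.map_cons, List.map_nil, List.sum_cons, List.sum_nil, one_nsmul, nsmul_add, nsmul_zero]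
  rw [h3, ← h1, nsmul_zero]

theorem ph_rels {G : List (List ℕ × ℕ)} {R : List (ℕ × ℕ × ℕ)} (hG : ∀ p ∈ G, ∀ l ∈ p.1, l < 4)
    (hR : (G.flatMap fun p => rl p.1 p.2) = R) : ph T q R = 0 := by
  rw [← hR]
  clear hR
  induction G with
  | nil => rfl
  | cons p G ih =>
    rw [List.flatMap_cons, ph_append, h.ph_rl (hG p List.mem_cons_self), ih (fun s hs => hG s (List.mem_cons_of_mem _ hs)),
      add_zero]

end Sys

end Cfsg.Agent.H732.E8T
end

-- part: H732/E8T/EdgeId
section
/-!
# S5925 box K: the identities between arc vectors which are used (helper732)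
-/

set_option autoImplicit false
set_option linter.unusedSectionVars false

namespace Cfsg.Agent.H732.E8T

open Cfsg.Agent.H837.E83.NM11

section

variable {V : Type*} [AddCommGroup V] (T : ℕ → V →+ V)

/-- `1 + y + ⋯ + y⁴` -/
def opY (v : V) : V := v + act T [1] v + act T [1, 1] v + act T [1, 1, 1] v + act T [1, 1, 1, 1] v

/-- `x² + x⁶ + x⁷ + x⁸ + x¹⁰` -/
def opN (v : V) : V := act T [0, 0] v + act T [0, 0, 0, 0, 0, 0] v + act T [0, 0, 0, 0, 0, 0, 0] v +
  act T [0, 0, 0, 0, 0, 0, 0, 0] v + act T [0, 0, 0, 0, 0, 0, 0, 0, 0, 0] v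

/-- `x + x³ + x⁴ + x⁵ + x⁹` -/
def opQ (v : V) : V := act T [0] v + act T [0, 0, 0] v + act T [0, 0, 0, 0] v + act T [0, 0, 0, 0, 0] v +
  act T [0, 0, 0, 0, 0, 0, 0, 0, 0] v

end

/-- the same on formal sums -/
def mY (L : List (ℕ × ℕ × ℕ)) : List (ℕ × ℕ × ℕ) :=
  L ++ mpw [1] L ++ mpw [1, 1] L ++ mpw [1, 1, 1] L ++ mpw [1, 1, 1, 1] L

def mN (L : List (ℕ × ℕ × ℕ)) : List (ℕ × ℕ × ℕ) :=
  mpw [0, 0] L ++ mpw [0, 0, 0, 0, 0, 0] L ++ mpw [0, 0, 0, 0, 0, 0, 0] L ++ mpw [0, 0, 0, 0, 0, 0, 0, 0] L ++
    mpw [0, 0, 0, 0, 0, 0, 0, 0, 0, 0] L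

def mQ (L : List (ℕ × ℕ × ℕ)) : List (ℕ × ℕ × ℕ) :=
  mpw [0] L ++ mpw [0, 0, 0] L ++ mpw [0, 0, 0, 0] L ++ mpw [0, 0, 0, 0, 0] L ++ mpw [0, 0, 0, 0, 0, 0, 0, 0, 0] L

theorem lt4 {w : List ℕ} (h : (w.all fun l => Nat.blt l 4) = true) : ∀ l ∈ w, l < 4 := fun l hl =>
  Nat.le_of_ble_eq_true (List.all_eq_true.1 h l hl)

theorem val_append {L L' : List (ℕ × ℕ × ℕ)} (h : val L) (h' : val L') : val (L ++ L') := by
  intro t ht
  rcases List.mem_append.1 ht with h1 | h1
  · exact h t h1
  · exact h' t h1

theorem val_mY {L : List (ℕ × ℕ × ℕ)} (h : val L) : val (mY L) :=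
  val_append (val_append (val_append (val_append h (Sys.val_mpw _ h)) (Sys.val_mpw _ h)) (Sys.val_mpw _ h)) (Sys.val_mpw _ h)

theorem val_mN {L : List (ℕ × ℕ × ℕ)} (h : val L) : val (mN L) :=
  val_append (val_append (val_append (val_append (Sys.val_mpw _ h) (Sys.val_mpw _ h)) (Sys.val_mpw _ h))
    (Sys.val_mpw _ h)) (Sys.val_mpw _ h)

theorem val_mQ {L : List (ℕ × ℕ × ℕ)} (h : val L) : val (mQ L) :=
  val_append (val_append (val_append (val_append (Sys.val_mpw _ h) (Sys.val_mpw _ h)) (Sys.val_mpw _ h))
    (Sys.val_mpw _ h)) (Sys.val_mpw _ h)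

namespace Sys

variable {V : Type*} [AddCommGroup V] {T : ℕ → V →+ V} {k : ℕ} {q : V} (h : Sys T k q)

include h

theorem Y_ph {L : List (ℕ × ℕ × ℕ)} (hL : val L) : opY T (ph T q L) = ph T q (mY L) := by
  unfold opY mY
  rw [h.act_ph (lt4 rfl) hL, h.act_ph (lt4 rfl) hL, h.act_ph (lt4 rfl) hL, h.act_ph (lt4 rfl) hL, ph_append, ph_append,
    ph_append, ph_append]

theorem N_ph {L : List (ℕ × ℕ × ℕ)} (hL : val L) : opN T (ph T q L) = ph T q (mN L) := by
  unfold opN mN
  rw [h.act_ph (lt4 rfl) hL, h.act_ph (lt4 rfl) hL, h.act_ph (lt4 rfl) hL, h.act_ph (lt4 rfl) hL, h.act_ph (lt4 rfl) hL,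
    ph_append, ph_append, ph_append, ph_append]

theorem Q_ph {L : List (ℕ × ℕ × ℕ)} (hL : val L) : opQ T (ph T q L) = ph T q (mQ L) := by
  unfold opQ mQ
  rw [h.act_ph (lt4 rfl) hL, h.act_ph (lt4 rfl) hL, h.act_ph (lt4 rfl) hL, h.act_ph (lt4 rfl) hL, h.act_ph (lt4 rfl) hL,
    ph_append, ph_append, ph_append, ph_append]

end Sys

theorem v30 : val L30 := val_of (by decide +kernel)
theorem vM2 : val M1_2 := val_of (by decide +kernel)
theorem vM1 : val M1_1 := val_of (by decide +kernel)
theorem vP1 : val P1 := val_of (by decide +kernel)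
theorem vrc2 : val rc2 := val_of (by decide +kernel)
theorem vrd2 : val rd2 := val_of (by decide +kernel)
theorem vrc1 : val rc1 := val_of (by decide +kernel)
theorem vrd1 : val rd1 := val_of (by decide +kernel)

theorem lt4G {G : List (List ℕ × ℕ)} (h : (G.all fun p => p.1.all fun l => Nat.blt l 4) = true) :
    ∀ p ∈ G, ∀ l ∈ p.1, l < 4 := fun p hp => lt4 (List.all_eq_true.1 h p hp)

/-! ### `k = 2` -/

theorem ky2 : chk 2 (mpw [1] L30) L30 = true := chk_of (by decide +kernel)
theorem kn2 : chk 2 (mN L30) [] = true := chk_of (by decide +kernel)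
theorem kt2 : chk 2 (mY (mp 2 L30)) M1_2 = true := chk_of (by decide +kernel)
theorem kc2 : chk 2 (M1_2 ++ mN M1_2 ++ rc2) L30 = true := chk_of (by decide +kernel)

/-- the formula of `r = f x q` -/
noncomputable def Lr : List (ℕ × ℕ × ℕ) := (beta% delta% lq26cca11412 fun f h l _ _ _ _ _ _ _ _ _ _ _ _ _ _ _ _ _ _ _ _ _ _ _ _ _ =>
 (f (h 2<|h 11 0)<|f (h 1<|h 11 1)<|f (h 1<|h 11 2)<|f (h 2<|h 11 3)<|f (h 1<|h 11 4)<|l) :
 List (ℕ × ℕ × ℕ)) ++ mpw [1, 0, 1, 2, 0] L30 ++
  mpw [0, 2, 1, 1, 0] L30 ++ mpw [0, 1, 0] L30

theorem kd2 : chk 2 [(1, 0, 6)] (Lr ++ rd2) = true := chk_of (by decide +kernel)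

/-! ### `k = 1` -/

theorem ky1 : chk 1 (mpw [1] L30) L30 = true := chk_of (by decide +kernel)
theorem kn1 : chk 1 (mN L30) [] = true := chk_of (by decide +kernel)
theorem kt1 : chk 1 (mY (mp 2 L30)) M1_1 = true := chk_of (by decide +kernel)
theorem kc1 : chk 1 (M1_1 ++ mN M1_1 ++ rc1) (L30 ++ L30) = true := chk_of (by decide +kernel)
theorem kp1 : chk 1 (mY (mpw [0, 0, 2, 0] L30)) P1 = true := chk_of (by decide +kernel)
theorem kd1 : chk 1 (P1 ++ mQ P1 ++ rd1) [(1, 11, 0)] = true := chk_of (by decide +kernel)

theorem Rc2 : (gc2.flatMap fun p => rl p.1 p.2) = rc2 := by decide +kernel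
theorem Rd2 : (gd2.flatMap fun p => rl p.1 p.2) = rd2 := by decide +kernel
theorem Rc1 : (gc1.flatMap fun p => rl p.1 p.2) = rc1 := by decide +kernel
theorem Rd1 : (gd1.flatMap fun p => rl p.1 p.2) = rd1 := by decide +kernel

/-- the vector `w` -/
noncomputable def wv {V : Type*} [AddCommGroup V] (T : ℕ → V →+ V) (q : V) : V := ph T q L30

namespace Sys

variable {V : Type*} [AddCommGroup V] {T : ℕ → V →+ V} {q : V}

theorem w_y2 (h : Sys T 2 q) : act T [1] (wv T q) = wv T q := by
  unfold wv
  rw [h.act_ph (lt4 rfl) v30]
  exact h.ph_congr (val_mpw _ v30) v30 ky2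

theorem w_N2 (h : Sys T 2 q) : opN T (wv T q) = 0 := by
  unfold wv
  rw [h.N_ph v30, h.ph_congr (val_mN v30) (val_of (L := []) rfl) kn2]
  rfl

theorem w_t2 (h : Sys T 2 q) : opY T (act T [2] (wv T q)) + opN T (opY T (act T [2] (wv T q))) = wv T q := by
  unfold wv
  rw [h.act_ph (lt4 rfl) v30, h.Y_ph (val_mpw _ v30)]
  have e1 : ph T q (mY (mpw [2] L30)) = ph T q M1_2 := h.ph_congr (val_mY (val_mpw _ v30)) vM2 kt2
  rw [e1, h.N_ph vM2]
  have e2 := h.ph_congr (val_append (val_append vM2 (val_mN vM2)) vrc2) v30 kc2
  rw [ph_append, ph_append, h.ph_rels (lt4G (by decide +kernel)) Rc2, add_zero] at e2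
  exact e2

/-- **the formula of `r`** -/
theorem r_eq2 (h : Sys T 2 q) : act T [3, 0] q = (2 • q + act T [0] q + act T [0, 0] q + 2 • act T [0, 0, 0] q +
    act T [0, 0, 0, 0] q) + (act T [1, 0, 1, 2, 0] (wv T q) + act T [0, 2, 1, 1, 0] (wv T q) + act T [0, 1, 0] (wv T q)) := by
  have hv : val ((beta% delta% lq26cca11412 fun f h l _ _ _ _ _ _ _ _ _ _ _ _ _ _ _ _ _ _ _ _ _ _ _ _ _ =>
 (f (h 2<|h 11 0)<|f (h 1<|h 11 1)<|f (h 1<|h 11 2)<|f (h 2<|h 11 3)<|f (h 1<|h 11 4)<|l) :
 List (ℕ × ℕ × ℕ)) : List (ℕ × ℕ × ℕ)) := val_of rfl
  have h1 := h.ph_congr (L := [(1, 0, 6)]) (L' := Lr ++ rd2) (val_of rfl)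
    (val_append (val_append (val_append (val_append hv (val_mpw _ v30)) (val_mpw _ v30)) (val_mpw _ v30)) vrd2) kd2
  rw [ph_append, h.ph_rels (lt4G (by decide +kernel)) Rd2, add_zero] at h1
  unfold Lr at h1
  rw [ph_append, ph_append, ph_append, ← h.act_ph (lt4 rfl) v30, ← h.act_ph (lt4 rfl) v30, ← h.act_ph (lt4 rfl) v30] at h1
  have e1 : ph T q [(1, 0, 6)] = act T [3, 0] q := by
    unfold ph
    simp only [List.map_cons, List.map_nil, List.sum_cons, List.sum_nil, one_nsmul, add_zero]
    rfl
  have e2 : (beta% delta% lq26cca11412 fun f h l _ _ _ _ _ _ _ _ _ _ _ _ _ _ _ _ _ _ _ _ _ _ _ _ _ =>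
 ph T q (f (h 2<|h 11 0)<|f (h 1<|h 11 1)<|f (h 1<|h 11 2)<|f (h 2<|h 11 3)<|f (h 1<|h 11 4)<|l) :
 V) = 2 • q + act T [0] q + act T [0, 0] q +
      2 • act T [0, 0, 0] q + act T [0, 0, 0, 0] q := by
    unfold ph
    simp only [List.map_cons, List.map_nil, List.sum_cons, List.sum_nil, one_nsmul, add_zero, ← add_assoc]
    rfl
  rw [e1, e2] at h1
  rw [h1]
  unfold wv
  simp only [add_assoc]

theorem w_y1 (h : Sys T 1 q) : act T [1] (wv T q) = wv T q := by
  unfold wv
  rw [h.act_ph (lt4 rfl) v30]
  exact h.ph_congr (val_mpw _ v30) v30 ky1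

theorem w_N1 (h : Sys T 1 q) : opN T (wv T q) = 0 := by
  unfold wv
  rw [h.N_ph v30, h.ph_congr (val_mN v30) (val_of (L := []) rfl) kn1]
  rfl

theorem w_t1 (h : Sys T 1 q) : opY T (act T [2] (wv T q)) + opN T (opY T (act T [2] (wv T q))) = wv T q + wv T q := by
  unfold wv
  rw [h.act_ph (lt4 rfl) v30, h.Y_ph (val_mpw _ v30)]
  have e1 : ph T q (mY (mpw [2] L30)) = ph T q M1_1 := h.ph_congr (val_mY (val_mpw _ v30)) vM1 kt1
  rw [e1, h.N_ph vM1]
  have e2 := h.ph_congr (val_append (val_append vM1 (val_mN vM1)) vrc1) (val_append v30 v30) kc1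
  rw [ph_append, ph_append, h.ph_rels (lt4G (by decide +kernel)) Rc1, add_zero, ph_append] at e2
  exact e2

/-- the contradiction relation for `k = 1` -/
theorem w_q1 (h : Sys T 1 q) : opY T (act T [0, 0, 2, 0] (wv T q)) + opQ T (opY T (act T [0, 0, 2, 0] (wv T q))) = q := by
  unfold wv
  rw [h.act_ph (lt4 rfl) v30, h.Y_ph (val_mpw _ v30)]
  have e1 : ph T q (mY (mpw [0, 0, 2, 0] L30)) = ph T q P1 := h.ph_congr (val_mY (val_mpw _ v30)) vP1 kp1
  rw [e1, h.Q_ph vP1]
  have e2 := h.ph_congr (val_append (val_append vP1 (val_mQ vP1)) vrd1) (val_of (L := [(1, 11, 0)]) rfl) kd1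
  rw [ph_append, ph_append, h.ph_rels (lt4G (by decide +kernel)) Rd1, add_zero] at e2
  rw [e2]
  unfold ph
  simp only [List.map_cons, List.map_nil, List.sum_cons, List.sum_nil, one_nsmul, add_zero]
  rfl

variable {k : ℕ} (h : Sys T k q)

include h

/-- `r` is an arc vector -/
theorem r_arc : act T [3, 0] q = A T q 0 6 := rfl

/-- the arcs `f x^j q` -/
theorem f_q2 : act T [3, 0, 0] q = act T [2, 0, 0, 2, 0, 1] (act T [3, 0] q) := by
  rw [r_arc h, h.act_A (lt4 rfl) (by norm_num) (by norm_num)]
  rfl

theorem f_q3 : act T [3, 0, 0, 0] q = act T [1, 1] (act T [3, 0] q) := by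
  rw [r_arc h, h.act_A (lt4 rfl) (by norm_num) (by norm_num)]
  rfl

theorem f_q4 : act T [3, 0, 0, 0, 0] q = act T [2, 1] (act T [3, 0] q) := by
  rw [r_arc h, h.act_A (lt4 rfl) (by norm_num) (by norm_num)]
  rfl

/-- `f x (x^10 q) = f q` -/
theorem fx_q10 : act T [3, 0] (act T (List.replicate 10 0) q) = k • q := by
  have h1 := h.rel [3, 0, 0, 0, 0, 0, 0, 0, 0, 0, 0, 0] [3] (by decide +kernel) q
  rw [← h.qf]
  exact h1

/-- the relations of the triangle -/
theorem tri1 : act T [3, 0, 2, 1] (act T [3, 0] q) = act T [1, 0, 0] (act T [3, 0] q) := by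
  rw [r_arc h, h.act_A (lt4 rfl) (by norm_num) (by norm_num), h.act_A (lt4 rfl) (by norm_num) (by norm_num)]
  rfl

theorem tri2 : act T [3] (act T (List.replicate 9 0) q) = act T [2] (act T [3, 0] q) := by
  have e1 : act T (List.replicate 9 0) q = A T q 11 9 := rfl
  rw [e1, r_arc h, h.act_A (lt4 rfl) (by norm_num) (by norm_num), h.act_A (lt4 rfl) (by norm_num) (by norm_num)]
  rfl

end Sys

end Cfsg.Agent.H732.E8T
end

-- part: H732/E8T/Fin
section
/-!
# S5925 box K: `f` stabilises the 5-dimensional submodule `U1` (helper732)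

`v 0, v 1, v 2, v 3` = `x, y, t, f` in `E₈(3)` with the relations of `M11` (helper837's `eqP`), `x, y, t = Ph Ax, Ph Ay, Ph At`
(helper64, helper788), `f qII = e qII`.
-/

set_option autoImplicit false
set_option maxRecDepth 100000

namespace Cfsg.Agent.H732.E8T

open Matrix Cfsg Cfsg.Lie
open Cfsg.Agent.H837.E83.NM11
open Cfsg.Agent.H788.E83 (SL5 it Ax Ay At Ax_eq Ay_eq At_eq)
open Cfsg.Agent.H64.E83 (mx L3 er vec cf Ph E ac ac_one ac_mul ac_add ac_smul U1 stabW mem_stabW mem_U1 Ph_U1 i1 i1_add i1_smul i1_inj
  qII o1 act1' qII_eq x_qII vec_inl vec_inr)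

/-- the action as additive maps -/
noncomputable def Tv (v : ℕ → E) (l : ℕ) : L3 →+ L3 where
  toFun u := ac (v l) u
  map_zero' := Matrix.mulVec_zero _
  map_add' a b := ac_add _ a b

theorem Tv_apply (v : ℕ → E) (l : ℕ) (u : L3) : Tv v l u = ac (v l) u := rfl

theorem act_Tv (v : ℕ → E) (w : List ℕ) (u : L3) : act (Tv v) w u = ac ((w.map v).prod) u := by
  induction w with
  | nil => exact (ac_one u).symm
  | cons l w ih => rw [act_cons, ih, List.map_cons, List.prod_cons, ac_mul]; rfl

theorem act_rep (v : ℕ → E) (i l : ℕ) (u : L3) : act (Tv v) (List.replicate i l) u = ac (v l ^ i) u := by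
  rw [act_Tv, List.map_replicate, List.prod_replicate]

theorem three_L (u : L3) : (3 : ℕ) • u = 0 := by
  funext i
  show (3 : ℕ) • u i = 0
  generalize u i = a
  revert a
  decide

/-- the relations -/
structure Inp (v : ℕ → E) : Prop where
  rel : ∀ w w' : List ℕ, eqP w w' = true → (w.map v).prod = (w'.map v).prod
  vx : v 0 = Ph Ax
  vy : v 1 = Ph Ay
  vt : v 2 = Ph At

theorem y_qII : ac (Ph Ay) qII = qII := by
  rw [qII_eq]
  exact act1' (by rw [Ay_eq]; decide +kernel)

theorem t_qII : ac (Ph At) qII = qII := by
  rw [qII_eq]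
  exact act1' (by rw [At_eq]; decide +kernel)

theorem i1_zero : i1 0 = 0 := by
  have h := i1_smul 0 0
  rw [zero_smul, zero_smul] at h
  exact h

theorem sys {v : ℕ → E} (h : Inp v) {k : ℕ} (hf : ac (v 3) qII = k • qII) : Sys (Tv v) k qII where
  three := three_L
  rel := fun w w' hw u => by rw [act_Tv, act_Tv, h.rel w w' hw]
  qy := by rw [Tv_apply, h.vy, y_qII]
  qt := by rw [Tv_apply, h.vt, t_qII]
  qa := by
    have e1 : act (Tv v) aw qII = ac (Ph Ax) (ac (Ph At) (ac (Ph Ax ^ 10) qII)) := by
      have e2 : aw = 0 :: 2 :: List.replicate 10 0 := rfl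
      rw [e2, act_cons, act_cons, act_rep, Tv_apply, Tv_apply, h.vx, h.vt]
    have e3 : ac (Ph At) (i1 (o1 10)) = i1 (o1 10) := act1' (by rw [At_eq]; decide +kernel)
    rw [e1, x_qII 10 le_rfl, e3, qII_eq]
    exact act1' (by rw [Ax_eq]; decide +kernel)
  qf := hf
  qP := by
    have e : ∀ i ≤ 10, act (Tv v) (List.replicate i 0) qII = i1 (o1 i) := fun i hi => by
      rw [act_rep, h.vx, x_qII i hi]
    have e1 := e 1 (by norm_num)
    have e3 := e 3 (by norm_num)
    have e4 := e 4 (by norm_num)
    have e5 := e 5 (by norm_num)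
    have e9 := e 9 (by norm_num)
    show act (Tv v) (List.replicate 1 0) qII + act (Tv v) (List.replicate 3 0) qII + act (Tv v) (List.replicate 4 0) qII +
      act (Tv v) (List.replicate 5 0) qII + act (Tv v) (List.replicate 9 0) qII = 0
    rw [e1, e3, e4, e5, e9, ← i1_add, ← i1_add, ← i1_add, ← i1_add]
    have e0 : o1 1 + o1 3 + o1 4 + o1 5 + o1 9 = 0 := by decide +kernel
    rw [e0, i1_zero]

/-- the basis `x^j q` of `U1`, `j < 5` -/
theorem span5 (w : Fin 5 → ZMod 3) : ∃ c : Fin 5 → ZMod 3, w = c 0 • o1 0 + c 1 • o1 1 + c 2 • o1 2 + c 3 • o1 3 + c 4 • o1 4 := by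
  have hM : ((beta% delta% lq26cca11412 fun _ _ _ _ _ _ _ s _ x _ _ _ _ _ _ _ _ _ _ _ _ _ _ _ _ _ _ =>
 (@_root_.Matrix.of (Fin 5) (Fin 5) _ (s (s 1<|s 0<|s 1<|s 0<|s 0<|x)
 (s (s 0<|s 0<|s 2<|s 0<|s 0<|x)
 (s (s 0<|s 2<|s 2<|s 2<|s 2<|x)
 (s (s 0<|s 0<|s 1<|s 0<|s 1<|x)
 (s (s 2<|s 2<|s 0<|s 0<|s 1<|x)
 x)))))) :
 Matrix (Fin 5) (Fin 5) (ZMod 3)) : Matrix (Fin 5) (Fin 5) (ZMod 3)) *
      (beta% delta% lq26cca11412 fun _ _ _ _ _ _ _ s _ x _ _ _ _ _ _ _ _ _ _ _ _ _ _ _ _ _ _ =>
 (@_root_.Matrix.of (Fin 5) (Fin 5) _ (s (s 1<|s 1<|s 0<|s 0<|s 0<|x)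
 (s (s 2<|s 0<|s 0<|s 1<|s 2<|x)
 (s (s 0<|s 2<|s 0<|s 0<|s 0<|x)
 (s (s 1<|s 0<|s 2<|s 1<|s 1<|x)
 (s (s 0<|s 1<|s 0<|s 1<|s 0<|x)
 x)))))) :
 Matrix (Fin 5) (Fin 5) (ZMod 3)) = 1 := by decide +kernel
  refine ⟨(beta% delta% lq26cca11412 fun _ _ _ _ _ _ _ s _ x _ _ _ _ _ _ _ _ _ _ _ _ _ _ _ _ _ _ =>
 (@_root_.Matrix.of (Fin 5) (Fin 5) _ (s (s 1<|s 1<|s 0<|s 0<|s 0<|x)
 (s (s 2<|s 0<|s 0<|s 1<|s 2<|x)
 (s (s 0<|s 2<|s 0<|s 0<|s 0<|x)
 (s (s 1<|s 0<|s 2<|s 1<|s 1<|x)
 (s (s 0<|s 1<|s 0<|s 1<|s 0<|x)
 x)))))) :
 Matrix (Fin 5) (Fin 5) (ZMod 3)) *ᵥ w, ?_⟩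
  have h := Cfsg.Agent.H64.E83.decomp hM w
  rw [Fin.sum_univ_five] at h
  have e0 : ((beta% delta% lq26cca11412 fun _ _ _ _ _ _ _ s _ x _ _ _ _ _ G _ _ _ _ _ _ _ _ _ _ _ _ =>
 fun i => ((@_root_.Matrix.of (Fin 5) (Fin 5) _ (s (s 1<|s 0<|s 1<|s 0<|s 0<|x)
 (s (s 0<|s 0<|s 2<|s 0<|s 0<|x)
 (s (s 0<|s 2<|s 2<|s 2<|s 2<|x)
 (s (s 0<|s 0<|s 1<|s 0<|s 1<|x)
 (s (s 2<|s 2<|s 0<|s 0<|s 1<|x)
 x)))))) :type_of% (G _)) i 0 :
 Fin 5 → ZMod 3)) = o1 0 := by decide
  have e1 : ((beta% delta% lq26cca11412 fun _ _ _ _ _ _ _ s _ x _ _ _ _ _ G _ _ _ _ _ _ _ _ _ _ _ _ =>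
 fun i => ((@_root_.Matrix.of (Fin 5) (Fin 5) _ (s (s 1<|s 0<|s 1<|s 0<|s 0<|x)
 (s (s 0<|s 0<|s 2<|s 0<|s 0<|x)
 (s (s 0<|s 2<|s 2<|s 2<|s 2<|x)
 (s (s 0<|s 0<|s 1<|s 0<|s 1<|x)
 (s (s 2<|s 2<|s 0<|s 0<|s 1<|x)
 x)))))) :type_of% (G _)) i 1 :
 Fin 5 → ZMod 3)) = o1 1 := by decide
  have e2 : ((beta% delta% lq26cca11412 fun _ _ _ _ _ _ _ s _ x _ _ _ _ _ G _ _ _ _ _ _ _ _ _ _ _ _ =>
 fun i => ((@_root_.Matrix.of (Fin 5) (Fin 5) _ (s (s 1<|s 0<|s 1<|s 0<|s 0<|x)
 (s (s 0<|s 0<|s 2<|s 0<|s 0<|x)
 (s (s 0<|s 2<|s 2<|s 2<|s 2<|x)
 (s (s 0<|s 0<|s 1<|s 0<|s 1<|x)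
 (s (s 2<|s 2<|s 0<|s 0<|s 1<|x)
 x)))))) :type_of% (G _)) i 2 :
 Fin 5 → ZMod 3)) = o1 2 := by decide
  have e3 : ((beta% delta% lq26cca11412 fun _ _ _ _ _ _ _ s _ x _ _ _ _ _ G _ _ _ _ _ _ _ _ _ _ _ _ =>
 fun i => ((@_root_.Matrix.of (Fin 5) (Fin 5) _ (s (s 1<|s 0<|s 1<|s 0<|s 0<|x)
 (s (s 0<|s 0<|s 2<|s 0<|s 0<|x)
 (s (s 0<|s 2<|s 2<|s 2<|s 2<|x)
 (s (s 0<|s 0<|s 1<|s 0<|s 1<|x)
 (s (s 2<|s 2<|s 0<|s 0<|s 1<|x)
 x)))))) :type_of% (G _)) i 3 :
 Fin 5 → ZMod 3)) = o1 3 := by decide
  have e4 : ((beta% delta% lq26cca11412 fun _ _ _ _ _ _ _ s _ x _ _ _ _ _ G _ _ _ _ _ _ _ _ _ _ _ _ =>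
 fun i => ((@_root_.Matrix.of (Fin 5) (Fin 5) _ (s (s 1<|s 0<|s 1<|s 0<|s 0<|x)
 (s (s 0<|s 0<|s 2<|s 0<|s 0<|x)
 (s (s 0<|s 2<|s 2<|s 2<|s 2<|x)
 (s (s 0<|s 0<|s 1<|s 0<|s 1<|x)
 (s (s 2<|s 2<|s 0<|s 0<|s 1<|x)
 x)))))) :type_of% (G _)) i 4 :
 Fin 5 → ZMod 3)) = o1 4 := by decide
  rw [e0, e1, e2, e3, e4] at h
  exact h

/-- the elements of `U1` as combinations of `x^j q`, `j < 5` -/
theorem mem_span {u : L3} (hu : u ∈ U1) : ∃ c : Fin 5 → ZMod 3, u = c 0 • qII + c 1 • ac (Ph Ax ^ 1) qII +
    c 2 • ac (Ph Ax ^ 2) qII + c 3 • ac (Ph Ax ^ 3) qII + c 4 • ac (Ph Ax ^ 4) qII := by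
  obtain ⟨w, rfl⟩ := mem_U1.1 hu
  obtain ⟨c, hc⟩ := span5 w
  refine ⟨c, ?_⟩
  rw [x_qII 1 (by norm_num), x_qII 2 (by norm_num), x_qII 3 (by norm_num), x_qII 4 (by norm_num), qII_eq, ← i1_smul, ← i1_smul,
    ← i1_smul, ← i1_smul, ← i1_smul, ← i1_add, ← i1_add, ← i1_add, ← i1_add, ← hc]

theorem rep_eq (v : ℕ → E) (h : v 0 = Ph Ax) (i : ℕ) (u : L3) : act (Tv v) (List.replicate i 0) u = ac (Ph Ax ^ i) u := by
  rw [act_rep, h]

theorem two_nsmul_L (u : L3) : (2 : ℕ) • u = (2 : ZMod 3) • u := by
  rw [two_nsmul, two_smul]

theorem qII_mem : qII ∈ U1 := mem_U1.2 ⟨_, rfl⟩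

/-- **the end**: if `r = f x q` lies in `U1`, then `f` stabilises `U1` -/
theorem end_of {v : ℕ → E} (h : Inp v) {k : ℕ} (hf : ac (v 3) qII = k • qII) (hr : ac (v 3) (ac (Ph Ax) qII) ∈ U1) :
    v 3 ∈ stabW U1 := by
  have hs := sys h hf
  have e1 : act (Tv v) [3, 0] qII = ac (v 3) (ac (Ph Ax) qII) := by
    show Tv v 3 (Tv v 0 qII) = _
    rw [Tv_apply, Tv_apply, h.vx]
  have hS : ∀ w : List ℕ, (∀ l ∈ w, l = 0 ∨ l = 1 ∨ l = 2) → ∀ u ∈ U1, act (Tv v) w u ∈ U1 := by
    intro w hw u hu
    induction w with
    | nil => exact hu
    | cons l w ih =>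
      rw [act_cons, Tv_apply]
      have h1 := ih (fun m hm => hw m (List.mem_cons_of_mem _ hm))
      rcases hw l List.mem_cons_self with rfl | rfl | rfl
      · rw [h.vx]; exact Ph_U1 _ h1
      · rw [h.vy]; exact Ph_U1 _ h1
      · rw [h.vt]; exact Ph_U1 _ h1
  have hr' : act (Tv v) [3, 0] qII ∈ U1 := by rw [e1]; exact hr
  have f1 : ac (v 3) (ac (Ph Ax ^ 1) qII) ∈ U1 := by rw [pow_one]; exact hr
  have f0 : ac (v 3) qII ∈ U1 := by rw [hf]; exact nsmul_mem qII_mem k
  have f2 : ac (v 3) (ac (Ph Ax ^ 2) qII) ∈ U1 := by
    have h1 : act (Tv v) [3, 0, 0] qII = ac (v 3) (ac (Ph Ax ^ 2) qII) := by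
      rw [← rep_eq v h.vx]; rfl
    rw [← h1, hs.f_q2]
    exact hS _ (by decide) _ hr'
  have f3 : ac (v 3) (ac (Ph Ax ^ 3) qII) ∈ U1 := by
    have h1 : act (Tv v) [3, 0, 0, 0] qII = ac (v 3) (ac (Ph Ax ^ 3) qII) := by
      rw [← rep_eq v h.vx]; rfl
    rw [← h1, hs.f_q3]
    exact hS _ (by decide) _ hr'
  have f4 : ac (v 3) (ac (Ph Ax ^ 4) qII) ∈ U1 := by
    have h1 : act (Tv v) [3, 0, 0, 0, 0] qII = ac (v 3) (ac (Ph Ax ^ 4) qII) := by
      rw [← rep_eq v h.vx]; rfl
    rw [← h1, hs.f_q4]
    exact hS _ (by decide) _ hr'
  rw [mem_stabW]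
  intro u hu
  obtain ⟨c, rfl⟩ := mem_span hu
  rw [ac_add, ac_add, ac_add, ac_add, ac_smul, ac_smul, ac_smul, ac_smul, ac_smul]
  exact U1.add_mem (U1.add_mem (U1.add_mem (U1.add_mem (U1.smul_mem _ f0) (U1.smul_mem _ f1)) (U1.smul_mem _ f2))
    (U1.smul_mem _ f3)) (U1.smul_mem _ f4)

end Cfsg.Agent.H732.E8T
end

-- part: H74/E83/LinN
section
set_option autoImplicit false
set_option maxRecDepth 100000
set_option exponentiation.threshold 600

namespace Cfsg.Agent.H74.E83.Ker

open Cfsg.Agent.H74.E83 Cfsg.Agent.H74.E83.Trit Cfsg.Agent.H74.E83.Code Cfsg.Agent.H74.E83.Elim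

/-- the value of `cN` -/
theorem cN_eq : cN = lN := Nat.eq_of_beq_eq_true (by decide +kernel)

end Cfsg.Agent.H74.E83.Ker
end

-- part: H74/E83/LinE
section
set_option autoImplicit false
set_option maxRecDepth 100000
set_option exponentiation.threshold 600

namespace Cfsg.Agent.H74.E83.Ker

open Cfsg.Agent.H74.E83 Cfsg.Agent.H74.E83.Trit Cfsg.Agent.H74.E83.Code Cfsg.Agent.H74.E83.Elim

/-- the value of `cE` -/
theorem cE_eq : cE = lE := Nat.eq_of_beq_eq_true (by decide +kernel)

end Cfsg.Agent.H74.E83.Ker
end

-- part: H74/E83/LinM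
section
set_option autoImplicit false
set_option maxRecDepth 100000
set_option exponentiation.threshold 600

namespace Cfsg.Agent.H74.E83.Ker

open Cfsg.Agent.H74.E83 Cfsg.Agent.H74.E83.Trit Cfsg.Agent.H74.E83.Code Cfsg.Agent.H74.E83.Elim

/-- rows (matrix, index) -/
noncomputable def selm : List (ℕ × ℕ) :=
  (by
  refine (?fq9019 : ((pk61l (fun i1 => (_root_.Prod.mk (pk61d (nat_lit 2) 
    (nat_lit 0x186a204a2141a890a0226955560aa22615555555555552298011a51555555555555555555555555555555556a8a6124552955695555556aaaaaaaa955) i1) (pk61d (nat_lit 8) 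
    (nat_lit 0x454432453adb2b45283326e1592742dcde442b58d2394351ef7146733c3f666e60494a60483d52525d4846ef4b77797633524c4f5087a08c9e92c191a28e8db38786919d8c9f8d94929399889e666865e6e3d3dee4a197869c483034cba4a8cb25152dc712c81523d72dd7cc221fa7cdcad8bed9bbd5bfcbbdd7c719c8c620c9c5e53231a7a6a914a5351e2c0e0fd2b9c3c1b7aeadc0b6161d18e00c1073bac46ddbddda6267785e513ed4a412b4b358f1536975000003950301b1840b04807f837d0b09f40b7e5b5756e2e8b24e8ab517eedcf3957c530a826f8175f2f7f6edecebeae9abaa968f857f7b64540e09f6e9b1ab04) i1))) (nat_lit 0) (nat_lit 244) List.nil) : List (ℕ × ℕ))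
    = ?xq9019 → (List (ℕ × ℕ))) ?hq9019; (case hq9019 => (set_option maxRecDepth 1000000 in set_option simprocs false in conv => lhs; reduce; dsimp only)); intro _; exact ?xq9019 : List (ℕ × ℕ))

/-- pivot columns -/
noncomputable def colm : List ℕ :=
  (by
  refine (?fq9020 : ((pk61l (fun i1 => (pk61d (nat_lit 8) 
    (nat_lit 0x2a32d0404339383a37295a57453326272b302836da3bde6c5f774a5d683f66626e78674d79e7653c493d464c4763716142524b48508eae869e929ca20d109894b7a18c8d899f8b879a97998893727674d1dfd3dde1a3a09d914f4434cc1f1924a62c1b1c14a715201ad5d72522212fbebcbfc4cdd4cac6bbbdcbd61ed9c52ec9c7e33141cfa5a912a4352d23b30fd2b8afc2b9b0adc0b6181716e00c1173bac86ddbe5e46b5c605e513ed8ce13b4c356f253696a028a03019500707c04057e8407830a06800b7d5b5958e2efb24e90b51deedcf175815508826f7a9bf0f7f6edecebeae9abaa968f857f7b64540e09f4f3acb1f5) i1)) (nat_lit 0) (nat_lit 244) List.nil) : List ℕ)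
    = ?xq9020 → (List ℕ)) ?hq9020; (case hq9020 => (set_option maxRecDepth 1000000 in set_option simprocs false in conv => lhs; reduce; dsimp only)); intro _; exact ?xq9020 : List ℕ)

/-- the selected row -/
def rowm (e : ℕ × ℕ) : ℕ :=
  match e.1 with
  | 0 => row lN e.2
  | 1 => fixRow mY e.2
  | _ => fixRow lE e.2

private noncomputable def fz (x : ℕ) (k : ℕ → Bool) : Bool := Nat.rec (k 0) (fun n _ => k (Nat.succ n)) x

private theorem fz_eq (x : ℕ) (k : ℕ → Bool) : fz x k = k x := by cases x <;> rfl

/-- forced `map` -/
private noncomputable def mapF (f : ℕ → ℕ) (l : List ℕ) : (List ℕ → Bool) → Bool :=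
  List.rec (fun k => k []) (fun s _ ih k => fz (f s) fun s' => ih fun l' => k (s' :: l')) l

private theorem mapF_eq (f : ℕ → ℕ) : ∀ (l : List ℕ) (k : List ℕ → Bool), mapF f l k = k (l.map f)
  | [], _ => rfl
  | s :: l, k => by
    show fz (f s) (fun s' => mapF f l fun l' => k (s' :: l')) = _
    rw [fz_eq, mapF_eq f l]
    rfl

/-- the rows carry 16 low bits which only make their hash codes different -/
private def sh (S : ℕ) : ℕ := Nat.shiftRight S 16

private def mkS (s S : ℕ) : ℕ := Nat.add (Nat.shiftLeft s 16) (Nat.mod S 65536)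

private theorem sh_mkS (s S : ℕ) : sh (mkS s S) = s := by
  show (s <<< 16 + S % 65536) >>> 16 = s
  rw [Nat.shiftRight_eq_div_pow, Nat.shiftLeft_eq]
  have := Nat.mod_lt S (show 0 < 65536 by decide)
  omega

/-- `red` with a quick test -/
private noncomputable def redF (P c S : ℕ) : ℕ :=
  Bool.rec (mkS (red (sh P) c (sh S)) S) S
    (Nat.beq (Nat.land (Nat.shiftRight S (Nat.add 16 c))
      115792089237316195423570985008687907853269984665640564039457584007913129639937) 0)

private theorem redF_eq (P c S : ℕ) : sh (redF P c S) = red (sh P) c (sh S) := by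
  unfold redF
  rcases e : Nat.beq (Nat.land (Nat.shiftRight S (Nat.add 16 c))
      115792089237316195423570985008687907853269984665640564039457584007913129639937) 0 with _ | _
  · exact sh_mkS _ _
  · have h : (S >>> (16 + c)) &&& 115792089237316195423570985008687907853269984665640564039457584007913129639937 = 0 :=
      Nat.eq_of_beq_eq_true e
    have h1 := congrArg (Nat.testBit · 0) h
    have h2 := congrArg (Nat.testBit · 256) h
    have k1 : Nat.testBit 115792089237316195423570985008687907853269984665640564039457584007913129639937 0 = true := by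
      decide +kernel
    have k2 : Nat.testBit 115792089237316195423570985008687907853269984665640564039457584007913129639937 256 = true := by
      decide +kernel
    simp only [Nat.testBit_and, k1, k2, Bool.and_true, Nat.zero_testBit, Nat.testBit_shiftRight] at h1 h2
    show sh S = bif Nat.beq (bt (S >>> 16) c) 1 then tsub (sh S) (sh P) else
      bif Nat.beq (bt (S >>> 16) (256 + c)) 1 then tadd (sh S) (sh P) else sh S
    rw [bt_eq, bt_eq, Nat.testBit_shiftRight, Nat.testBit_shiftRight, show 16 + (256 + c) = 16 + c + 256 by omega, h2,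
      show 16 + c = 16 + c + 0 from rfl, h1]
    rfl

/-- forced elimination -/
private noncomputable def gjF (k : List ℕ → Bool) (cs : List ℕ) : List ℕ → List ℕ → Bool :=
  List.rec (fun done _ => k (done.map sh)) (fun c _ ih done rs => List.rec (k (done.map sh)) (fun r rs _ =>
    fz (mkS (nrm (sh r) c) r) fun p => mapF (redF p c) done fun d => mapF (redF p c) rs fun rs' => ih (p :: d) rs') rs) cs

private theorem gjF_eq (k : List ℕ → Bool) : ∀ cs done rs : List ℕ,
    gjF k cs done rs = k (gj (done.map sh) (rs.map sh) cs)
  | [], done, [] => rfl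
  | [], done, _ :: _ => rfl
  | _ :: _, done, [] => rfl
  | c :: cs, done, r :: rs => by
    show fz (mkS (nrm (sh r) c) r) (fun p =>
      mapF (redF p c) done fun d => mapF (redF p c) rs fun rs' => gjF k cs (p :: d) rs') = _
    have e : sh ∘ redF (mkS (nrm (sh r) c) r) c = red (nrm (sh r) c) c ∘ sh := funext fun S => by
      show sh (redF _ c S) = _
      rw [redF_eq, sh_mkS]
      rfl
    rw [fz_eq, mapF_eq, mapF_eq, gjF_eq k cs, List.map_cons, List.map_map, List.map_map, e, ← List.map_map, ← List.map_map,
      sh_mkS]
    rfl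

private noncomputable def slt {α : Type} (f : α → ℕ) (l : List α) : ℕ → List ℕ :=
  List.rec (fun _ => []) (fun e _ ih n => mkS (f e) n :: ih (Nat.succ n)) l

private theorem slt_eq {α : Type} (f : α → ℕ) : ∀ (l : List α) (n : ℕ), (slt f l n).map sh = l.map f
  | [], _ => rfl
  | e :: l, n => by
    show sh (mkS (f e) n) :: (slt f l (Nat.succ n)).map sh = _
    rw [sh_mkS, slt_eq f l]
    rfl

private noncomputable def msk (l : List ℕ) : ℕ := List.rec 0 (fun c _ ih => Nat.lor (Nat.shiftLeft 1 c) ih) l

private theorem mem_of_msk {n : ℕ} : ∀ l : List ℕ, (msk l).testBit n = true → n ∈ l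
  | [], h => absurd h (by show ¬ Nat.testBit 0 n = true; rw [Nat.zero_testBit]; decide)
  | c :: l, h => by
    have h' : (1 <<< c ||| msk l).testBit n = true := h
    rw [Nat.testBit_or, Nat.one_shiftLeft, Nat.testBit_two_pow, Bool.or_eq_true, decide_eq_true_eq] at h'
    exact h'.elim (fun e => e ▸ List.mem_cons_self) fun e => List.mem_cons_of_mem _ (mem_of_msk l e)

private theorem cov_of {cs fs : List ℕ} (h : Nat.beq (Nat.lor (msk cs) (msk fs)) (2 ^ 248 - 1) = true) : cov cs fs = true := by
  refine List.all_eq_true.2 fun n hn => ?_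
  have h1 : (msk cs ||| msk fs).testBit n = (2 ^ 248 - 1).testBit n := congrArg (Nat.testBit · n) (Nat.eq_of_beq_eq_true h)
  rw [Nat.testBit_two_pow_sub_one, Nat.testBit_or, decide_eq_true (List.mem_range.1 hn), Bool.or_eq_true] at h1
  rw [Bool.or_eq_true, List.contains_iff_mem, List.contains_iff_mem]
  exact h1.imp (mem_of_msk cs) (mem_of_msk fs)

private theorem chk_of {α : Type} {f : α → ℕ} {sel : List α} {cs fs : List ℕ} {W : ℕ}
    (h1 : (sml cs && (sml fs && (Nat.ble fs.length 256 &&
      (Nat.beq (Nat.lor (msk cs) (msk fs)) (2 ^ 248 - 1) && fre W fs fs)))) = true)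
    (h2 : mapF id (slt f sel 1) (gjF (fun d => cmp W fs d cs.reverse) cs []) = true) : chk (sel.map f) cs fs W = true := by
  rw [mapF_eq, gjF_eq, List.map_id, slt_eq] at h2
  simp only [Bool.and_eq_true] at h1
  show (sml cs && (sml fs && (Nat.ble fs.length 256 && (cov cs fs && (fre W fs fs &&
    cmp W fs (gj [] (sel.map f) cs) cs.reverse))))) = true
  rw [h1.1, h1.2.1, h1.2.2.1, cov_of h1.2.2.2.1, h1.2.2.2.2]
  exact h2

theorem chkm : (beta% delta% lq26cca11412 fun f _ l _ _ _ _ _ _ _ _ _ _ _ _ _ _ _ _ _ _ M N O P Q R _ =>
 M (selm.map rowm) colm (f 193<|f 168<|f 230<|f 232<|l) (N 0 (f O<|f P<|f Q<|f R<|l)) :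
 Bool) = true :=
  chk_of (by decide +kernel) (by decide +kernel)

end Cfsg.Agent.H74.E83.Ker
end

-- part: H74/E83/LinP
section
set_option autoImplicit false
set_option maxRecDepth 100000
set_option exponentiation.threshold 600

namespace Cfsg.Agent.H74.E83.Ker

open Cfsg.Agent.H74.E83 Cfsg.Agent.H74.E83.Trit Cfsg.Agent.H74.E83.Code Cfsg.Agent.H74.E83.Elim

/-- rows (matrix, index) -/
noncomputable def selp : List (ℕ × ℕ) :=
  (by
  refine (?fq9021 : ((pk61l (fun i1 => (_root_.Prod.mk (pk61d (nat_lit 2) 
    (nat_lit 0x28428a84065429201a55a555a8a8220955555555554680164a455555555555555555555555555555555555552199a96416a9555555555555aaaaaaaaa55) i1) (pk61d (nat_lit 8) 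
    (nat_lit 0xdd2b44db28284245363be0db3a3445d2362b2a352b38379aa39d0c119fb80c89868eb7938b9f9a929ec1898d9399889e76603d49e24c6b4d7866714877724a6b5c6e74635f5d6c7172a186979c6668654c524f501cce24d513c6d9ba2323192d2fd7bbd7221e1f0f0c10a213dfe6d1e3e13034bacecfcabdbebcd7a7cdd648b9c33132332ed8d9d5c4c7c820c6c9c51e2c35a914a5c1b7aeadc0b61d1618d4a4e0d2e5736d6267dbddda785e513e12097f04077b837d7c06080b7e034e69700390960175554e8ab3b2b5b4f1e21758eef25b5756e8dce9f37c950a82536f8175f7f6edecebeae9abaa968f857f7b64540e09f6b1ab04) i1))) (nat_lit 0) (nat_lit 246) List.nil) : List (ℕ × ℕ))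
    = ?xq9021 → (List (ℕ × ℕ))) ?hq9021; (case hq9021 => (set_option maxRecDepth 1000000 in set_option simprocs false in conv => lhs; reduce; dsimp only)); intro _; exact ?xq9021 : List (ℕ × ℕ))

/-- pivot columns -/
noncomputable def colp : List ℕ :=
  (by
  refine (?fq9022 : ((pk61l (fun i1 => (pk61d (nat_lit 8) 
    (nat_lit 0x272638e3445ae1334041313b573a3928372a29362b30da10a1ae94c19c8d8ba2980d8c9d87929f9a9e8e89b797998893624d663f796c473d63e7493c78464cf3776872615f6776716ea386a0915d65744b4a48502c22c6a8c5cb211ba71c191a1e20d9251f142f0f0c11b315d0dbd3dfd13445becabfbabdcdbccca5bbd44fb8af43324224cfd5d7d8d6c82ec4c9c72d2335a912a4c2b9b0adc0b6171816a6cee0d2de736d6b5ce6dde4605e513e137d847c057e838004070a0b06020100708a6995036a534e90c3b2b5b4f2e21d56eef05b5958efdce8f181750882556f7a9bf7f6edecebeae9abaa968f857f7b64540e09f4acb1f5) i1)) (nat_lit 0) (nat_lit 246) List.nil) : List ℕ)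
    = ?xq9022 → (List ℕ)) ?hq9022; (case hq9022 => (set_option maxRecDepth 1000000 in set_option simprocs false in conv => lhs; reduce; dsimp only)); intro _; exact ?xq9022 : List ℕ)

/-- the selected row -/
def rowp (e : ℕ × ℕ) : ℕ :=
  match e.1 with
  | 0 => row lN e.2
  | 1 => fixRow mY e.2
  | _ => negRow lE e.2

theorem chkp : chk (selp.map rowp) colp [229, 82] (mkW 0 [lw5, lw6]) = true :=
  chk_of (by decide +kernel) (by decide +kernel)

end Cfsg.Agent.H74.E83.Ker
end

-- part: H74/E83/Lin
section
/-!
# The two linear systems of box K (helper74, S5925)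

`linM`, `linP` : the solutions of `y w = w`, `∑_{i ∈ NQR} xⁱ w = 0`, `(1 + ∑_{i ∈ NQR} xⁱ)(1 + y + y² + y³ + y⁴) t w = ± w`.
-/

set_option autoImplicit false
set_option maxRecDepth 100000
set_option exponentiation.threshold 600

namespace Cfsg.Agent.H74.E83.Ker

open Matrix Cfsg.Lie Cfsg.Agent.ChevalleyStructure.Elts
open Cfsg.Agent.H992.E8X
open Cfsg.Agent.H64.E83 (mx L3 er vec Ph vec_nil vec_cons)
open Cfsg.Agent.H74.E83 Cfsg.Agent.H74.E83.Trit Cfsg.Agent.H74.E83.Code Cfsg.Agent.H74.E83.Elim Cfsg.Agent.H74.E83.Trip
open Cfsg.Agent.H751.Two.Word (sz pos posOK)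

theorem Rep.ann_fix {V : ℕ} {M : M8} (h : Rep V M) {v : L3} (hv : M *ᵥ v = v) {i : ℕ} (hi : i < 248) :
    Ann v (fixRow V i) :=
  ann_fixRow sz_le h.vld (by rw [h.sem]; exact hv) (by rw [sz_eq]; exact hi)

theorem Rep.ann_neg {V : ℕ} {M : M8} (h : Rep V M) {v : L3} (hv : M *ᵥ v = -v) {i : ℕ} (hi : i < 248) :
    Ann v (negRow V i) := by
  obtain ⟨k, rfl⟩ := (posOK chevE8).surj i (by rw [sz_eq]; exact hi)
  have hk : pos chevE8 k < 256 := hi.trans (by norm_num)
  refine ⟨vld_add (h.vld _) (vld_un hk), ?_⟩
  unfold negRow
  rw [dotp_add (h.vld _) (vld_un hk), dotp_tun]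
  have h1 := congrFun hv k
  rw [← h.sem] at h1
  have h2 : dotp (row V (pos chevE8 k)) v = -(v k) := h1
  rw [h2, neg_add_cancel]

theorem rep_mY : Rep mY MY := by
  have h := rY Rep.one
  rw [mul_one] at h
  exact h

theorem rep_mT : Rep mT MT := by
  have h := rT Rep.one
  rw [mul_one] at h
  exact h

theorem rep_cN : Rep cN (MX ^ 2 + MX ^ 6 + MX ^ 7 + MX ^ 8 + MX ^ 10) := by
  have h := rNq Rep.one
  rw [mul_one] at h
  exact h

/-- the matrix `(1 + x² + x⁶ + x⁷ + x⁸ + x¹⁰)(1 + y + y² + y³ + y⁴) t` -/
noncomputable def ME : M8 :=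
  (MX ^ 2 + MX ^ 6 + MX ^ 7 + MX ^ 8 + MX ^ 10) * ((1 + MY + MY ^ 2 + MY ^ 3 + MY ^ 4) * MT) +
    (1 + MY + MY ^ 2 + MY ^ 3 + MY ^ 4) * MT

theorem rep_cE : Rep cE ME := (rYs rep_mT).add (rNq (rYs rep_mT))

theorem rep_lN : Rep lN (MX ^ 2 + MX ^ 6 + MX ^ 7 + MX ^ 8 + MX ^ 10) := cN_eq ▸ rep_cN

theorem rep_lE : Rep lE ME := cE_eq ▸ rep_cE

theorem ME_mulVec (w : L3) : ME *ᵥ w = yso (mx Trip.t1 *ᵥ w) + nqs (yso (mx Trip.t1 *ᵥ w)) := by
  unfold ME
  rw [nqs_eq, yso_eq, Matrix.add_mulVec, ← Matrix.mulVec_mulVec, ← Matrix.mulVec_mulVec, add_comm]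

theorem selm_lt : ∀ e ∈ selm, e.2 < 248 := by decide +kernel

theorem selp_lt : ∀ e ∈ selp, e.2 < 248 := by decide +kernel

/-- LINm -/
theorem linM {w : L3} (hy : mx y1 *ᵥ w = w) (hN : nqs w = 0)
    (hT : yso (mx Trip.t1 *ᵥ w) + nqs (yso (mx Trip.t1 *ᵥ w)) = w) :
    ∃ c1 c2 c3 c4 : ZMod 3, w = c1 • vec lw1 + c2 • vec lw2 + c3 • vec lw3 + c4 • vec lw4 := by
  rw [← ME_mulVec] at hT
  rw [nqs_eq] at hN
  have hA : ∀ r ∈ selm.map rowm, Ann w r := by
    intro r hr
    obtain ⟨e, he, rfl⟩ := List.mem_map.1 hr
    have hlt := selm_lt e he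
    unfold rowm
    split
    · exact rep_lN.ann hN hlt
    · exact rep_mY.ann_fix hy hlt
    · exact rep_lE.ann_fix hT hlt
  have h := ker_vec (by rfl) (by decide) chkm hA
  refine ⟨dotp (tun 193) w, dotp (tun 168) w, dotp (tun 230) w, dotp (tun 232) w, h.trans ?_⟩
  simp only [combo, add_zero, add_assoc]

/-- LINp -/
theorem linP {w : L3} (hy : mx y1 *ᵥ w = w) (hN : nqs w = 0)
    (hT : yso (mx Trip.t1 *ᵥ w) + nqs (yso (mx Trip.t1 *ᵥ w)) = -w) :
    ∃ c5 c6 : ZMod 3, w = c5 • vec lw5 + c6 • vec lw6 := by
  rw [← ME_mulVec] at hT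
  rw [nqs_eq] at hN
  have hA : ∀ r ∈ selp.map rowp, Ann w r := by
    intro r hr
    obtain ⟨e, he, rfl⟩ := List.mem_map.1 hr
    have hlt := selp_lt e he
    unfold rowp
    split
    · exact rep_lN.ann hN hlt
    · exact rep_mY.ann_fix hy hlt
    · exact rep_lE.ann_neg hT hlt
  have h := ker_vec (by rfl) (by decide) chkp hA
  refine ⟨dotp (tun 229) w, dotp (tun 82) w, h.trans ?_⟩
  simp only [combo, add_zero]

end Cfsg.Agent.H74.E83.Ker
end

-- part: H977/E83/Wlinp
section
/-!
# S5925, box K: `E₊ Y x x t x` kills the two vectors of LINp (helper977)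

`x = Ph Ax`, `y = Ph Ay`, `t = Ph At`, `Y = 1 + y + y² + y³ + y⁴`, `E₊ = 1 + x + x³ + x⁴ + x⁵ + x⁹`.
-/

set_option autoImplicit false
set_option maxRecDepth 100000
set_option exponentiation.threshold 600

namespace Cfsg.Agent.H977.E83

open Matrix Cfsg.Lie
open Cfsg.Agent.H788.E83 (SL5 Lt Ax Ay At wx wy wt ev)
open Cfsg.Agent.H74.E83 Cfsg.Agent.H74.E83.Trit Cfsg.Agent.H74.E83.Code Cfsg.Agent.H74.E83.Elim
open Cfsg.Agent.H64.E83 (mx L3 er vec Ph eqv vec_eq)
open Cfsg.Agent.H738.E83 (vb)
open Cfsg.Agent.H751.Two.Word (sz pos posOK)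

/-! ### sums of packed matrices -/

/-- the sum of two packed matrices (248 rows) -/
noncomputable def addM (V W : ℕ) : ℕ := (List.range 248).foldr (fun i acc => put acc i (tadd (row V i) (row W i))) 0

theorem addM_aux {V W : ℕ} (hV : VldM V) (hW : VldM W) (l : List ℕ) :
    VldM (l.foldr (fun i acc => put acc i (tadd (row V i) (row W i))) 0) ∧
    ∀ i, row (l.foldr (fun i acc => put acc i (tadd (row V i) (row W i))) 0) i =
      if i ∈ l then tadd (row V i) (row W i) else 0 := by
  induction l with
  | nil => exact ⟨vldM_zero, fun i => by rw [List.foldr_nil, row_zero]; simp⟩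
  | cons a l ih =>
    obtain ⟨h1, h2⟩ := ih
    have ha := vld_add (hV a) (hW a)
    rw [List.foldr_cons]
    refine ⟨vldM_put h1 ha, fun i => ?_⟩
    rw [row_put ha.lt, h2]
    by_cases h : i = a
    · subst h; simp
    · simp [h]

theorem add_spec {V W : ℕ} (hV : VldM V) (hW : VldM W) : VldM (addM V W) ∧ ∀ j, col (addM V W) j = col V j + col W j := by
  refine ⟨(addM_aux hV hW _).1, fun j => ?_⟩
  have hj : j.val < 256 := by have := j.2; omega
  funext i
  rw [Pi.add_apply, col_apply, col_apply, col_apply]
  unfold addM
  rw [(addM_aux hV hW _).2, if_pos (List.mem_range.2 (pos_lt' i)), val_add (hV _) (hW _) hj]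

/-! ### data -/

/-- `w₅` -/
noncomputable def lw5 : List (ℕ × ℤ) :=
  (beta% delta% lq26cca11412 fun f h l _ _ _ _ _ _ _ _ _ _ _ _ _ _ _ _ _ _ _ _ _ _ _ _ _ =>
 (f (h 30 1)<|f (h 31 2)<|f (h 32 2)<|f (h 33 2)<|f (h 34 1)<|f (h 40 2)<|f (h 41 2)<|f (h 42 1)<|f (h 43 2)<|f (h 44 2)<|f (h 46 1)<|f (h 47 1)<|f (h 48 2)<|
 f (h 49 1)<|f (h 50 1)<|f (h 51 2)<|f (h 56 1)<|f (h 57 2)<|f (h 59 2)<|f (h 61 1)<|f (h 200 1)<|f (h 201 1)<|f (h 203 1)<|f (h 210 1)<|f (h 212 1)<|
 f (h 214 2)<|f (h 215 2)<|f (h 217 1)<|f (h 219 1)<|f (h 220 1)<|f (h 221 1)<|f (h 222 2)<|l))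

/-- `w₆` -/
def lw6 : List (ℕ × ℤ) := [(52, 1), (63, 1), (68, 1), (74, 1)]

/-- the columns `w₅`, `w₆` -/
noncomputable def V2 : ℕ := putL 0 lw5 (putL 1 lw6 0)

theorem vldM_V2 : VldM V2 := vldM_putL (by norm_num) _ (vldM_putL (by norm_num) _ vldM_zero)

theorem e0 : col V2 0 = vec lw5 := col_of (by decide +kernel)
theorem e1 : col V2 1 = vec lw6 := col_of (by decide +kernel)

/-- `Y` on packed matrices -/
noncomputable def yS (V : ℕ) : ℕ := addM V (wc TX wY (addM V (wc TX wY (addM V (wc TX wY (addM V (wc TX wY V)))))))

/-- `E₊` on packed matrices: `1 + x (1 + x² (1 + x (1 + x (1 + x⁴))))` -/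
noncomputable def xS (V : ℕ) : ℕ := (beta% delta% lq26cca11412 fun _ _ _ _ _ _ _ _ _ _ _ z D E _ _ _ _ _ _ _ _ _ _ _ _ _ _ =>
 addM V (z D E (addM V (z D E (z D E (addM V (z D E (addM V (z D E (addM V
 (z D E (z D E (z D E (z D E V))))))))))))))

/-- force twice -/
noncomputable def yS' (V : ℕ) (k : ℕ → Bool) : Bool :=
  (beta% delta% lq26cca11412 fun _ _ _ _ _ _ _ _ _ _ _ z D _ F _ H _ _ _ _ _ _ _ _ _ _ _ =>
 F V fun V => F (addM V (z D H V)) fun A => F (addM V (z D H A)) fun A => F (addM V (z D H A)) fun A =>
 F (addM V (z D H A)) k)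

theorem yS'_eq (V : ℕ) (k : ℕ → Bool) : yS' V k = k (yS V) := by
  unfold yS' yS; rw [frc_eq, frc_eq, frc_eq, frc_eq, frc_eq]

/-- force twice -/
noncomputable def xS' (V : ℕ) (k : ℕ → Bool) : Bool :=
  (beta% delta% lq26cca11412 fun _ _ _ _ _ _ _ _ _ _ _ z D E F _ _ _ _ _ _ _ _ _ _ _ _ _ =>
 F V fun V => F (z D E (z D E (z D E (z D E V)))) fun A => F (addM V A) fun A =>
 F (addM V (z D E A)) fun A => F (addM V (z D E A)) fun A => F (addM V (z D E (z D E A))) fun A =>
 F (addM V (z D E A)) k)

theorem xS'_eq (V : ℕ) (k : ℕ → Bool) : xS' V k = k (xS V) := by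
  unfold xS' xS; rw [frc_eq, frc_eq, frc_eq, frc_eq, frc_eq, frc_eq, frc_eq]

theorem chkP : (beta% delta% lq26cca11412 fun _ _ l _ _ _ _ _ _ _ _ z D E F _ _ I J _ _ _ _ _ _ _ _ S =>
 F V2 (fun V => F (z D E (z D E (z D S (z D E V)))) fun A => yS' A fun B => xS' B fun C =>
 I (J C) 0 l && I (J C) 1 l) :
 Bool) = true := by decide +kernel

/-! ### meaning -/

theorem mx_p (g : ↥(chevE8.group (ZMod 3))) (n : ℕ) (v : L3) :
    mx (g ^ (n + 1)) *ᵥ v = mx g *ᵥ (mx (g ^ n) *ᵥ v) := mx_pow g n v

theorem mx_p1 (g : ↥(chevE8.group (ZMod 3))) (v : L3) : mx (g ^ 1) *ᵥ v = mx g *ᵥ v := by rw [pow_one]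

/-- `Y v` -/
noncomputable def sY (v : L3) : L3 := v + mx (Ph Ay) *ᵥ v + mx (Ph Ay ^ 2) *ᵥ v + mx (Ph Ay ^ 3) *ᵥ v + mx (Ph Ay ^ 4) *ᵥ v

/-- `E₊ v` -/
noncomputable def sE (v : L3) : L3 := v + mx (Ph Ax) *ᵥ v + mx (Ph Ax ^ 3) *ᵥ v + mx (Ph Ax ^ 4) *ᵥ v + mx (Ph Ax ^ 5) *ᵥ v +
  mx (Ph Ax ^ 9) *ᵥ v

theorem yS_spec {V : ℕ} (hV : VldM V) : VldM (yS V) ∧ ∀ j, col (yS V) j = sY (col V j) := by
  obtain ⟨a1, b1⟩ := act_y hV
  obtain ⟨a2, b2⟩ := add_spec hV a1
  obtain ⟨a3, b3⟩ := act_y a2
  obtain ⟨a4, b4⟩ := add_spec hV a3
  obtain ⟨a5, b5⟩ := act_y a4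
  obtain ⟨a6, b6⟩ := add_spec hV a5
  obtain ⟨a7, b7⟩ := act_y a6
  obtain ⟨a8, b8⟩ := add_spec hV a7
  refine ⟨a8, fun j => ?_⟩
  unfold yS sY
  rw [b8, b7, b6, b5, b4, b3, b2, b1]
  simp only [mx_p _ 3, mx_p _ 2, mx_p _ 1, mx_p1, Matrix.mulVec_add]
  abel

theorem xS_spec {V : ℕ} (hV : VldM V) : VldM (xS V) ∧ ∀ j, col (xS V) j = sE (col V j) := by
  obtain ⟨a1, b1⟩ := act_x hV
  obtain ⟨a2, b2⟩ := act_x a1
  obtain ⟨a3, b3⟩ := act_x a2
  obtain ⟨a4, b4⟩ := act_x a3
  obtain ⟨a5, b5⟩ := add_spec hV a4
  obtain ⟨a6, b6⟩ := act_x a5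
  obtain ⟨a7, b7⟩ := add_spec hV a6
  obtain ⟨a8, b8⟩ := act_x a7
  obtain ⟨a9, b9⟩ := add_spec hV a8
  obtain ⟨a10, b10⟩ := act_x a9
  obtain ⟨a11, b11⟩ := act_x a10
  obtain ⟨a12, b12⟩ := add_spec hV a11
  obtain ⟨a13, b13⟩ := act_x a12
  obtain ⟨a14, b14⟩ := add_spec hV a13
  refine ⟨a14, fun j => ?_⟩
  unfold xS sE
  rw [b14, b13, b12, b11, b10, b9, b8, b7, b6, b5, b4, b3, b2, b1]
  simp only [mx_p _ 8, mx_p _ 7, mx_p _ 6, mx_p _ 5, mx_p _ 4, mx_p _ 3, mx_p _ 2, mx_p _ 1, mx_p1, Matrix.mulVec_add]
  abel

theorem lp_both : sE (sY (mx (Ph Ax) *ᵥ (mx (Ph Ax) *ᵥ (mx (Ph At) *ᵥ (mx (Ph Ax) *ᵥ vec lw5))))) = 0 ∧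
    sE (sY (mx (Ph Ax) *ᵥ (mx (Ph Ax) *ᵥ (mx (Ph At) *ᵥ (mx (Ph Ax) *ᵥ vec lw6))))) = 0 := by
  have h := chkP
  rw [frc_eq, frc_eq, yS'_eq, xS'_eq, Bool.and_eq_true] at h
  obtain ⟨a1, b1⟩ := act_x vldM_V2
  obtain ⟨a2, b2⟩ := act_t a1
  obtain ⟨a3, b3⟩ := act_x a2
  obtain ⟨a4, b4⟩ := act_x a3
  obtain ⟨a5, b5⟩ := yS_spec a4
  obtain ⟨a6, b6⟩ := xS_spec a5
  constructor
  · rw [← e0, ← b1, ← b2, ← b3, ← b4, ← b5, ← b6]
    exact col_of (l := []) h.1
  · rw [← e1, ← b1, ← b2, ← b3, ← b4, ← b5, ← b6]
    exact col_of (l := []) h.2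

/-- `E₊ Y x x t x w₅ = 0` -/
theorem lp5 : sE (sY (mx (Ph Ax) *ᵥ (mx (Ph Ax) *ᵥ (mx (Ph At) *ᵥ (mx (Ph Ax) *ᵥ vec lw5))))) = 0 := lp_both.1

/-- `E₊ Y x x t x w₆ = 0` -/
theorem lp6 : sE (sY (mx (Ph Ax) *ᵥ (mx (Ph Ax) *ᵥ (mx (Ph At) *ᵥ (mx (Ph Ax) *ᵥ vec lw6))))) = 0 := lp_both.2

end Cfsg.Agent.H977.E83
end

-- part: H732/E8T/Kmain
section
/-!
# S5925 box K: the main theorem (helper732)
-/

set_option autoImplicit false
set_option maxRecDepth 100000
set_option maxHeartbeats 60000

namespace Cfsg.Agent.H732.E8T

open Matrix Cfsg Cfsg.Lie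
open Cfsg.Agent.H837.E83.NM11
open Cfsg.Agent.H788.E83 (SL5 it Ax Ay At Ax_eq Ay_eq At_eq)
open Cfsg.Agent.H64.E83 (mx L3 er vec cf Ph E ac ac_one ac_mul ac_add ac_smul U1 stabW mem_stabW mem_U1 Ph_U1 i1 i1_add i1_smul i1_inj
  qII o1 act1' qII_eq x_qII vec_inl vec_inr)
open Cfsg.Agent.H738.E83 (br mx_br vb br_smul_right br_zero_left br_zero_right)
open Cfsg.Agent.H74.E83.Ker (nqs yso linM linP)
open Cfsg.Agent.H977.E83 (sE sY lp5 lp6 hvec lh1 lh2 lh3 lh4 ql r0 bh1 bh2 bh3 bh4 vec_h1 vec_h2 vec_h3 vec_h4)

theorem three_split {V : Type*} [AddCommGroup V] {w : V} (h : (3 : ℕ) • w = 0) : w + w = -w := by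
  rw [eq_neg_iff_add_eq_zero]
  have h1 : (2 + 1) • w = 0 := h
  rw [add_nsmul, two_nsmul, one_nsmul] at h1
  exact h1

theorem x1_Ph : Cfsg.Agent.H74.E83.Trip.x1 = Ph Ax := rfl

theorem y1_Ph : Cfsg.Agent.H74.E83.Trip.y1 = Ph Ay := rfl

theorem nqs_Ph (u : L3) : nqs u = mx (Ph Ax ^ 2) *ᵥ u + mx (Ph Ax ^ 6) *ᵥ u + mx (Ph Ax ^ 7) *ᵥ u + mx (Ph Ax ^ 8) *ᵥ u +
    mx (Ph Ax ^ 10) *ᵥ u := by
  unfold nqs
  rw [x1_Ph]

theorem yso_Ph (u : L3) : yso u = u + mx (Ph Ay) *ᵥ u + mx (Ph Ay ^ 2) *ᵥ u + mx (Ph Ay ^ 3) *ᵥ u + mx (Ph Ay ^ 4) *ᵥ u := by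
  unfold yso
  rw [y1_Ph]

theorem opN_eq {v : ℕ → E} (h : Inp v) (u : L3) : opN (Tv v) u = nqs u := by
  have e : ∀ i, act (Tv v) (List.replicate i 0) u = mx (Ph Ax ^ i) *ᵥ u := fun i => rep_eq v h.vx i u
  have e2 := e 2
  have e6 := e 6
  have e7 := e 7
  have e8 := e 8
  have e10 := e 10
  simp only [List.replicate] at e2 e6 e7 e8 e10
  unfold opN
  rw [nqs_Ph, e2, e6, e7, e8, e10]

theorem opY_eq {v : ℕ → E} (h : Inp v) (u : L3) : opY (Tv v) u = yso u := by
  have e : ∀ i, act (Tv v) (List.replicate i 1) u = mx (Ph Ay ^ i) *ᵥ u := fun i => by rw [act_rep, h.vy]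
  have e1 := e 1
  have e2 := e 2
  have e3 := e 3
  have e4 := e 4
  simp only [List.replicate, pow_one] at e1 e2 e3 e4
  unfold opY
  rw [yso_Ph, e1, e2, e3, e4]

theorem sY_eq (u : L3) : yso u = sY u := by
  rw [yso_Ph]
  unfold sY
  rfl

theorem opQ' {V : Type*} [AddCommGroup V] (T : ℕ → V →+ V) (v : V) : v + opQ T v = v + act T [0] v + act T [0, 0, 0] v +
    act T [0, 0, 0, 0] v + act T [0, 0, 0, 0, 0] v + act T [0, 0, 0, 0, 0, 0, 0, 0, 0] v := by
  unfold opQ
  simp only [add_assoc]

theorem sE_eq0 (u : L3) : sE u = u + mx (Ph Ax) *ᵥ u + mx (Ph Ax ^ 3) *ᵥ u +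
    mx (Ph Ax ^ 4) *ᵥ u + mx (Ph Ax ^ 5) *ᵥ u + mx (Ph Ax ^ 9) *ᵥ u := by
  unfold sE
  rfl

theorem opQ_eq {v : ℕ → E} (h : Inp v) (u : L3) : u + opQ (Tv v) u = sE u := by
  have e : ∀ i, act (Tv v) (List.replicate i 0) u = mx (Ph Ax ^ i) *ᵥ u := fun i => rep_eq v h.vx i u
  have e1 := e 1
  have e3 := e 3
  have e4 := e 4
  have e5 := e 5
  have e9 := e 9
  simp only [List.replicate, pow_one] at e1 e3 e4 e5 e9
  rw [opQ', e1, e3, e4, e5, e9, sE_eq0]

/-- `k = 1` is impossible -/
theorem no1 {v : ℕ → E} (h : Inp v) (hf : ac (v 3) qII = 1 • qII) : False := by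
  have hs := sys h hf
  have h1 := hs.w_y1
  have h2 := hs.w_N1
  have h3 := hs.w_t1
  have h4 := hs.w_q1
  generalize wv (Tv v) qII = w at h1 h2 h3 h4
  rw [opN_eq h] at h2
  rw [opY_eq h, opN_eq h] at h3
  rw [opQ_eq h, opY_eq h] at h4
  have e1 : act (Tv v) [1] w = mx (Ph Ay) *ᵥ w := by
    show Tv v 1 w = _
    rw [Tv_apply, h.vy]
  have e2 : act (Tv v) [2] w = mx (Ph At) *ᵥ w := by
    show Tv v 2 w = _
    rw [Tv_apply, h.vt]
  have e3 : act (Tv v) [0, 0, 2, 0] w = mx (Ph Ax) *ᵥ (mx (Ph Ax) *ᵥ (mx (Ph At) *ᵥ (mx (Ph Ax) *ᵥ w))) := by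
    show Tv v 0 (Tv v 0 (Tv v 2 (Tv v 0 w))) = _
    rw [Tv_apply, Tv_apply, Tv_apply, Tv_apply, h.vx, h.vt]
  rw [e1] at h1
  rw [e2] at h3
  rw [e3, sY_eq] at h4
  have hw3 : w + w = -w := three_split (three_L w)
  rw [hw3] at h3
  obtain ⟨c5, c6, hw⟩ := linP h1 h2 h3
  have hlin : ∀ (a b : ZMod 3) (p q : L3),
      sE (sY (mx (Ph Ax) *ᵥ (mx (Ph Ax) *ᵥ (mx (Ph At) *ᵥ (mx (Ph Ax) *ᵥ (a • p + b • q)))))) =
      a • sE (sY (mx (Ph Ax) *ᵥ (mx (Ph Ax) *ᵥ (mx (Ph At) *ᵥ (mx (Ph Ax) *ᵥ p))))) +
      b • sE (sY (mx (Ph Ax) *ᵥ (mx (Ph Ax) *ᵥ (mx (Ph At) *ᵥ (mx (Ph Ax) *ᵥ q))))) := by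
    intro a b p q
    have l1 : ∀ (a b : ZMod 3) (p q : L3), sY (a • p + b • q) = a • sY p + b • sY q := by
      intro a b p q
      unfold sY
      simp only [Matrix.mulVec_add, Matrix.mulVec_smul, smul_add]
      abel
    have l2 : ∀ (a b : ZMod 3) (p q : L3), sE (a • p + b • q) = a • sE p + b • sE q := by
      intro a b p q
      unfold sE
      simp only [Matrix.mulVec_add, Matrix.mulVec_smul, smul_add]
      abel
    simp only [Matrix.mulVec_add, Matrix.mulVec_smul, l1, l2]
  rw [hw, hlin] at h4
  have e5 : vec Cfsg.Agent.H74.E83.Ker.lw5 = vec Cfsg.Agent.H977.E83.lw5 := Cfsg.Agent.H64.E83.vec_eq (by decide +kernel)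
  have e6 : vec Cfsg.Agent.H74.E83.Ker.lw6 = vec Cfsg.Agent.H977.E83.lw6 := Cfsg.Agent.H64.E83.vec_eq (by decide +kernel)
  rw [e5, e6, lp5, lp6, smul_zero, smul_zero, add_zero] at h4
  have h5 : i1 (o1 0) = i1 0 := by rw [i1_zero, ← qII_eq, ← h4]
  have h6 := i1_inj h5
  exact absurd (congrFun h6 0) (by decide)

end Cfsg.Agent.H732.E8T
end

-- part: H732/E8T/Kform
section
/-!
# S5925 box K: the formula for `r = f x q` (helper732)
-/

set_option autoImplicit false
set_option maxRecDepth 100000
set_option maxHeartbeats 60000

namespace Cfsg.Agent.H732.E8T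

open Matrix Cfsg Cfsg.Lie
open Cfsg.Agent.H837.E83.NM11
open Cfsg.Agent.H788.E83 (SL5 it Ax Ay At Ax_eq Ay_eq At_eq)
open Cfsg.Agent.H64.E83 (mx L3 er vec vec_eq vec_smul vec_append fb cf Ph E ac ac_one ac_mul ac_add ac_smul U1 stabW mem_stabW mem_U1
  Ph_U1 i1 i1_add i1_smul i1_inj qII o1 act1' qII_eq x_qII vec_inl vec_inr)
open Cfsg.Agent.H738.E83 (br mx_br vb br_smul_right br_zero_left br_zero_right)
open Cfsg.Agent.H74.E83.Ker (nqs yso linM linP)
open Cfsg.Agent.H977.E83 (sE sY lp5 lp6 hvec lh1 lh2 lh3 lh4 ql r0 bh1 bh2 bh3 bh4 vec_h1 vec_h2 vec_h3 vec_h4 zl vb_zl)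

/-- `r₀` in `U1` -/
theorem r0_eq : i1 ![0, 2, 1, 2, 1] = vb r0 := by
  have h1 : i1 ![0, 2, 1, 2, 1] = vec (((fb 1).map fun q => (q.1, (2 : ℤ) * q.2)) ++ fb 2 ++
      ((fb 3).map fun q => (q.1, (2 : ℤ) * q.2)) ++ fb 4) := by
    rw [vec_append, vec_append, vec_append, vec_smul, vec_smul]
    show ∑ m, (![0, 2, 1, 2, 1] : Fin 5 → ZMod 3) m • vec (fb m) = _
    rw [Fin.sum_univ_five]
    show (0 : ZMod 3) • vec (fb 0) + (2 : ZMod 3) • vec (fb 1) + (1 : ZMod 3) • vec (fb 2) + (2 : ZMod 3) • vec (fb 3) +
      (1 : ZMod 3) • vec (fb 4) = _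
    rw [zero_smul, zero_add, one_smul, one_smul]
    rfl
  rw [h1, vb_zl]
  exact vec_eq (by decide +kernel)

theorem r0_mem : vb r0 ∈ U1 := mem_U1.2 ⟨_, r0_eq⟩

/-- the three words -/
noncomputable def F3 (w : L3) : L3 :=
  mx (Ph Ay) *ᵥ (mx (Ph Ax) *ᵥ (mx (Ph Ay) *ᵥ (mx (Ph At) *ᵥ (mx (Ph Ax) *ᵥ w)))) +
    mx (Ph Ax) *ᵥ (mx (Ph At) *ᵥ (mx (Ph Ay) *ᵥ (mx (Ph Ay) *ᵥ (mx (Ph Ax) *ᵥ w)))) +
    mx (Ph Ax) *ᵥ (mx (Ph Ay) *ᵥ (mx (Ph Ax) *ᵥ w))

theorem F3_lin (a b c d : ZMod 3) (p q r s : L3) : F3 (a • p + b • q + c • r + d • s) =
    a • F3 p + b • F3 q + c • F3 r + d • F3 s := by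
  unfold F3
  simp only [Matrix.mulVec_add, Matrix.mulVec_smul, smul_add]
  abel

theorem act5 {V : Type*} [AddCommGroup V] (T : ℕ → V →+ V) (a b c d e : ℕ) (w : V) :
    act T [a, b, c, d, e] w = T a (T b (T c (T d (T e w)))) := rfl

theorem act3 {V : Type*} [AddCommGroup V] (T : ℕ → V →+ V) (a b c : ℕ) (w : V) :
    act T [a, b, c] w = T a (T b (T c w)) := rfl

theorem act_F3 {v : ℕ → E} (h : Inp v) (w : L3) :
    act (Tv v) [1, 0, 1, 2, 0] w + act (Tv v) [0, 2, 1, 1, 0] w + act (Tv v) [0, 1, 0] w = F3 w := by
  have a0 : ∀ u, Tv v 0 u = mx (Ph Ax) *ᵥ u := fun u => by rw [Tv_apply, h.vx]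
  have a1 : ∀ u, Tv v 1 u = mx (Ph Ay) *ᵥ u := fun u => by rw [Tv_apply, h.vy]
  have a2 : ∀ u, Tv v 2 u = mx (Ph At) *ᵥ u := fun u => by rw [Tv_apply, h.vt]
  rw [act5, act5, act3, a0 w, a2, a1, a1, a0, a1, a0, a2, a1, a0]
  rfl

theorem o1_sum : (2 : ZMod 3) • o1 0 + o1 1 + o1 2 + (2 : ZMod 3) • o1 3 + o1 4 = ![0, 2, 1, 2, 1] := by decide +kernel

theorem act_r0 {v : ℕ → E} (h : Inp v) : 2 • qII + act (Tv v) [0] qII + act (Tv v) [0, 0] qII + 2 • act (Tv v) [0, 0, 0] qII +
    act (Tv v) [0, 0, 0, 0] qII = vb r0 := by
  have e : ∀ i, act (Tv v) (List.replicate i 0) qII = ac (Ph Ax ^ i) qII := fun i => rep_eq v h.vx i qII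
  have e1 := e 1
  have e2 := e 2
  have e3 := e 3
  have e4 := e 4
  simp only [List.replicate] at e1 e2 e3 e4
  rw [x_qII 1 (by norm_num)] at e1
  rw [x_qII 2 (by norm_num)] at e2
  rw [x_qII 3 (by norm_num)] at e3
  rw [x_qII 4 (by norm_num)] at e4
  rw [e1, e2, e3, e4, qII_eq, two_nsmul_L, two_nsmul_L, ← i1_smul, ← i1_smul, ← i1_add, ← i1_add, ← i1_add, ← i1_add, o1_sum,
    r0_eq]

theorem F3_of {a b : L3} (h : a = -(mx (Ph Ay) *ᵥ (mx (Ph Ax) *ᵥ (mx (Ph Ay) *ᵥ (mx (Ph At) *ᵥ (mx (Ph Ax) *ᵥ b))))) -
      mx (Ph Ax) *ᵥ (mx (Ph At) *ᵥ (mx (Ph Ay) *ᵥ (mx (Ph Ay) *ᵥ (mx (Ph Ax) *ᵥ b)))) -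
      mx (Ph Ax) *ᵥ (mx (Ph Ay) *ᵥ (mx (Ph Ax) *ᵥ b))) : F3 b = -a := by
  rw [h]
  unfold F3
  generalize mx (Ph Ay) *ᵥ (mx (Ph Ax) *ᵥ (mx (Ph Ay) *ᵥ (mx (Ph At) *ᵥ (mx (Ph Ax) *ᵥ b)))) = A
  generalize mx (Ph Ax) *ᵥ (mx (Ph At) *ᵥ (mx (Ph Ay) *ᵥ (mx (Ph Ay) *ᵥ (mx (Ph Ax) *ᵥ b)))) = B
  generalize mx (Ph Ax) *ᵥ (mx (Ph Ay) *ᵥ (mx (Ph Ax) *ᵥ b)) = C
  abel

theorem eq_lw1 : vec Cfsg.Agent.H74.E83.Ker.lw1 = vec Cfsg.Agent.H977.E83.lw1 := vec_eq (by decide +kernel)
theorem eq_lw2 : vec Cfsg.Agent.H74.E83.Ker.lw2 = vec Cfsg.Agent.H977.E83.lw2 := vec_eq (by decide +kernel)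
theorem eq_lw3 : vec Cfsg.Agent.H74.E83.Ker.lw3 = vec Cfsg.Agent.H977.E83.lw3 := vec_eq (by decide +kernel)
theorem eq_lw4 : vec Cfsg.Agent.H74.E83.Ker.lw4 = vec Cfsg.Agent.H977.E83.lw4 := vec_eq (by decide +kernel)

theorem F3_1 : F3 (vec Cfsg.Agent.H74.E83.Ker.lw1) = -vb bh1 := by rw [eq_lw1, ← vec_h1]; exact F3_of hvec.1
theorem F3_2 : F3 (vec Cfsg.Agent.H74.E83.Ker.lw2) = -vb bh2 := by rw [eq_lw2, ← vec_h2]; exact F3_of hvec.2.1
theorem F3_3 : F3 (vec Cfsg.Agent.H74.E83.Ker.lw3) = -vb bh3 := by rw [eq_lw3, ← vec_h3]; exact F3_of hvec.2.2.1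
theorem F3_4 : F3 (vec Cfsg.Agent.H74.E83.Ker.lw4) = -vb bh4 := by rw [eq_lw4, ← vec_h4]; exact F3_of hvec.2.2.2

theorem alg4 {V : Type*} [AddCommGroup V] [Module (ZMod 3) V] (c1 c2 c3 c4 : ZMod 3) (r a b c d : V) :
    r + (c1 • -a + c2 • -b + c3 • -c + c4 • -d) = r + (-c1) • a + (-c2) • b + (-c3) • c + (-c4) • d := by
  simp only [smul_neg, neg_smul]
  abel

/-- **the formula** -/
theorem r_form {v : ℕ → E} (h : Inp v) (hf : ac (v 3) qII = 2 • qII) : ∃ z1 z2 z3 z4 : ZMod 3,
    ac (v 3) (ac (Ph Ax) qII) = vb r0 + z1 • vb bh1 + z2 • vb bh2 + z3 • vb bh3 + z4 • vb bh4 := by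
  have hs := sys h hf
  have h1 := hs.w_y2
  have h2 := hs.w_N2
  have h3 := hs.w_t2
  have h4 := hs.r_eq2
  generalize wv (Tv v) qII = w at h1 h2 h3 h4
  have a1 : ∀ u, act (Tv v) [1] u = mx (Ph Ay) *ᵥ u := fun u => by rw [act_cons, act_nil, Tv_apply, h.vy]
  have a2 : ∀ u, act (Tv v) [2] u = mx (Ph At) *ᵥ u := fun u => by rw [act_cons, act_nil, Tv_apply, h.vt]
  have a3 : act (Tv v) [3, 0] qII = ac (v 3) (ac (Ph Ax) qII) := by
    rw [act_cons, act_cons, act_nil, Tv_apply, Tv_apply, h.vx]
  rw [opN_eq h] at h2
  rw [opY_eq h, opN_eq h, a2] at h3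
  rw [a1] at h1
  obtain ⟨c1, c2, c3, c4, hw⟩ := linM h1 h2 h3
  rw [a3, act_F3 h, act_r0 h, hw, F3_lin, F3_1, F3_2, F3_3, F3_4, alg4] at h4
  exact ⟨_, _, _, _, h4⟩

end Cfsg.Agent.H732.E8T
end

private theorem dce_8367ed90a847 : _root_.True := by
  try have : _root_.True := by simp only [_root_.Cfsg.Agent.H74.E83.Ker.combo.eq_1]
  try have : _root_.True := by simp only [_root_.Cfsg.Agent.H74.E83.Ker.combo.eq_def]
  try have : _root_.True := by simp only [_root_.Cfsg.Agent.H74.E83.Ker.combo.eq_2]
  exact _root_.True.intro
end
end
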