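import Cfsg.Agent.H738.E83.Cube_mg
import Cfsg.Agent.H65.E8L.Chk_m3
import Cfsg.Agent.H732.E8T.Kform
import Cfsg.Agent.H791.E8L.Rel2_m3
import Cfsg.Agent.H238.E8.Frame
import Cfsg.Agent.H971.RV.Lie_m3
import Cfsg.Agent.FastGrp
import Cfsg.Agent.Prune
set_option linter.all false

-- part: H732/E8T/K
section
set_option linter.all false
open scoped Cfsg.Agent.FastGrp

-- part: H455/E83/FixAc
section
/-!
# The lines `⟨q_I⟩`, `⟨q_II⟩` (helper455, S5925, box L)

`line_I`, `line_II` : a vector of the fixed space of `A_I` (`A_II`) with vanishing cube is a multiple of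
`q_I` (`q_II`); hence `m11_lineI`, `m11_lineII` (an element of type `Afa`, `Afb` keeps the line) and
`pgl_line` (an element of type `h` moves `⟨q_I⟩` onto `⟨q_II⟩`).
-/

set_option autoImplicit false

namespace Cfsg.Agent.H455.E83

open Matrix Cfsg Cfsg.Lie
open Cfsg.Agent.H64.E83 (L3 mx vec Ph er ac E ac_mul ac_one ac_inv_ac ac_ac_inv ac_smul vec_eq stabW U4 U1)
open Cfsg.Agent.H788.E83 (Ax Ay At)
open Cfsg.Agent.H738.E83 (cu wI wI' wII wII' vb cube_I cube_II ncube_I ncube_II mx_cu cu_smul)

/-! ### the same vectors -/

theorem vb_wII : vb wII = qII := vec_eq (by decide +kernel)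

theorem vb_wII' : vb wII' = qII' := vec_eq (by decide +kernel)

theorem qII_H64 : Cfsg.Agent.H64.E83.qII = qII := by
  unfold Cfsg.Agent.H64.E83.qII Cfsg.Agent.H64.E83.i1
  rw [Fin.sum_univ_five]
  show (1 : ZMod 3) • _ + (0 : ZMod 3) • _ + (0 : ZMod 3) • _ + (0 : ZMod 3) • _ + (2 : ZMod 3) • _ = _
  have h2 : (2 : ZMod 3) = ((2 : ℤ) : ZMod 3) := rfl
  rw [one_smul, zero_smul, zero_smul, zero_smul, add_zero, add_zero, add_zero, h2,
    ← Cfsg.Agent.H64.E83.vec_smul, ← Cfsg.Agent.H64.E83.vec_append]
  exact vec_eq (by decide +kernel)

/-! ### the lines -/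

theorem cu_ac (g : E) {v : L3} (h : ∀ u, cu v u = 0) (u : L3) : cu (ac g v) u = 0 := by
  have h1 := mx_cu g v (ac g⁻¹ u)
  rw [h, Matrix.mulVec_zero] at h1
  have h2 : ac g (ac g⁻¹ u) = u := ac_ac_inv g u
  have h3 : cu (ac g v) (ac g (ac g⁻¹ u)) = 0 := h1.symm
  rwa [h2] at h3

theorem cu_qII (u : L3) : cu Cfsg.Agent.H64.E83.qII u = 0 := by rw [qII_H64, ← vb_wII]; exact cube_II u

/-- **the line of `A_II`** -/
theorem line_II {v : L3} (hc : ∀ u, cu v u = 0)
    (h : ac (Ph Ay) v = v ∧ ac (Ph At) v = v ∧ ac (Ph At) (ac (Ph Ax)⁻¹ v) = ac (Ph Ax)⁻¹ v) :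
    ∃ c : ZMod 3, v = c • Cfsg.Agent.H64.E83.qII := by
  have h3 := h.2.2
  rw [← map_inv] at h3
  obtain ⟨c, d, hv⟩ := fixII v h.1 h.2.1 h3
  refine ⟨c, ?_⟩
  by_cases hd : d = 0
  · rw [hv, hd, zero_smul, add_zero, qII_H64]
  · refine absurd (hc (er 0)) ?_
    rw [hv, ← vb_wII, ← vb_wII']
    exact ncube_II hd

/-- **`M₁₁`, case II**: `f q_II ∈ ⟨q_II⟩` -/
theorem m11_lineII {f : E} (hy : f * Ph Ay * f⁻¹ = Ph Ay ^ 2) (ht : f * f = Ph At)
    (hb : f * (Ph Ax * Ph At * (Ph Ax)⁻¹) * f⁻¹ = Ph Ay * (Ph Ax * Ph At * (Ph Ax)⁻¹) * Ph At * Ph Ay ^ 2) :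
    ∃ c : ZMod 3, ac f Cfsg.Agent.H64.E83.qII = c • Cfsg.Agent.H64.E83.qII :=
  line_II (cu_ac f cu_qII) (Cfsg.Agent.H64.E83.m11_fixII hy ht hb)

/-- a scalar of an element moving a nonzero vector is not zero -/
theorem ne_zero_of_ac {f : E} {c : ZMod 3} {q q' : L3} (hq : q ≠ 0) (h : ac f q = c • q') : c ≠ 0 := by
  rintro rfl
  rw [zero_smul] at h
  have h1 := ac_inv_ac f q
  rw [h] at h1
  exact hq (h1.symm.trans (Matrix.mulVec_zero _))

/-- `f q = c q`, `c = 1` or `c = -1` -/
theorem sign_of_ac {f : E} {c : ZMod 3} {q q' : L3} (hq : q ≠ 0) (h : ac f q = c • q') : c = 1 ∨ c = -1 := by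
  have key : ∀ c : ZMod 3, c ≠ 0 → c = 1 ∨ c = -1 := by decide
  exact key c (ne_zero_of_ac hq h)

end Cfsg.Agent.H455.E83
end

-- part: H732/E8T/Bk
section
/-!
# S5925 box K: every `f` with the relations of `M11` over the explicit `L₂(11)` stabilises `U1` (helper732)
-/

set_option autoImplicit false
set_option maxRecDepth 100000
set_option maxHeartbeats 60000

namespace Cfsg.Agent.H732.E8T

open Matrix Cfsg Cfsg.Lie
open Cfsg.Agent.H837.E83.NM11
open Cfsg.Agent.H788.E83 (SL5 it Ax Ay At Ax_eq Ay_eq At_eq)
open Cfsg.Agent.H64.E83 (mx L3 er vec vec_eq cf Ph E ac ac_one ac_mul ac_add ac_smul ac_inv_ac U1 stabW mem_stabW mem_U1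
  Ph_U1 i1 i1_add i1_smul i1_inj qII o1 act1' qII_eq x_qII vec_inl vec_inr)
open Cfsg.Agent.H738.E83 (br mx_br vb br_smul_right br_smul_left br_zero_left br_zero_right)
open Cfsg.Agent.H977.E83 (lh1 lh2 lh3 lh4 ql r0 bh1 bh2 bh3 bh4 zl vb_zl)

/-! ### letters -/

/-- the letters -/
noncomputable def vf (f : E) : ℕ → E
  | 0 => Ph Ax
  | 1 => Ph Ay
  | 2 => Ph At
  | 3 => f
  | _ => 1

theorem vf_three (f : E) : vf f 3 = f := rfl

theorem ev_ge (n : ℕ) (hn : 4 ≤ n) {i : ℕ} (hi : i < 12) : ap n i = i := by
  obtain ⟨m, rfl⟩ := Nat.exists_eq_add_of_le' hn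
  have h : ∀ i : Fin 12, ap 4 i = i := by decide +kernel
  exact h ⟨i, hi⟩

/-- the letters `< 4` -/
def w4 : List ℕ → List (Fin 4)
  | [] => []
  | n :: w => if h : n < 4 then ⟨n, h⟩ :: w4 w else w4 w

theorem ev_w4 (w : List ℕ) {i : ℕ} (hi : i < 12) : ev ((w4 w).map Fin.val) i = ev w i := by
  induction w with
  | nil => rfl
  | cons n w ih =>
    unfold w4
    split
    · show ap n (ev ((w4 w).map Fin.val) i) = ap n (ev w i)
      rw [ih]
    · rename_i h
      rw [ih]
      show _ = ap n (ev w i)
      rw [ev_ge n (not_lt.1 h) (ev_lt w hi)]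

theorem prod_w4 (f : E) (w : List ℕ) : ((w4 w).map ![Ph Ax, Ph Ay, Ph At, f]).prod = (w.map (vf f)).prod := by
  induction w with
  | nil => rfl
  | cons n w ih =>
    unfold w4
    split
    · rename_i h
      rw [List.map_cons, List.prod_cons, ih, List.map_cons, List.prod_cons]
      congr 1
      interval_cases n <;> rfl
    · rename_i h
      rw [ih, List.map_cons, List.prod_cons]
      obtain ⟨m, rfl⟩ := Nat.exists_eq_add_of_le' (not_lt.1 h)
      have e1 : vf f (m + 4) = 1 := rfl
      rw [e1, one_mul]

theorem inp_of {f : E} (h : ∀ w w' : List (Fin 4), eqP4 w w' = true →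
    (w.map ![Ph Ax, Ph Ay, Ph At, f]).prod = (w'.map ![Ph Ax, Ph Ay, Ph At, f]).prod) : Inp (vf f) where
  rel := by
    intro w w' hw
    rw [← prod_w4, ← prod_w4]
    refine h _ _ ?_
    unfold eqP4 eqP at *
    refine List.all_eq_true.2 fun i hi => ?_
    have h1 := List.all_eq_true.1 hw i hi
    rw [ev_w4 w (List.mem_range.1 hi), ev_w4 w' (List.mem_range.1 hi)]
    exact h1
  vx := rfl
  vy := rfl
  vt := rfl

/-! ### `f q = ± q` -/

theorem x11 : Ph Ax ^ 11 = 1 := by rw [← map_pow, Cfsg.Agent.H788.E83.x_pow, map_one]

theorem x_inv : (Ph Ax)⁻¹ = Ph Ax ^ 10 := by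
  rw [inv_eq_iff_mul_eq_one, ← pow_succ', x11]

theorem f_qII {v : ℕ → E} (h : Inp v) : ∃ c : ZMod 3, ac (v 3) qII = c • qII := by
  have r1 : v 3 * v 1 = v 1 * (v 1 * v 3) := by
    simpa using h.rel [3, 1] [1, 1, 3] (by decide +kernel)
  have r2 : v 3 * v 3 = v 2 := by
    simpa using h.rel [3, 3] [2] (by decide +kernel)
  have r3 : v 3 * (v 0 * (v 2 * v 0 ^ 10)) = v 1 * (v 0 * (v 2 * (v 0 ^ 10 * (v 2 * (v 1 * (v 1 * v 3)))))) := by
    have h1 := h.rel (3 :: 0 :: 2 :: List.replicate 10 0) (1 :: 0 :: 2 :: (List.replicate 10 0 ++ [2, 1, 1, 3]))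
      (by decide +kernel)
    rw [List.map_cons, List.map_cons, List.map_cons, List.map_replicate, List.prod_cons, List.prod_cons, List.prod_cons,
      List.prod_replicate, List.map_cons, List.map_cons, List.map_cons, List.map_append, List.map_replicate, List.prod_cons,
      List.prod_cons, List.prod_cons, List.prod_append, List.prod_replicate] at h1
    rw [h1]
    simp only [List.map_cons, List.map_nil, List.prod_cons, List.prod_nil, mul_one]
  rw [h.vy] at r1
  rw [h.vt] at r2
  rw [h.vx, h.vy, h.vt] at r3
  refine Cfsg.Agent.H455.E83.m11_lineII ?_ r2 ?_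
  · rw [r1, pow_two]
    group
  · rw [x_inv]
    have e1 : v 3 * (Ph Ax * Ph At * Ph Ax ^ 10) = v 3 * (Ph Ax * (Ph At * Ph Ax ^ 10)) := by rw [mul_assoc]
    rw [e1, r3, pow_two]
    simp only [mul_assoc, mul_inv_cancel, mul_one]

theorem qII_ne : qII ≠ 0 := by
  intro h
  have h5 : i1 (o1 0) = i1 0 := by rw [i1_zero, ← qII_eq, h]
  exact absurd (congrFun (i1_inj h5) 0) (by decide)

theorem neg_eq_two (u : L3) : (-1 : ZMod 3) • u = (2 : ℕ) • u := by
  rw [two_nsmul_L]
  rfl

theorem ql_eq : vb ql = qII := by
  rw [Cfsg.Agent.H455.E83.qII_H64, ← Cfsg.Agent.H455.E83.vb_wII]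
  exact vec_eq (by decide +kernel)

/-! ### the main theorem -/

/-- the second derivation of adjacent arcs -/
theorem e1_of {v : ℕ → E} (h : Inp v) (hf : ac (v 3) qII = 2 • qII)
    (hC : br (vb ql) (br (vb ql) (mx (Ph Ax ^ 10) *ᵥ vb ql)) = 0) :
    br (ac (v 3) (ac (Ph Ax) qII)) (br (ac (v 3) (ac (Ph Ax) qII)) (vb ql)) = 0 := by
  have hs := sys h hf
  have h1 := hs.fx_q10
  have e0 : ∀ u, act (Tv v) [3, 0] u = ac (v 3) (ac (Ph Ax) u) := fun u => by
    rw [act_cons, act_cons, act_nil, Tv_apply, Tv_apply, h.vx]
  rw [rep_eq v h.vx, e0] at h1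
  rw [ql_eq] at hC ⊢
  have h2 : mx (v 3) *ᵥ (mx (Ph Ax) *ᵥ br qII (br qII (mx (Ph Ax ^ 10) *ᵥ qII))) = 0 := by
    rw [hC, Matrix.mulVec_zero, Matrix.mulVec_zero]
  rw [mx_br, mx_br, mx_br, mx_br] at h2
  have h3 : mx (v 3) *ᵥ (mx (Ph Ax) *ᵥ (mx (Ph Ax ^ 10) *ᵥ qII)) = (2 : ZMod 3) • qII := by
    rw [← two_nsmul_L]
    exact h1
  rw [h3, br_smul_right, br_smul_right] at h2
  have h4 : (2 : ZMod 3) • ((2 : ZMod 3) • br (mx (v 3) *ᵥ (mx (Ph Ax) *ᵥ qII)) (br (mx (v 3) *ᵥ (mx (Ph Ax) *ᵥ qII)) qII)) = 0 := by
    rw [h2, smul_zero]
  rw [smul_smul, show (2 : ZMod 3) * 2 = 1 from by decide, one_smul] at h4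
  exact h4

theorem e2_of {v : ℕ → E} (h : Inp v) (hf : ac (v 3) qII = 2 • qII) {r : L3} (hr : r = ac (v 3) (ac (Ph Ax) qII))
    (he : br (mx (Ph Ax) *ᵥ vb ql) (mx (Ph Ax) *ᵥ (mx (Ph At) *ᵥ (mx (Ph Ay) *ᵥ r)) - mx (Ph Ax ^ 9) *ᵥ vb ql) = 0) :
    br r (mx (Ph Ay) *ᵥ (mx (Ph Ax) *ᵥ (mx (Ph Ax) *ᵥ r)) - mx (Ph At) *ᵥ r) = 0 := by
  have hs := sys h hf
  have t1 := hs.tri1
  have t2 := hs.tri2
  have a0 : ∀ u, Tv v 0 u = mx (Ph Ax) *ᵥ u := fun u => by rw [Tv_apply, h.vx]
  have a1 : ∀ u, Tv v 1 u = mx (Ph Ay) *ᵥ u := fun u => by rw [Tv_apply, h.vy]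
  have a2 : ∀ u, Tv v 2 u = mx (Ph At) *ᵥ u := fun u => by rw [Tv_apply, h.vt]
  have a3 : ∀ u, Tv v 3 u = mx (v 3) *ᵥ u := fun u => by rw [Tv_apply]
  have er : act (Tv v) [3, 0] qII = r := by rw [hr, act_cons, act_cons, act_nil, Tv_apply, Tv_apply, h.vx]
  rw [er] at t1 t2
  rw [act_cons, act_cons, act_cons, act_cons, act_nil, act3, a3, a0, a2, a1, a1, a0, a0] at t1
  rw [act_cons, act_nil, act_cons, act_nil, rep_eq v h.vx, a3, a2] at t2
  rw [ql_eq] at he
  have h2 : mx (v 3) *ᵥ br (mx (Ph Ax) *ᵥ qII)
      (mx (Ph Ax) *ᵥ (mx (Ph At) *ᵥ (mx (Ph Ay) *ᵥ r)) - mx (Ph Ax ^ 9) *ᵥ qII) = 0 := by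
    rw [he, Matrix.mulVec_zero]
  rw [mx_br, Matrix.mulVec_sub, t1, t2] at h2
  have h3 : mx (v 3) *ᵥ (mx (Ph Ax) *ᵥ qII) = r := hr.symm
  rw [h3] at h2
  exact h2

/-- **box K** -/
theorem stab_of (hC : br (vb ql) (br (vb ql) (mx (Ph Ax ^ 10) *ᵥ vb ql)) = 0)
    (hcand : ∀ (z1 z2 z3 z4 : ZMod 3) (r : L3),
      r = vb r0 + z1 • vb bh1 + z2 • vb bh2 + z3 • vb bh3 + z4 • vb bh4 →
      br r (br r (vb ql)) = 0 →
      (br (mx (Ph Ax) *ᵥ vb ql) (mx (Ph Ax) *ᵥ (mx (Ph At) *ᵥ (mx (Ph Ay) *ᵥ r)) - mx (Ph Ax ^ 9) *ᵥ vb ql) = 0 →
        br r (mx (Ph Ay) *ᵥ (mx (Ph Ax) *ᵥ (mx (Ph Ax) *ᵥ r)) - mx (Ph At) *ᵥ r) = 0) →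
      r = vb r0)
    {v : ℕ → E} (h : Inp v) : v 3 ∈ stabW U1 := by
  obtain ⟨c, hc⟩ := f_qII h
  rcases Cfsg.Agent.H455.E83.sign_of_ac qII_ne hc with rfl | rfl
  · exfalso
    rw [one_smul] at hc
    exact no1 h (by rw [hc, one_nsmul])
  · rw [neg_eq_two] at hc
    have h0 := r_form h hc
    have h2 := e1_of h hc hC
    have h3 := end_of h hc
    have h4 := fun (r : L3) (hr : r = ac (v 3) (ac (Ph Ax) qII)) => e2_of h hc hr
    generalize ac (v 3) (ac (Ph Ax) qII) = r at h0 h2 h3 h4
    obtain ⟨z1, z2, z3, z4, hr⟩ := h0
    have h1 := hcand z1 z2 z3 z4 r hr h2 (h4 r rfl)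
    rw [h1] at h3
    exact h3 r0_mem

/-- **box K in the form of helper977** -/
theorem bk_of (hC : br (vb ql) (br (vb ql) (mx (Ph Ax ^ 10) *ᵥ vb ql)) = 0)
    (hcand : ∀ (z1 z2 z3 z4 : ZMod 3) (r : L3),
      r = vb r0 + z1 • vb bh1 + z2 • vb bh2 + z3 • vb bh3 + z4 • vb bh4 →
      br r (br r (vb ql)) = 0 →
      (br (mx (Ph Ax) *ᵥ vb ql) (mx (Ph Ax) *ᵥ (mx (Ph At) *ᵥ (mx (Ph Ay) *ᵥ r)) - mx (Ph Ax ^ 9) *ᵥ vb ql) = 0 →
        br r (mx (Ph Ay) *ᵥ (mx (Ph Ax) *ᵥ (mx (Ph Ax) *ᵥ r)) - mx (Ph At) *ᵥ r) = 0) →
      r = vb r0) (f : E) (h : ∀ w w' : List (Fin 4), eqP4 w w' = true →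
    (w.map ![Ph Ax, Ph Ay, Ph At, f]).prod = (w'.map ![Ph Ax, Ph Ay, Ph At, f]).prod) : f ∈ stabW U1 := by
  have h1 := stab_of hC hcand (v := vf f) (inp_of h)
  rw [vf_three] at h1
  exact h1

end Cfsg.Agent.H732.E8T
end

-- part: H977/E83/N1
section
/-!
# S5925, box K: the elimination of the candidates, first part (helper977)

`n1` : `r = r₀ + z₁ h₁ + z₂ h₂ + z₃ h₃ + z₄ h₄` with `[r, [r, q]] = 0` has `z₁ = z₃ = z₄ = 0`.
-/

set_option autoImplicit false
set_option maxRecDepth 100000
set_option exponentiation.threshold 600

namespace Cfsg.Agent.H977.E83.Cand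

open Matrix Cfsg Cfsg.Lie
open Cfsg.Agent.ChevalleyStructure.JacTab Cfsg.Agent.ChevalleyStructure.JacMain
  Cfsg.Agent.ChevalleyStructure.JacDataE8 Cfsg.Agent.ChevalleyStructure.JacBridge
open Cfsg.Agent.H788.E83 (SL5 Lt Ax Ay At)
open Cfsg.Agent.H64.E83 (mx L3 er vec Ph)
open Cfsg.Agent.H738.E83
open Cfsg.Agent.H977.E83 (ql u0 r0 bh1 bh2 bh3 bh4 tr0 th2 yxxr0 yxxh2 y_q t_q xty_u0' t_r0 t_h2 yxx_r0 yxx_h2)

/-! ### symbolic columns -/

/-- the state of `v j • vb w` -/
def vsj (j : ℕ) (w : List (ℕ × Bool)) : St :=
  List.rec (motive := fun _ => St) st0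
    (fun l _ ih => ad3 (pt (Bool.rec (motive := fun _ => St) (0, Nat.shiftLeft 1 j) (Nat.shiftLeft 1 j, 0) l.2) l.1) ih) w

theorem vsj_cons (j : ℕ) (l : ℕ × Bool) (w : List (ℕ × Bool)) :
    vsj j (l :: w) = ad3 (pt (if l.2 = true then (1 <<< j, 0) else Cfsg.Agent.H738.E83.ng (1 <<< j, 0)) l.1) (vsj j w) := by
  obtain ⟨r, c⟩ := l
  cases c <;> rfl

theorem fv_one {j : ℕ} (hj : j < 248) (v : ℕ → ZMod 3) : fv (1 <<< j, 0) v = v j := by
  unfold fv
  rw [Finset.sum_eq_single j]
  · rw [vl_one, if_pos rfl, one_mul]
  · intro i _ hi
    rw [vl_one, if_neg hi, zero_mul]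
  · intro h
    exact absurd (Finset.mem_range.2 hj) h

theorem sem_ptj {r j : ℕ} (hr : r < 240) (hj : j < 248) (v : ℕ → ZMod 3) : Sem (pt (1 <<< j, 0) r) v (v j • er r) := by
  refine ⟨(pr_one j).pt r, fun x => ?_⟩
  rw [cv_pt (fun i hi => by rw [vl_one, if_neg (by omega)]), fv_one hj, Pi.smul_apply, smul_eq_mul]
  rcases x with i | s
  · show _ = v j * (0 : ZMod 3)
    have hk : ky (Sum.inl i) = chevE8.nroots + i.val := rfl
    rw [hk, nr, if_neg (by omega), mul_zero]
  · show _ = v j * (if s.val = r then (1 : ZMod 3) else 0)
    have hk : ky (Sum.inr s) = s.val := rfl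
    rw [hk]
    by_cases h : s.val = r
    · rw [if_pos h, if_pos h, mul_one]
    · rw [if_neg h, if_neg h, mul_zero]

theorem ng_pt (f : St) (k : ℕ) : Cfsg.Agent.H738.E83.ng (pt f k) = pt (Cfsg.Agent.H738.E83.ng f) k := by
  obtain ⟨a, b⟩ := f
  show Cfsg.Agent.H738.E83.ng (pt (a, b) k) = pt (b, a) k
  rw [pt_eq, pt_eq]; rfl

theorem sem_vsj {j : ℕ} (hj : j < 248) {w : List (ℕ × Bool)} (hw : okw w = true) (v : ℕ → ZMod 3) :
    Sem (vsj j w) v (v j • vb w) := by
  induction w with
  | nil =>
    have : vb [] = 0 := rfl
    rw [this, smul_zero]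
    exact sem_zero v
  | cons l w ih =>
    unfold okw at hw
    rw [List.all_cons, Bool.and_eq_true] at hw
    have hr : l.1 < 240 := Nat.le_of_ble_eq_true hw.1
    have ih' := ih hw.2
    rw [vsj_cons, vb_cons, smul_add]
    refine Sem.ad3 ?_ ih'
    by_cases hl : l.2 = true
    · rw [if_pos hl, if_pos hl]; exact sem_ptj hr hj v
    · rw [if_neg hl, if_neg hl, ← ng_pt, smul_neg]
      exact (sem_ptj hr hj v).ng

/-! ### the polynomial condition -/

/-- the lists `r₀`, `h₁`, …, `h₄` -/
def hl : ℕ → List (ℕ × Bool)
  | 0 => r0
  | 1 => bh1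
  | 2 => bh2
  | 3 => bh3
  | _ => bh4

theorem hl_ok : ∀ i : Fin 5, okw (hl i.val) = true := by decide +kernel

/-- the coefficients -/
def vv (z1 z2 z3 z4 : ZMod 3) : ℕ → ZMod 3
  | 0 => 1
  | 1 => z1
  | 2 => z2
  | 3 => z3
  | 4 => z4
  | _ => 0

/-- `∑ v i • h_i` -/
noncomputable def rr (v : ℕ → ZMod 3) : L3 :=
  v 0 • vb (hl 0) + (v 1 • vb (hl 1) + (v 2 • vb (hl 2) + (v 3 • vb (hl 3) + v 4 • vb (hl 4))))

/-! ### a cheaper evaluation of the brackets -/

/-- the bracket, columns of the list `L` only -/
private def brkL (R : Row) (S : St) (L : List ℕ) : St :=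
  List.rec (motive := fun _ => St) st0 (fun z _ ih => stp S z (rbr R z) ih) L

private theorem brkL_cons (R : Row) (S : St) (z : ℕ) (L : List ℕ) :
    brkL R S (z :: L) = stp S z (rbr R z) (brkL R S L) := rfl

private theorem pr_brkL (R : Row) {S : St} (hS : Pr S) (L : List ℕ) : Pr (brkL R S L) := by
  induction L with
  | nil => exact pr_st0
  | cons z L ih => rw [brkL_cons]; exact pr_stp hS ih z _

private theorem cv_brkL (R : Row) {S : St} (hS : Pr S) (v : ℕ → ZMod 3) (i : ℕ) (L : List ℕ) :
    cv (brkL R S L) v i = (L.map fun z => (ce (rbr R z) i : ZMod 3) * cv S v z).sum := by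
  induction L with
  | nil => exact cv_st0 v i
  | cons z L ih => rw [brkL_cons, cv_stp hS (pr_brkL R hS L), ih, List.map_cons, List.sum_cons]

/-- the support of `q` -/
private def qs : List ℕ := [14, 127, 133, 140, 165, 171, 176, 187]

/-- the rows outside the support vanish -/
private def zq (S : St) : Bool := (List.range 248).all fun z => qs.elem z || isz (gt S z)

private theorem cv_brkq (r : ℕ) {S : St} (hS : Pr S) (hz : zq S = true) (v : ℕ → ZMod 3) (i : ℕ) :
    cv (brkL (rowAt rows r) S qs) v i = cv (brk rows r S) v i := by
  rw [cv_brkL _ hS, cv_brk hS, ← List.sum_toFinset _ (show qs.Nodup by decide)]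
  refine Finset.sum_subset (fun z hz => ?_) (fun z h1 h2 => ?_)
  · have h : ∀ z ∈ qs, z < 248 := by decide
    exact Finset.mem_range.2 (h z (List.mem_toFinset.1 hz))
  · have h3 := List.all_eq_true.1 hz z (List.mem_range.2 (Finset.mem_range.1 h1))
    rcases Bool.or_eq_true_iff.1 h3 with h4 | h4
    · exact absurd (List.mem_toFinset.2 (List.mem_of_elem_eq_true h4)) h2
    · have h5 : cv S v z = 0 := by
        rw [← fv_gt, eq_of_isz h4]
        exact Finset.sum_eq_zero fun j _ => by rw [vl_st0, zero_mul]
      rw [h5, mul_zero]

/-- a signed sum of states -/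
private def aws (B : ℕ → St) (w : List (ℕ × Bool)) : St :=
  List.rec (motive := fun _ => St) st0
    (fun l _ ih => ad3 (Bool.rec (motive := fun _ => St) (Cfsg.Agent.H738.E83.ng (B l.1)) (B l.1) l.2) ih) w

private theorem aws_cons (B : ℕ → St) (l : ℕ × Bool) (w : List (ℕ × Bool)) :
    aws B (l :: w) = ad3 (if l.2 = true then B l.1 else Cfsg.Agent.H738.E83.ng (B l.1)) (aws B w) := by
  obtain ⟨r, c⟩ := l
  cases c <;> rfl

private theorem pr_aw {S : St} (hS : Pr S) (w : List (ℕ × Bool)) : Pr (aw rows w S) := by
  induction w with
  | nil => rw [aw_nil]; exact pr_st0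
  | cons l w ih =>
    rw [aw_cons]
    refine Pr.ad3 ?_ ih
    split_ifs
    · exact hS.brk _ _
    · exact (hS.brk _ _).ng

private theorem aws_spec {B : ℕ → St} {S : St} (hS : Pr S) (hB : ∀ r, Pr (B r)) (v : ℕ → ZMod 3) (i : ℕ)
    (h : ∀ r, cv (B r) v i = cv (brk rows r S) v i) (w : List (ℕ × Bool)) :
    Pr (aws B w) ∧ cv (aws B w) v i = cv (aw rows w S) v i := by
  induction w with
  | nil => rw [aw_nil]; exact ⟨pr_st0, rfl⟩
  | cons l w ih =>
    rw [aws_cons, aw_cons]
    split_ifs
    · exact ⟨(hB _).ad3 ih.1, by rw [cv_ad3 (hB _) ih.1, cv_ad3 (hS.brk _ _) (pr_aw hS w), ih.2, h]⟩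
    · exact ⟨(hB _).ng.ad3 ih.1, by
        rw [cv_ad3 (hB _).ng ih.1, cv_ad3 (hS.brk _ _).ng (pr_aw hS w), ih.2, cv_ng, cv_ng, h]⟩

/-- the operator on a state supported on the rows of `q` -/
private def awq (w : List (ℕ × Bool)) (S : St) : St :=
  match S with
  | (p, n) => Cfsg.Agent.H738.E83.frc p fun p => Cfsg.Agent.H738.E83.frc n fun n => aws (fun r => brkL (rowAt rows r) (p, n) qs) w

private theorem awq_eq (w : List (ℕ × Bool)) (S : St) : awq w S = aws (fun r => brkL (rowAt rows r) S qs) w := by
  obtain ⟨p, n⟩ := S
  exact (Cfsg.Agent.H738.E83.frc_eq p fun p => Cfsg.Agent.H738.E83.frc n fun n =>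
    aws (fun r => brkL (rowAt rows r) (p, n) qs) w).trans (Cfsg.Agent.H738.E83.frc_eq n _)

private theorem sem_awq {S : St} {v : ℕ → ZMod 3} {u : L3} (h : Sem S v u) (hz : zq S = true) {w : List (ℕ × Bool)}
    (hw : okw w = true) : Sem (awq w S) v (br (vb w) u) := by
  rw [awq_eq]
  have key := fun i => aws_spec (B := fun r => brkL (rowAt rows r) S qs) h.1 (fun r => pr_brkL _ h.1 _) v i
    (fun r => cv_brkq r h.1 hz v i) w
  exact ⟨(key 0).1, fun x => ((key _).2).trans ((h.aw hw).2 x)⟩

/-- the three rows which are used -/
private def tg (k : ℕ) : Bool := Nat.beq (Nat.land (Nat.shiftRight 8796093284416 k) 1) 1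

private def flt (l : List (ℕ × ℤ)) : List (ℕ × ℤ) :=
  List.rec (motive := fun _ => List (ℕ × ℤ)) []
    (fun e _ ih => Bool.rec (motive := fun _ => List (ℕ × ℤ)) ih (e :: ih) (tg e.1)) l

private theorem ce_flt {k : ℕ} (hk : tg k = true) (l : List (ℕ × ℤ)) : ce (flt l) k = ce l k := by
  induction l with
  | nil => rfl
  | cons e l ih =>
    have e1 : flt (e :: l) = Bool.rec (motive := fun _ => List (ℕ × ℤ)) (flt l) (e :: flt l) (tg e.1) := rfl
    rw [e1, ce_cons]
    cases h : tg e.1
    · show ce (flt l) k = _
      rw [ih, if_neg, zero_add]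
      rintro rfl
      rw [h] at hk
      exact Bool.false_ne_true hk
    · show ce (e :: flt l) k = _
      rw [ce_cons, ih]

/-- the bracket, three rows only -/
private def brkF (R : Row) (S : St) (n : ℕ) : St :=
  Nat.rec (motive := fun _ => St) st0 (fun z ih => stp S z (flt (rbr R z)) ih) n

private theorem brkF_succ (R : Row) (S : St) (n : ℕ) : brkF R S (n + 1) = stp S n (flt (rbr R n)) (brkF R S n) := rfl

private theorem pr_brkF (R : Row) {S : St} (hS : Pr S) (n : ℕ) : Pr (brkF R S n) := by
  induction n with
  | zero => exact pr_st0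
  | succ n ih => rw [brkF_succ]; exact pr_stp hS ih n _

private theorem cv_brkF (R : Row) {S : St} (hS : Pr S) (v : ℕ → ZMod 3) {k : ℕ} (hk : tg k = true) (n : ℕ) :
    cv (brkF R S n) v k = cv (brkN R S n) v k := by
  induction n with
  | zero => rfl
  | succ n ih => rw [brkF_succ, brkN_succ, cv_stp hS (pr_brkF R hS n), cv_stp hS (pr_brkN R hS n), ih, ce_flt hk]

private def brkG (r : ℕ) (S : St) : St :=
  match rowAt rows r with
  | ⟨a, h⟩ => brkF ⟨a, h⟩ S 248

private theorem brkG_eq (r : ℕ) (S : St) : brkG r S = brkF (rowAt rows r) S 248 := rfl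

/-- the operator, three rows only -/
private def awF (w : List (ℕ × Bool)) (S : St) : St := aws (fun r => brkG r S) w

private theorem awF_spec {S : St} (hS : Pr S) (v : ℕ → ZMod 3) {k : ℕ} (hk : tg k = true) (w : List (ℕ × Bool)) :
    Pr (awF w S) ∧ cv (awF w S) v k = cv (aw rows w S) v k :=
  aws_spec (B := fun r => brkG r S) hS (fun r => by rw [brkG_eq]; exact pr_brkF _ hS _) v k
    (fun r => by rw [brkG_eq, brk_eq]; exact cv_brkF _ hS v hk _) w

/-- the state of `[r, q]` -/
private def S1 : St :=
  ad3 (awq (hl 0) (vsj 0 ql)) (ad3 (awq (hl 1) (vsj 1 ql)) (ad3 (awq (hl 2) (vsj 2 ql))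
    (ad3 (awq (hl 3) (vsj 3 ql)) (awq (hl 4) (vsj 4 ql)))))

private theorem zq_ok : ∀ i : Fin 5, zq (vsj i.val ql) = true := by decide +kernel

theorem okq : okw ql = true := by decide +kernel

theorem aw_s {S : St} {v : ℕ → ZMod 3} {u : L3} (h : Sem S v u) (i : Fin 5) :
    Sem (aw rows (hl i.val) S) v (br (vb (hl i.val)) u) := h.aw (hl_ok i)

private theorem sem_S1 (v : ℕ → ZMod 3) : Sem S1 v (br (rr v) (vb ql)) := by
  have e : ∀ i : ℕ, br (v i • vb (hl i)) (vb ql) = br (vb (hl i)) (v i • vb ql) := fun i => by
    rw [br_smul_left, br_smul_right]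
  unfold rr
  rw [br_add_left, br_add_left, br_add_left, br_add_left, e, e, e, e, e]
  have k := fun i : Fin 5 => sem_awq (sem_vsj (j := i.val) (by omega) okq v) (zq_ok i) (hl_ok i)
  exact (k 0).ad3 ((k 1).ad3 ((k 2).ad3 ((k 3).ad3 (k 4))))

/-- the trit as a natural number -/
def tri (S : St) (b : ℕ) : ℕ := bif Nat.testBit S.1 b then 1 else bif Nat.testBit S.2 b then 2 else 0

theorem vl_tri {S : St} (hS : Pr S) (b : ℕ) : vl S b = (tri S b : ZMod 3) := by
  have h := hS b
  unfold vl tri bt
  revert h
  cases S.1.testBit b <;> cases S.2.testBit b <;> decide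

/-- a row evaluated at `z` -/
def rv (S : St) (k : ℕ) (z : ℕ → ℕ) : ℕ :=
  z 0 * tri S (248 * k) + (z 1 * tri S (248 * k + 1) + (z 2 * tri S (248 * k + 2) + (z 3 * tri S (248 * k + 3) +
    z 4 * tri S (248 * k + 4))))

theorem rv_eq {S : St} (hS : Pr S) (k : ℕ) (z : ℕ → ℕ) {v : ℕ → ZMod 3} (hz : ∀ i < 5, (z i : ZMod 3) = v i)
    (hv : ∀ i, 5 ≤ i → v i = 0) : cv S v k = (rv S k z : ZMod 3) := by
  unfold cv rv
  rw [← Finset.sum_subset (s₁ := Finset.range 5) (s₂ := Finset.range 248)]
  · rw [Finset.sum_range_succ, Finset.sum_range_succ, Finset.sum_range_succ, Finset.sum_range_succ, Finset.sum_range_one,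
      ← hz 0 (by norm_num), ← hz 1 (by norm_num), ← hz 2 (by norm_num), ← hz 3 (by norm_num), ← hz 4 (by norm_num),
      vl_tri hS, vl_tri hS, vl_tri hS, vl_tri hS, vl_tri hS]
    push_cast
    ring_nf
  · intro i hi
    rw [Finset.mem_range] at hi ⊢
    omega
  · intro i _ hi
    rw [Finset.mem_range] at hi
    rw [hv i (by omega), mul_zero]

/-- the value of the polynomial at the position `k` -/
def pol (T0 T1 T2 T3 T4 : St) (k : ℕ) (z : ℕ → ℕ) : ℕ :=
  z 0 * rv T0 k z + (z 1 * rv T1 k z + (z 2 * rv T2 k z + (z 3 * rv T3 k z + z 4 * rv T4 k z)))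

/-- coefficients as natural numbers -/
def zz (a b c d : ℕ) : ℕ → ℕ
  | 0 => 1
  | 1 => a
  | 2 => b
  | 3 => c
  | 4 => d
  | _ => 0

/-- the test for one `z` -/
def tst (T0 T1 T2 T3 T4 : St) (a b c d : ℕ) : Bool :=
  (Nat.beq a 0 && Nat.beq c 0 && Nat.beq d 0) ||
    !(Nat.beq (pol T0 T1 T2 T3 T4 6 (zz a b c d) % 3) 0) || !(Nat.beq (pol T0 T1 T2 T3 T4 18 (zz a b c d) % 3) 0) ||
    !(Nat.beq (pol T0 T1 T2 T3 T4 43 (zz a b c d) % 3) 0)

/-- force a state -/
def fst (S : St) (k : St → Bool) : Bool :=
  match S with
  | (p, n) => frc p fun p => frc n fun n => k (p, n)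

theorem fst_eq (S : St) (k : St → Bool) : fst S k = k S := by
  obtain ⟨p, n⟩ := S
  unfold fst
  simp only [frc_eq]

/-- the whole test -/
private def chk : Bool :=
  fst S1 fun S => fst (awF (hl 0) S) fun T0 => fst (awF (hl 1) S) fun T1 => fst (awF (hl 2) S) fun T2 =>
    fst (awF (hl 3) S) fun T3 => fst (awF (hl 4) S) fun T4 =>
      (List.range 3).all fun a => (List.range 3).all fun b => (List.range 3).all fun c => (List.range 3).all fun d =>
        tst T0 T1 T2 T3 T4 a b c d

private theorem chk_ok : chk = true := by decide +kernel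

private theorem chk_spec (a b c d : ℕ) (ha : a < 3) (hb : b < 3) (hc : c < 3) (hd : d < 3) :
    tst (awF (hl 0) S1) (awF (hl 1) S1) (awF (hl 2) S1) (awF (hl 3) S1) (awF (hl 4) S1) a b c d = true := by
  have h := chk_ok
  unfold chk at h
  rw [fst_eq, fst_eq, fst_eq, fst_eq, fst_eq, fst_eq, List.all_eq_true] at h
  have h1 := h a (List.mem_range.2 ha)
  rw [List.all_eq_true] at h1
  have h2 := h1 b (List.mem_range.2 hb)
  rw [List.all_eq_true] at h2
  have h3 := h2 c (List.mem_range.2 hc)
  rw [List.all_eq_true] at h3
  exact h3 d (List.mem_range.2 hd)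

theorem exists_coord {k : ℕ} (hk : k < 240) : ∃ x : chevE8.Idx, ky x = k :=
  ⟨Sum.inr ⟨k, by rw [nr]; exact hk⟩, rfl⟩

/-- the polynomial is the coordinate of `[r, [r, q]]` -/
private theorem pol_eq (z : ℕ → ℕ) {v : ℕ → ZMod 3} (hz : ∀ i < 5, (z i : ZMod 3) = v i) (hv : ∀ i, 5 ≤ i → v i = 0) {k : ℕ}
    {x : chevE8.Idx} (hx : ky x = k) (hk : tg k = true) :
    br (rr v) (br (rr v) (vb ql)) x =
      (pol (awF (hl 0) S1) (awF (hl 1) S1) (awF (hl 2) S1) (awF (hl 3) S1) (awF (hl 4) S1) k z : ZMod 3) := by
  have key : ∀ i : Fin 5, br (vb (hl i.val)) (br (rr v) (vb ql)) x = (rv (awF (hl i.val) S1) k z : ZMod 3) := by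
    intro i
    have h := aw_s (sem_S1 v) i
    have h' := awF_spec (sem_S1 v).1 v hk (hl i.val)
    rw [← h.2 x, hx, ← h'.2]
    exact rv_eq h'.1 k z hz hv
  obtain ⟨u, hu⟩ : ∃ u, u = br (rr v) (vb ql) := ⟨_, rfl⟩
  rw [← hu] at key ⊢
  unfold rr
  rw [br_add_left, br_add_left, br_add_left, br_add_left, br_smul_left, br_smul_left, br_smul_left, br_smul_left,
    br_smul_left]
  simp only [Pi.add_apply, Pi.smul_apply, smul_eq_mul]
  have k0 := key 0
  have k1 := key 1
  have k2 := key 2
  have k3 := key 3
  have k4 := key 4
  have e0 : ((0 : Fin 5) : ℕ) = 0 := rfl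
  have e1 : ((1 : Fin 5) : ℕ) = 1 := rfl
  have e2 : ((2 : Fin 5) : ℕ) = 2 := rfl
  have e3 : ((3 : Fin 5) : ℕ) = 3 := rfl
  have e4 : ((4 : Fin 5) : ℕ) = 4 := rfl
  rw [e0] at k0
  rw [e1] at k1
  rw [e2] at k2
  rw [e3] at k3
  rw [e4] at k4
  rw [k0, k1, k2, k3, k4, ← hz 0 (by norm_num), ← hz 1 (by norm_num), ← hz 2 (by norm_num), ← hz 3 (by norm_num),
    ← hz 4 (by norm_num)]
  unfold pol
  push_cast
  rfl

theorem zmod_rep (z : ZMod 3) : ∃ n : ℕ, n < 3 ∧ (n : ZMod 3) = z := ⟨z.val, ZMod.val_lt z, ZMod.natCast_zmod_val z⟩

theorem rr_vv (z1 z2 z3 z4 : ZMod 3) :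
    rr (vv z1 z2 z3 z4) = vb r0 + z1 • vb bh1 + z2 • vb bh2 + z3 • vb bh3 + z4 • vb bh4 := by
  show (1 : ZMod 3) • vb r0 + (z1 • vb bh1 + (z2 • vb bh2 + (z3 • vb bh3 + z4 • vb bh4))) = _
  rw [one_smul]
  abel

/-- **(N1)** -/
theorem n1 (z1 z2 z3 z4 : ZMod 3) {r : L3}
    (hr : r = vb r0 + z1 • vb bh1 + z2 • vb bh2 + z3 • vb bh3 + z4 • vb bh4) (h : br r (br r (vb ql)) = 0) :
    z1 = 0 ∧ z3 = 0 ∧ z4 = 0 := by
  rw [← rr_vv] at hr
  subst hr
  obtain ⟨a, ha, rfl⟩ := zmod_rep z1
  obtain ⟨b, hb, rfl⟩ := zmod_rep z2
  obtain ⟨c, hc, rfl⟩ := zmod_rep z3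
  obtain ⟨d, hd, rfl⟩ := zmod_rep z4
  have h1 := chk_spec a b c d ha hb hc hd
  have hz : ∀ i < 5, ((zz a b c d i : ℕ) : ZMod 3) = vv a b c d i := by
    intro i hi
    interval_cases i
    · exact Nat.cast_one
    · rfl
    · rfl
    · rfl
    · rfl
  have hv : ∀ i, 5 ≤ i → vv (a : ZMod 3) b c d i = 0 := by
    intro i hi
    obtain ⟨j, rfl⟩ := Nat.exists_eq_add_of_le' hi
    rfl
  have hp : ∀ k < 240, tg k = true → pol (awF (hl 0) S1) (awF (hl 1) S1) (awF (hl 2) S1) (awF (hl 3) S1)
      (awF (hl 4) S1) k (zz a b c d) % 3 = 0 := by
    intro k hk hk'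
    obtain ⟨x, hx⟩ := exists_coord hk
    have h2 := pol_eq (zz a b c d) hz hv hx hk'
    rw [h] at h2
    have h3 : ((pol (awF (hl 0) S1) (awF (hl 1) S1) (awF (hl 2) S1) (awF (hl 3) S1)
      (awF (hl 4) S1) k (zz a b c d) : ℕ) : ZMod 3) = 0 := h2.symm
    exact Nat.mod_eq_zero_of_dvd ((ZMod.natCast_eq_zero_iff _ 3).1 h3)
  unfold tst at h1
  rw [hp 6 (by norm_num) (by decide), hp 18 (by norm_num) (by decide), hp 43 (by norm_num) (by decide)] at h1
  simp only [Bool.or_eq_true, Bool.and_eq_true, Bool.not_eq_true', Nat.beq_refl] at h1
  rcases h1 with ((h1 | h1) | h1) | h1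
  · obtain ⟨⟨e1, e2⟩, e3⟩ := h1
    rw [Nat.eq_of_beq_eq_true e1, Nat.eq_of_beq_eq_true e2, Nat.eq_of_beq_eq_true e3]
    exact ⟨Nat.cast_zero, Nat.cast_zero, Nat.cast_zero⟩
  · exact absurd h1 (by simp)
  · exact absurd h1 (by simp)
  · exact absurd h1 (by simp)

end Cfsg.Agent.H977.E83.Cand
end

-- part: H977/E83/N2
section
/-!
# S5925, box K: the elimination of the candidates, second part and base (helper977)

`n2` : `r = r₀ + z h₂` with (e2) has `z = 0`; `base` : `[q, [q, x¹⁰ q]] = 0`.
-/

set_option autoImplicit false
set_option maxRecDepth 100000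
set_option exponentiation.threshold 600

namespace Cfsg.Agent.H977.E83.Cand

open Matrix Cfsg Cfsg.Lie
open Cfsg.Agent.ChevalleyStructure.JacTab Cfsg.Agent.ChevalleyStructure.JacMain
  Cfsg.Agent.ChevalleyStructure.JacDataE8 Cfsg.Agent.ChevalleyStructure.JacBridge
open Cfsg.Agent.H788.E83 (SL5 Lt Ax Ay At wx)
open Cfsg.Agent.H64.E83 (mx L3 er vec Ph vec_eq)
open Cfsg.Agent.H738.E83
open Cfsg.Agent.H74.E83 (wX)
open Cfsg.Agent.H977.E83 (ql u0 r0 bh2 tr0 th2 yxxr0 yxxh2 y_q t_q xty_u0' t_r0 t_h2 yxx_r0 yxx_h2 zl vb_zl mx_pow act_x
  act_y act_t col col_of V1 vldM_V1 d0 x9 okF)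

/-- `[q, r₀ - u₀] = 0` -/
theorem q_r0u0 : br (vb ql) (vb r0 - vb u0) = 0 := by
  have h := ((sem_vs (w := r0) (by decide +kernel)).ad3 (sem_vs (w := u0) (by decide +kernel)).ng).aw (w := ql)
    (by decide +kernel)
  rw [← sub_eq_add_neg] at h
  exact h.eq_zero (by decide +kernel)

/-- `[q, h₂] = 0` -/
theorem q_h2 : br (vb ql) (vb bh2) = 0 :=
  ((sem_vs (w := bh2) (by decide +kernel)).aw (w := ql) (by decide +kernel)).eq_zero (by decide +kernel)

/-- `y x x r₀ - t r₀` -/
def a0 : List (ℕ × Bool) := [(14, true), (15, true), (16, true), (21, true), (126, false), (127, false), (131, false),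
  (133, true), (137, false), (140, false), (144, true), (145, true), (149, false), (151, true), (154, false), (155, false)]

/-- `y x x h₂ - t h₂` -/
def a2 : List (ℕ × Bool) := [(18, false), (19, true), (22, true), (23, true), (25, true), (26, true), (28, true),
  (29, true), (37, true), (38, false), (156, true), (157, true), (159, false), (160, true), (161, true), (178, false),
  (179, false), (181, false), (188, true), (190, false), (192, false), (195, true), (196, true), (199, false),
  (207, true), (208, true), (209, true)]

theorem vb_sub {a b c : List (ℕ × Bool)} (h : Cfsg.Agent.H64.E83.eqv (zl b ++ zl c) (zl a) = true) : vb a - vb b = vb c := by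
  have h1 := vec_eq h
  rw [Cfsg.Agent.H64.E83.vec_append, ← vb_zl, ← vb_zl, ← vb_zl] at h1
  rw [← h1]
  abel

theorem a0_eq : vb yxxr0 - vb tr0 = vb a0 := vb_sub (by decide +kernel)

theorem a2_eq : vb yxxh2 - vb th2 = vb a2 := vb_sub (by decide +kernel)

/-- `[r₀, a₀] = 0` -/
theorem r0_a0 : br (vb r0) (vb a0) = 0 :=
  ((sem_vs (w := a0) (by decide +kernel)).aw (w := r0) (by decide +kernel)).eq_zero (by decide +kernel)

/-- `[r₀, a₂] + [h₂, a₀] = 0` -/
theorem r0_a2 : br (vb r0) (vb a2) + br (vb bh2) (vb a0) = 0 :=
  (((sem_vs (w := a2) (by decide +kernel)).aw (w := r0) (by decide +kernel)).ad3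
    ((sem_vs (w := a0) (by decide +kernel)).aw (w := bh2) (by decide +kernel))).eq_zero (by decide +kernel)

/-- `[h₂, a₂] ≠ 0` -/
theorem h2_a2 : br (vb bh2) (vb a2) ≠ 0 :=
  ((sem_vs (w := a2) (by decide +kernel)).aw (w := bh2) (by decide +kernel)).ne_zero (by decide +kernel)

/-- **(N2)** -/
theorem n2 (z : ZMod 3) {r : L3} (hr : r = vb r0 + z • vb bh2)
    (e2 : br (mx (Ph Ax) *ᵥ vb ql) (mx (Ph Ax) *ᵥ (mx (Ph At) *ᵥ (mx (Ph Ay) *ᵥ r)) - mx (Ph Ax ^ 9) *ᵥ vb ql) = 0 →
      br r (mx (Ph Ay) *ᵥ (mx (Ph Ax) *ᵥ (mx (Ph Ax) *ᵥ r)) - mx (Ph At) *ᵥ r) = 0) : z = 0 := by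
  have h1 : br (mx (Ph Ax) *ᵥ vb ql) (mx (Ph Ax) *ᵥ (mx (Ph At) *ᵥ (mx (Ph Ay) *ᵥ r)) - mx (Ph Ax ^ 9) *ᵥ vb ql) = 0 := by
    have e : mx (Ph Ax) *ᵥ vb ql = mx (Ph Ax) *ᵥ (mx (Ph At) *ᵥ (mx (Ph Ay) *ᵥ vb ql)) := by rw [y_q, t_q]
    rw [← xty_u0', e, ← Matrix.mulVec_sub, ← Matrix.mulVec_sub, ← Matrix.mulVec_sub, ← mx_br, ← mx_br, ← mx_br]
    have h2 : r - vb u0 = (vb r0 - vb u0) + z • vb bh2 := by rw [hr]; abel
    rw [h2, br_add_right, br_smul_right, q_r0u0, q_h2, smul_zero, add_zero, Matrix.mulVec_zero, Matrix.mulVec_zero,
      Matrix.mulVec_zero]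
  have h2 := e2 h1
  have h3 : mx (Ph Ay) *ᵥ (mx (Ph Ax) *ᵥ (mx (Ph Ax) *ᵥ r)) - mx (Ph At) *ᵥ r = vb a0 + z • vb a2 := by
    rw [hr]
    simp only [Matrix.mulVec_add, Matrix.mulVec_smul]
    rw [yxx_r0, yxx_h2, t_r0, t_h2, ← a0_eq, ← a2_eq, smul_sub]
    abel
  rw [h3, hr] at h2
  simp only [br_add_left, br_add_right, br_smul_left, br_smul_right] at h2
  have h4 : br (vb r0) (vb a2) = -br (vb bh2) (vb a0) := eq_neg_of_add_eq_zero_left r0_a2
  rw [r0_a0, h4] at h2
  have h5 : (z * z) • br (vb bh2) (vb a2) = 0 := by
    rw [← h2]
    module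
  by_contra hz
  rcases smul_eq_zero.1 h5 with h6 | h6
  · exact hz (mul_self_eq_zero.1 h6)
  · exact h2_a2 h6

/-! ### the base -/

/-- `x¹⁰ q` -/
def x10q : List (ℕ × Bool) := [(187, true), (165, true), (176, true), (171, true), (21, true), (137, false), (154, false),
  (149, false), (155, false), (131, false), (16, true), (144, true), (140, true), (14, false), (133, false), (127, true)]

open Cfsg.Agent.H74.E83.Code Cfsg.Agent.H74.E83 in
theorem chk10 : Cfsg.Agent.H977.E83.frc V1 (fun V => Cfsg.Agent.H977.E83.frc (wc TX wX (x9 V)) fun A =>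
    okF (Cfsg.Agent.H74.E83.Code.row A) 0 (zl x10q)) = true := by decide +kernel

/-- `x¹⁰ q` -/
theorem x10_q : mx (Ph Ax ^ 10) *ᵥ vb ql = vb x10q := by
  have h := chk10
  rw [Cfsg.Agent.H977.E83.frc_eq, Cfsg.Agent.H977.E83.frc_eq] at h
  obtain ⟨w1, f1⟩ := act_x vldM_V1
  obtain ⟨w2, f2⟩ := act_x w1
  obtain ⟨w3, f3⟩ := act_x w2
  obtain ⟨w4, f4⟩ := act_x w3
  obtain ⟨w5, f5⟩ := act_x w4
  obtain ⟨w6, f6⟩ := act_x w5
  obtain ⟨w7, f7⟩ := act_x w6
  obtain ⟨w8, f8⟩ := act_x w7
  obtain ⟨w9, f9⟩ := act_x w8
  obtain ⟨w10, f10⟩ := act_x w9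
  rw [mx_pow, mx_pow, mx_pow, mx_pow, mx_pow, mx_pow, mx_pow, mx_pow, mx_pow, pow_one, ← d0, ← f1, ← f2, ← f3, ← f4, ← f5,
    ← f6, ← f7, ← f8, ← f9, ← f10]
  exact col_of h

/-- **(C)** -/
theorem base : br (vb ql) (br (vb ql) (mx (Ph Ax ^ 10) *ᵥ vb ql)) = 0 := by
  rw [x10_q]
  exact (((sem_vs (w := x10q) (by decide +kernel)).aw (w := ql) (by decide +kernel)).aw (w := ql)
    (by decide +kernel)).eq_zero (by decide +kernel)

end Cfsg.Agent.H977.E83.Cand
end

-- part: H977/E83/Cand
section
/-!
# S5925, box K: the candidates (helper977)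

`cand` : (B), `base` (in N2) : (C).
-/

set_option autoImplicit false

namespace Cfsg.Agent.H977.E83.Cand

open Matrix Cfsg Cfsg.Lie
open Cfsg.Agent.H788.E83 (Ax Ay At)
open Cfsg.Agent.H64.E83 (mx L3 vec Ph)
open Cfsg.Agent.H738.E83
open Cfsg.Agent.H977.E83 (ql r0 bh1 bh2 bh3 bh4)

/-- **(B)** -/
theorem cand (z1 z2 z3 z4 : ZMod 3) (r : L3)
    (hr : r = vb r0 + z1 • vb bh1 + z2 • vb bh2 + z3 • vb bh3 + z4 • vb bh4) (e1 : br r (br r (vb ql)) = 0)
    (e2 : br (mx (Ph Ax) *ᵥ vb ql) (mx (Ph Ax) *ᵥ (mx (Ph At) *ᵥ (mx (Ph Ay) *ᵥ r)) - mx (Ph Ax ^ 9) *ᵥ vb ql) = 0 →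
      br r (mx (Ph Ay) *ᵥ (mx (Ph Ax) *ᵥ (mx (Ph Ax) *ᵥ r)) - mx (Ph At) *ᵥ r) = 0) : r = vb r0 := by
  obtain ⟨h1, h3, h4⟩ := n1 z1 z2 z3 z4 hr e1
  subst h1 h3 h4
  have hr' : r = vb r0 + z2 • vb bh2 := by
    rw [hr, zero_smul, zero_smul, zero_smul, add_zero, add_zero, add_zero]
  have h2 := n2 z2 hr' e2
  rw [hr', h2, zero_smul, add_zero]

end Cfsg.Agent.H977.E83.Cand
end

-- part: H732/E8T/K
section
/-!
# S5925 box K (helper732): the final statement
-/

set_option autoImplicit false

namespace Cfsg.Agent.H732.E8T

open Cfsg.Agent.H837.E83.NM11 (eqP4)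
open Cfsg.Agent.H788.E83 (Ax Ay At)
open Cfsg.Agent.H64.E83 (E Ph stabW U1)

/-- **box K**: an `f` with the relations of `M₁₁` over the explicit `L₂(11)` stabilises `U1` -/
theorem bk (f : E) (h : ∀ w w' : List (Fin 4), eqP4 w w' = true →
    (w.map ![Ph Ax, Ph Ay, Ph At, f]).prod = (w'.map ![Ph Ax, Ph Ay, Ph At, f]).prod) : f ∈ stabW U1 :=
  bk_of Cfsg.Agent.H977.E83.Cand.base Cfsg.Agent.H977.E83.Cand.cand f h

end Cfsg.Agent.H732.E8T
end

private theorem dce_635f3a70bc71 : _root_.True := by
  try have : _root_.True := by simp only [_root_.Cfsg.Agent.H732.E8T.w4.eq_def]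
  exact _root_.True.intro
end

-- part: H908/P9/Run/R00
section
set_option linter.all false

/-! # S5925, box H: the digit vectors of the masks, part 0 -/

set_option autoImplicit false
set_option Elab.async false
set_option maxRecDepth 100000

namespace Cfsg.Agent.H908.P9.Run
open Cfsg.Agent.H728.PM Cfsg.Agent.H136.P9

def m4a : ℕ := nat_lit 0x4000000000002000000000000000000000000000000000000000000000000000000000000400000000000000000000000000000000000000000000000000000000200000000000000000000000000000000000000000000000000000000000000000004000000000000000000000000000000000000000000000000000100000000000000000000000000000000000000000000000000000000200100020000000000000000000000000000000000000000000000000000000000020000000000000000000000000000000000000000000000000000000400040000000001000000000000000000000000000000000000000000000000000000000000000000000000000000000000000000000000000000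
theorem t4a : rng plan m4a = true := by decide +kernel
def m4b : ℕ := nat_lit 0x400000000020000000000000000000000000000000000000000000000000000000000000000000000000000000000000000000000000000000000000200000000008000000000000000000000000000000000000000000000000000000000000000000000000000000000000000000000000000000000000000080000000000080000000000000000000000000000000000000000000000040008010000000000000000000000000000000000000000000000000000000000000000080000000000000000000000000000000000000000000000000000200000000010000000000000000000000000000000000000000000000000000000000000000000000000000000000000000000000000000000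
theorem t4b : rng plan m4b = true := by decide +kernel
def m10a : ℕ := nat_lit 0x4000000000000000000000000000000000000000000000000000000000000000000400000008000000000000000000000000000000000000000000000000000000000000000000000000000000000000000000000000000000000000000000000000000000000000000000000000000000000000000000000000000040000200000000000000000000000000000000000000000000000004000800040020000000000000000000000000000000000000000000000000000000800800000000200000000000000000000000000000000000000000000000000000000000000000000000000000000000000000000000000000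
theorem t10a : rng plan m10a = true := by decide +kernel
def m10b : ℕ := nat_lit 0x8000000000000000000000000000000000000000000000000000100000000000000000000000000000000000000000000000000000000000000000000000000000000000000000000000000000000000004000000000000000000000000000000000000000000000000000000000000000000002000000040000000000000000000000000000000000000000000001000020010000000000000000000000000000000000000000000000000000000800400000000100000000000000000000000000000000000000000000000000000000000000000000000000000000000000000000000000000000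
theorem t10b : rng plan m10b = true := by decide +kernel
def m16a : ℕ := nat_lit 0x100000000000100000000000000000000000000000000000000000000000000000000000000800000000000000000000000000000000000000000000010000000000020000000000000000000000000000000000000000000000020000000000020000000000000000000000000000000000000000000000000100000000000000000000000000000000000000000000000000000000000000000000000800100000000000000000000000000000000000000000000000080000000000000000000000000000000000000000000000000000000000000000001000000000000000000000000000000000000000000000000000000000000000000000000000000000000000000000000000000000000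
theorem t16a : rng plan m16a = true := by decide +kernel
def m16b : ℕ := nat_lit 0x100000000000000000000000000000000000000000000000000000200000000000000400000000000000000000000000000000000000000000000000020000000000000000000000000000000000000000000000000000200000000020000000000000000000000000000000000000000000000000200020000000000000000000000000000000000000000000000000000000000000000000000008000000000000000000000000000000000000000000000400000000200000000000000000000000000000000000000000000000000000000000000000000000000000000000000000000000000000000000000000000000000000000000000000000000000000000000000000000000000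
theorem t16b : rng plan m16b = true := by decide +kernel
def m22a : ℕ := nat_lit 0x800008000000000000000000000000000000000000000000000000010000000000000000000000000000000000000000000000000000000000000004000000000000000000000000000000000000000000000000000000000000000000000000000000000000000000000000000000000000000000000004000000000040000000000000000000000000000000000000000000000400000000000000000040000000000000000000000000000000000000000000000000100000000000000000000000000000000000000000000000000000000200000000001000000000000000000000000000000000000000000000000000000000000000000000000000000000000000000000000000000000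
theorem t22a : rng plan m22a = true := by decide +kernel
def m22b : ℕ := nat_lit 0x2000000008000000002000000000000000000000000000000000000000000000001000000000000000000000000000000000000000000000000000000000000000000000000040000000000000000000000000000000000000000000000000000000000000000000000000000000000000000000000000000000000000000100000008000000000000000000000000000000000000000000200000000000000000000000000000000000000000000000000000000000000004000000000004000000000000000000000000000000000000000000000000000000100000000000000000000000000000000000000000000000000000000000000000000000000000000000000000000000000000000000000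
theorem t22b : rng plan m22b = true := by decide +kernel
def m28a : ℕ := nat_lit 0x100000000000000000000000000000000040000000000000000000000000000000000000000000008000000000001000000000000000000000000000000000000004000000000000000000000200000000000000000000000000000000000000000000000000000000000000000000000000000000000000000000000000100000000000000000000008001000000000000000000000000000000000000000000000000000000000000000000000000000000000000000000000000000000000000000040000000000000000000000000000000000000000000000000000000000000000000000000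
theorem t28a : rng plan m28a = true := by decide +kernel
def m28b : ℕ := nat_lit 0x1000000000000000000000000000000000000020000000000000000000000200000000000000000000000000000000000100000000000000000000200000000000040000000000000000000000000000000000000000000000000000000000000000000000000000000000000000000000000000000000000000000200040000000000000000000000000000020000000000000000000000000000000000000000000000000000000000000000000000000000000000000000000000000000000000000000000000000000000000000000000000000000000000000
theorem t28b : rng plan m28b = true := by decide +kernel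
def m34a : ℕ := nat_lit 0x80000000000000000000000000000000000000000000000000000000200000000000000000000400000000000000000000000000000000000000000000000000000000000000000000000000000000000000000000000400000000000000000080000000000000400000000000000000000000000000000000000000000000000000000008000000000000000000000000000000000000000040000000000000000000000000000000000000000000000000000000000000000000000000000000000000000000000000000000000000008000000000000000000000000000000000000000000000000000000000000000000000000000000000000000000000
theorem t34a : rng plan m34a = true := by decide +kernel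
def m34b : ℕ := nat_lit 0x8000000000000000000000000000000000000000000000000000000000000000010000000000000000000000000000000000000000000000000000004000000000000000000000000000000000000000000000000000000000080000000000000000000000004000000000000000000000000000001000000000000000000000000000000000000000000000000000000100000000000000000000000000000000000000000000000000000000000000000000000000000000000000000040000000000000000000000000000000000000000000000000000000000000000000000000000000000000000000000000000000000000000000000000000000000
theorem t34b : rng plan m34b = true := by decide +kernel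
def m40a : ℕ := nat_lit 0x10000000000000002000000000000000000000000000000000080000000000000000000000000000000000000000000000000000000000001000000000010000000000000000000000000000000000000000000000000000000010000000000000000000000000000000000000000000000000000000000000000000000000000000000000000000000000000000000000008000000000000040000000000000000000000000000000000000000000000000000000000000000000000000000000000000000000000000000000000000000000000000000000000000000000000000
theorem t40a : rng plan m40a = true := by decide +kernel
def m40b : ℕ := nat_lit 0x200000000000000000002000000010000000000000000000000000000000000000000000000100000000000000000000000000000000000000000000000000000000400200000000000000000000000000000000000000000000000000000000000000000000000000000000000000000000000000000000000000000000000000000010000000000000000000000000000000000000000000400000000000000000000000000000000000000000000000000000000000000000000000000000000000000000000000000000000000000000000000000000000000000000000000000000000000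
theorem t40b : rng plan m40b = true := by decide +kernel
def m46a : ℕ := nat_lit 0x2000000000000000000000000000000000800000000000000000000000000000000000000000000000000000000080000000000000000000000000000000000000000400000000000000000000000000000000000000000000000000200000000000000000000000000000000000000000000000000000000000000000000000000008000000000000000000000000000000000000000000000000000000000000040000000000000000000000000000000000000000000000000000000000000000000000000040000000000000000000000000000000000000000000000000000000000000000000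
theorem t46a : rng plan m46a = true := by decide +kernel
def m46b : ℕ := nat_lit 0x20000000000000000000000000000000000000000040000000000000000000000000000000000000000000000000000000000000020000000000000000000000000000000000000000000000000000000008000000000000000000000000001000000000000000000000000000000000000000000000000000000000000000000000000000000000000000000000000000080000000000000000000000000000000000000000000000000000000000000000001000000000000000000000000000000000000000000000000000000080000000000000000000000000000000000000000000000000000000000000000000000000000000000000000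
theorem t46b : rng plan m46b = true := by decide +kernel
def m52a : ℕ := nat_lit 0x100000000000000000000000000000800000000000000000000000000000000000000000000000000000000000008000000000000000000000000000000000000000000000000004000000020000000000000000000000000000000000000000000000000000000000000000000000000000000000000000000000000000000000000000000000000000000000000000000000000000000000000000000000000400000000000008000000000000000000000000000000000000080000000000000000000000000000000000000000000000000000000000000000000000000000000000000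
theorem t52a : rng plan m52a = true := by decide +kernel
def m52b : ℕ := nat_lit 0x1000000000000000000000000000000000000000000000000000000000000000001000000000000000000000000000000000000000000000000000000000000000000000000002000000000000000000000000000000000000000000200000000000000000000400000000000000000000000000000000000000000000000000000000000000000000000000000000000000000000000000000000000000000080000000000000000000000000000000000000000000000000000000000000020000000000000000000000000000000000000008000000000000000000000000000000000000000000000000000000000000000000000000000000000000000000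
theorem t52b : rng plan m52b = true := by decide +kernel
def m58a : ℕ := nat_lit 0x100000000000000000000000000000000000000000000000008000000000000000000000000000000000000000000000000000000000000800000002000000000000000000000000000000000000000008000000000000000000000000000000000000000000000000000000040000000000000000000000000000000000000000000000000000000000000000004000000000000000000000000000000000000000000000000000000000000000000000000000000000000000000000000000000000000000000200000000000000000000000000000000000000000000000000000000000000000000000000000000000000000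
theorem t58a : rng plan m58a = true := by decide +kernel
def m58b : ℕ := nat_lit 0x4000000000000000000000000000000000000000000000001000000000000000000000000000000000000000000000000000000000000004000000000000000200000000000000000000000000000200000000000000000000000000000000000000000000000000000000000000000002000000000000000000000000000000000000000000000000000000800000000000000000000000000000000000000000000000000000000000000000000000000000000000000004000000000000000000000000000000000000000000000000000000000000000000000000000000000000000000000000000000000000000000000000000000000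
theorem t58b : rng plan m58b = true := by decide +kernel
def m64a : ℕ := nat_lit 0x2000000000000000000000000000000000000000000001000000000000000000000000000000000000000000000000000000000000000000000000000000000000000000020000000000000000000000000000000000000002000000000000000000000000000000000000000000000000010000000000000000000000000000000000000000000000000000000008000000000000000000000000000000000000000000000000000000000000000000000000000000000000100000000000000000000000000000000000000000000000000080000000000000000000000000000000000000000000000000000000000000000000000000000000000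
theorem t64a : rng plan m64a = true := by decide +kernel
def m64b : ℕ := nat_lit 0x80000000000000000000100000000000000000000000000000000000000000000000000000000000000000000000000000000000000000000000000000000000000080000000000000000000000000000000000000000000000000020000000000000000000000000000000000000000000000000000000000000080000000000000000000000002000000000000000000000000000000000000000000000000000000000000000000000000000000000000000000000000000000000000000000200080000000000000000000000000000000000000000000000000000000000000000000000000000000000000000000000000000000000000000000000000000000000000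
theorem t64b : rng plan m64b = true := by decide +kernel
def m70a : ℕ := nat_lit 0x2000000000000000000000000000000000000000000000000000020000000000000000000000000000000000000000000000000000000000000000000040000000000000000000000000000000000000000000000000000000000080000000000000000000000000000000000000000000000000000000000000000000000000000000000000000000000004000000000000000000000000000000000000000000000000000040000000000000000000000100000000000000000000000000000000000000200000000000000000000000000000000000000000000000000000000000000000000000000000000000000000000000000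
theorem t70a : rng plan m70a = true := by decide +kernel
def m70b : ℕ := nat_lit 0x100000000000000000000000000000000000000000000000000000000000010000000000000000000000000200000000000000000000000000000000000000000000000000000000000000000400000000000000000000000000000000000000000000000000000000001000000000000000000000000000000000000000000000000000000000000000000000000000000000000000000000000800000000000000000000000000000000000000000000000000000000000000000008000000000000010000000000000000000000000000000000000000000000000000000000000000000000000000000000000000000000000000000000000000000000000000000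
theorem t70b : rng plan m70b = true := by decide +kernel
def m76a : ℕ := nat_lit 0x40000000000000000000000000000000000080000000000000000000000000000000004000000000000000000000000000000000000000000000000000000000010000000002000000000000000000000000000000000000000000000000000000000000000000000000000000000000000000000000000000000008000000000000000000000000000000000000000000000000000000000000000000000000000000000000000800000000000000000000000000000000004000000000000000000000000000000000000000000000000000000000000000000000000000000000000000000000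
theorem t76a : rng plan m76a = true := by decide +kernel
def m76b : ℕ := nat_lit 0x80000000000000000000000000000000000000000000000000000000400000000000000010000000000000000000000000000000000000080000000000000000000000000000000000000000000000000000000008000000000000000000000000000000000000000000000000000000000000200000000000000000000000000000000000000000000000000000000000000000000000000000000000000000000000000000000000000000000000000800000000000000000020000000000000000000000000000000000000000000000000000000000000000000000000000000000000000000000000000000000000000000000000000000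
theorem t76b : rng plan m76b = true := by decide +kernel
def m82a : ℕ := nat_lit 0x400000000000000000000000000000000000000040000000000000000000000001000000000000000000000000000000000000000000000000000000000000000000000000000000000000000000000000000000000000000000000000000000000000000000000000000000000000000000000000000000010000000000000000000000000000000000000000001020000000000000008000000000000000000000000000000000000000000000000000000000000000000000000000000000000000000000000000000000000000000000000000000004000000000000000000000000000000000000000000000000000000000000000000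
theorem t82a : rng plan m82a = true := by decide +kernel
def m82b : ℕ := nat_lit 0x80000000000000000000000000000000000000000000000000000000002000000000000000000000000000000000000400000000000000000000000000000000000000000000000000000000000000000000000000000000000000000000000000000000000000000000000000000000000000000000000000000000000000000000000000000000020000200000000000000800000000200000000000000000000000000000000000000000000000000000000000000000000000000000000000000000000000000000000000000000000000000000000000000000000000000000000000000000000000000000000000000000000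
theorem t82b : rng plan m82b = true := by decide +kernel
def m88a : ℕ := nat_lit 0x2000000000000004000000000000000000000000000000000000000000000000000000000000000000000000000000000000000000000000000000100000000000000000000000000000000000000000000000000000000000000000000000000000100000000000000000000000000000000000000000000000000000000000000000000008000000000000000000000000000000000000000000000000000000000000000000000000000000000000000000000000000040000000000000000000000010000000000000000000000000000000000000000000001000000000000000000000000000000000000000000000000000000000000000000000000000000000000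
theorem t88a : rng plan m88a = true := by decide +kernel
def m88b : ℕ := nat_lit 0x80000000000000000002000000000000000000000000000000000000000000000000000000000000000000000000000000000000000000000000000000000000010000000000000000000000000000000000000000000000000000000000000000000000000000000000000000000000000000000000000000002000000000000000000000000000000000000000000000000000000000000400000000000000000000000000000000000000000000000000000002000000000000000000000080000000000000000000000000000000000000000000000000000000000000000000000000000000000000000000000000000000000000000000000000000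
theorem t88b : rng plan m88b = true := by decide +kernel
def m94a : ℕ := nat_lit 0x80000000000000000000000000000000000000000000000000000002000000000000000000000000000000000000000000000800000000000000000000000000004000000000000000000000000000000000000000000000000000000200000000000000000000000000000000000000200000000000000000000000000000000000000000000000000000000000000000000000000000000000000000000000000000000000000000000000000000000020000000000000000000000000000000000000000000000000000000000000002000000000000000000000000000000000000000000000000000000000000000000000000000000000000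
theorem t94a : rng plan m94a = true := by decide +kernel
def m94b : ℕ := nat_lit 0x400000000000000800000000000000000000000000000000000000000000020000000000000000000000000000000000000000000000000000002000000000000000000000000000002000000000000000000000000000000004000000000000000000000000000000000000000000000000000000000000000000000000000000000000000000000000000000000000000000000000000000000000000000000000000000000000000000000000000000000002000000000000000000000000000000000000000000000000000000000000000000000000000000000000000000000
theorem t94b : rng plan m94b = true := by decide +kernel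
def m100a : ℕ := nat_lit 0x40000000000000000000000000000000000000000000000000000000000000000000000000000000000000000000000000000000000000100000000000000001000000000000000000000000000000000000000000000000000000000000000000000000000000000000000000800000000400000000000000000000000000000000000000000000000000000000000000000000000000000000000000000000000000000000000000000400000000000000000000000000000000000000000000000000000000000000001000000000000000000000000000000000000000000000000000000000000000000000000000000000000000
theorem t100a : rng plan m100a = true := by decide +kernel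
def m100b : ℕ := nat_lit 0x4000000000000000000000000000000000000000000000000000000004000000000000000000000000000000000000000000000000000000000000000000000000000000000800000000000000000000000000000000000004000000000000000000000000000000000000000000000000000000000000001000000000000000000000000100000000000000000000000000000000000000000000000000000000000000000000000000000000000000000000000000000000000000000000000000000000000000000000000000000000000000400000000000000000000000000000000000000000000000000000000000000000000000000000000000000000
theorem t100b : rng plan m100b = true := by decide +kernel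
def m127a : ℕ := nat_lit 0x20000000000000000000000000000000000000000000000000000000000000000000000000000000000000000000000000000000000000000000000000000000000000000000000000000000000000000000000000000000000000000000000000000000000000000000000000000000000000000000000000020000000000000000000000000000000000000000000000000000000000000
theorem t127a : rng plan m127a = true := by decide +kernel
def m127b : ℕ := nat_lit 0x800000000000000000000000000000000000000000000000000000000000000000000000000000000000000000000000000000000000000000000000000000000000000000000000000000000000000000000000000000000000000000000000000000000000000000000000000000000000000000000000000800000000000000000000000000000000000000000000000000000000000000000000000000000000000000000000000000000000000000000000000000000000000000000000000000000000000000000000000000000000000000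
theorem t127b : rng plan m127b = true := by decide +kernel
def m130a : ℕ := nat_lit 0x4000000000000000000000000000000000000000000000000000000000000000000000000000000000000000000000000000000000000000000000000000000000000000000000000000000000000000000000000000000000000000000000000000000000000000000000000000000000000000000000000000000000000000000000000000000000000000000000000000000000000000000000000000000000000000000000000000000000000010010000002000800000000000000000000000000000000000000001
theorem t130a : rng plan m130a = true := by decide +kernel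
def m130b : ℕ := nat_lit 0x2000000100000080002000000000000000000000000000000000000000004
theorem t130b : rng plan m130b = true := by decide +kernel

def l00 : List ℕ := [m4a, m4b, m10a, m10b, m16a, m16b, m22a, m22b, m28a, m28b, m34a, m34b, m40a, m40b, m46a, m46b, m52a, m52b, m58a, m58b, m64a, m64b, m70a, m70b, m76a, m76b, m82a, m82b, m88a, m88b, m94a, m94b, m100a, m100b, m127a, m127b, m130a, m130b]

theorem b00 : ∀ M ∈ l00, rng plan M = true :=
  List.forall_mem_cons.2 <| And.intro t4a <|
  List.forall_mem_cons.2 <| And.intro t4b <|
  List.forall_mem_cons.2 <| And.intro t10a <|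
  List.forall_mem_cons.2 <| And.intro t10b <|
  List.forall_mem_cons.2 <| And.intro t16a <|
  List.forall_mem_cons.2 <| And.intro t16b <|
  List.forall_mem_cons.2 <| And.intro t22a <|
  List.forall_mem_cons.2 <| And.intro t22b <|
  List.forall_mem_cons.2 <| And.intro t28a <|
  List.forall_mem_cons.2 <| And.intro t28b <|
  List.forall_mem_cons.2 <| And.intro t34a <|
  List.forall_mem_cons.2 <| And.intro t34b <|
  List.forall_mem_cons.2 <| And.intro t40a <|
  List.forall_mem_cons.2 <| And.intro t40b <|
  List.forall_mem_cons.2 <| And.intro t46a <|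
  List.forall_mem_cons.2 <| And.intro t46b <|
  List.forall_mem_cons.2 <| And.intro t52a <|
  List.forall_mem_cons.2 <| And.intro t52b <|
  List.forall_mem_cons.2 <| And.intro t58a <|
  List.forall_mem_cons.2 <| And.intro t58b <|
  List.forall_mem_cons.2 <| And.intro t64a <|
  List.forall_mem_cons.2 <| And.intro t64b <|
  List.forall_mem_cons.2 <| And.intro t70a <|
  List.forall_mem_cons.2 <| And.intro t70b <|
  List.forall_mem_cons.2 <| And.intro t76a <|
  List.forall_mem_cons.2 <| And.intro t76b <|
  List.forall_mem_cons.2 <| And.intro t82a <|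
  List.forall_mem_cons.2 <| And.intro t82b <|
  List.forall_mem_cons.2 <| And.intro t88a <|
  List.forall_mem_cons.2 <| And.intro t88b <|
  List.forall_mem_cons.2 <| And.intro t94a <|
  List.forall_mem_cons.2 <| And.intro t94b <|
  List.forall_mem_cons.2 <| And.intro t100a <|
  List.forall_mem_cons.2 <| And.intro t100b <|
  List.forall_mem_cons.2 <| And.intro t127a <|
  List.forall_mem_cons.2 <| And.intro t127b <|
  List.forall_mem_cons.2 <| And.intro t130a <|
  List.forall_mem_cons.2 <| And.intro t130b <|
  List.forall_mem_nil _

end Cfsg.Agent.H908.P9.Run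
end

-- part: H114/E8L/Stmt
section
set_option linter.all false
open scoped Cfsg.Agent.FastGrp

/-- Laplace expansion which skips zero entries -/
private noncomputable def detL_a71f0 {R : Type*} [CommRing R] [DecidableEq R] (n : ℕ) : Matrix (Fin n) (Fin n) R → R :=
  @Nat.rec (fun n => Matrix (Fin n) (Fin n) R → R) (fun _ => 1) (fun n ih M =>
    ∑ j : Fin (n + 1), if M 0 j = 0 then 0 else (-1) ^ (j : ℕ) * M 0 j * ih (M.submatrix Fin.succ j.succAbove)) n

private theorem detL_eq_a71f0 {R : Type*} [CommRing R] [DecidableEq R] {n : ℕ} (M : Matrix (Fin n) (Fin n) R) :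
    M.det = detL_a71f0 n M := by
  induction n with
  | zero => exact Matrix.det_fin_zero
  | succ n ih =>
    rw [Matrix.det_succ_row_zero]
    refine Finset.sum_congr rfl fun j _ => ?_
    by_cases h : M 0 j = 0
    · rw [if_pos h, h, mul_zero, zero_mul]
    · rw [if_neg h, ih]
      rfl



/-!
# S5925: statements of the boxes (helper114)
-/

set_option autoImplicit false

namespace Cfsg.Agent.H114.E8L

open Matrix Cfsg Cfsg.Lie Cfsg.Agent.H238.E8 Cfsg.Agent.H791.E8L
open Cfsg.Agent.ChevalleyStructure Cfsg.Agent.ChevalleyStructure.Elts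

/-- `E₈(3)` -/
abbrev G3 : Type := ↥(chevE8.group (ZMod 3))
/-- the Lie algebra -/
abbrev L3 : Type := chevE8.Idx → ZMod 3
/-- the action -/
abbrev ac (g : G3) (v : L3) : L3 := ((g : GL chevE8.Idx (ZMod 3)) : Matrix chevE8.Idx chevE8.Idx (ZMod 3)) *ᵥ v

theorem ac_mul (g h : G3) (v : L3) : ac (g * h) v = ac g (ac h v) := by
  unfold ac
  rw [Matrix.mulVec_mulVec, Subgroup.coe_mul, Units.val_mul]

theorem ac_one (v : L3) : ac 1 v = v := by
  unfold ac
  rw [Subgroup.coe_one, Units.val_one, Matrix.one_mulVec]

/-- order 11 -/
def Mo : Matrix (Fin 5) (Fin 5) (ZMod 3) := !![1,0,1,1,2; 1,1,2,0,2; 2,1,1,2,0; 2,2,1,1,2; 0,2,2,1,1]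
/-- order 5 -/
def Fr : Matrix (Fin 5) (Fin 5) (ZMod 3) := !![1,0,0,2,0; 0,0,2,1,0; 0,0,1,0,1; 0,1,0,0,1; 0,0,0,2,1]
theorem Mo_det : Mo.det = 1 := by (simp only [detL_eq_a71f0]; decide +kernel)
theorem Fr_det : Fr.det = 1 := by (simp only [detL_eq_a71f0]; decide +kernel)
def MoS : SpecialLinearGroup (Fin 5) (ZMod 3) := ⟨Mo, Mo_det⟩
def FrS : SpecialLinearGroup (Fin 5) (ZMod 3) := ⟨Fr, Fr_det⟩

noncomputable def x0 : G3 := ph2 (ZMod 3) MoS
noncomputable def y2 : G3 := ph2 (ZMod 3) FrS
noncomputable def y0 : G3 := ph2 (ZMod 3) FrS * ph1 (ZMod 3) FrS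

/-- the diagonal `SL₅(3)` -/
noncomputable def dg (A : SpecialLinearGroup (Fin 5) (ZMod 3)) : G3 := ph2 (ZMod 3) A * ph1 (ZMod 3) A⁻¹.transpose

def X1 : Matrix (Fin 5) (Fin 5) (ZMod 3) := !![0,1,2,1,1;1,0,0,0,0;0,1,0,0,0;0,0,1,0,0;0,0,0,1,0]
def Y1 : Matrix (Fin 5) (Fin 5) (ZMod 3) := !![1,0,0,0,0;0,0,0,0,1;2,2,0,1,1;0,1,0,0,0;1,0,2,1,2]
def T1 : Matrix (Fin 5) (Fin 5) (ZMod 3) := !![1,0,0,0,0;0,1,0,0,0;0,1,2,1,1;0,0,0,0,1;0,0,0,1,0]
def F1 : Matrix (Fin 5) (Fin 5) (ZMod 3) := !![2,0,0,0,0;0,2,0,0,0;2,2,2,0,2;2,0,1,2,1;2,1,2,2,0]
def Si : Matrix (Fin 5) (Fin 5) (ZMod 3) := !![2,0,1,0,0;1,1,2,1,0;1,1,1,1,0;0,1,2,2,2;1,2,1,0,0]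
theorem X1_det : X1.det = 1 := by (simp only [detL_eq_a71f0]; decide +kernel)
theorem Y1_det : Y1.det = 1 := by (simp only [detL_eq_a71f0]; decide +kernel)
theorem T1_det : T1.det = 1 := by (simp only [detL_eq_a71f0]; decide +kernel)
theorem F1_det : F1.det = 1 := by (simp only [detL_eq_a71f0]; decide +kernel)
noncomputable def x1 : G3 := dg ⟨X1, X1_det⟩
noncomputable def y1 : G3 := dg ⟨Y1, Y1_det⟩
noncomputable def t1 : G3 := dg ⟨T1, T1_det⟩
noncomputable def f1 : G3 := dg ⟨F1, F1_det⟩
/-! ## the boxes -/

/-- box B2 -/
def B2 : Prop := ∀ x : G3, x ^ 11 = 1 → x ≠ 1 → ∃ g : G3, g * x * g⁻¹ = x0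

/-- uniqueness (boxes F, F2, G, H, Q, I) -/
def Uniq0 : Prop := ∀ t t' : G3, Rel x0 y0 t → Rel x0 y0 t' →
  ∃ κ : G3, κ * x0 = x0 * κ ∧ κ * y0 = y0 * κ ∧ κ * t * κ⁻¹ = t'

/-- no common fixed vector -/
def NF (x y t : G3) : Prop := ∀ v : L3, ac x v = v → ac y v = v → ac t v = v → v = 0

/-- box E (case `y ~ y2`, no fixed vector) -/
def BE : Prop := ∀ t : G3, Rel x0 y2 t → ¬ NF x0 y2 t

/-- box M: the words `w`, `w'` in `x, y, t, f` (letters 0, 1, 2, 3) are equal in `M₁₁` (test `eqP` of helper837) -/
def BM (eqP : List (Fin 4) → List (Fin 4) → Bool) : Prop := ∀ t f : G3, Rel x0 y2 t →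
  (∀ w w' : List (Fin 4), eqP w w' = true → (w.map ![x0, y2, t, f]).prod = (w'.map ![x0, y2, t, f]).prod) →
  (∀ v : L3, ac x0 v = v → ac y2 v = v → ac t v = v → ac f v = v → v = 0) → False

/-- every element of order 11 has a partner of order 121 (box P0) -/
def BP : Prop := ∀ x : G3, x ^ 11 = 1 → x ≠ 1 → ∃ x' : G3, orderOf x' = 121 ∧ ∀ v : L3, ac x v = v → ac x' v = v

/-! ## first assembly -/

end Cfsg.Agent.H114.E8L
end
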